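import Cfsg.Agent.H85.D1.BlockMain
import Cfsg.Agent.H22.ValueMod

/-!
Defect one (helper85): elements of a Sylow subgroup of order `p` act as scalars in an irreducible
representation of degree less than `(p - 1) / 2` of a group generated by elements of order `p`.
-/

set_option autoImplicit false
set_option linter.style.haveILetI false
set_option linter.unusedSectionVars false

open Cfsg
open scoped ComplexConjugate

namespace H85.D1

universe u

theorem sum_erase_one_lin {A : Type*} [Group A] [Fintype A] [DecidableEq A] {ψ : A →* ℂˣ}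
    (hψ : ψ ≠ 1) : ∑ x ∈ Finset.univ.erase (1 : A), (ψ x : ℂ) = -1 := by
  classical
  rw [Finset.sum_erase_eq_sub (Finset.mem_univ _), H20.sum_lin, if_neg hψ, map_one, Units.val_one,
    zero_sub]

theorem sum_erase_one_mul_conj {A : Type*} [Group A] [Fintype A] [DecidableEq A]
    {ψ φ : A →* ℂˣ} (hne : ψ ≠ φ) :
    ∑ x ∈ Finset.univ.erase (1 : A), (ψ x : ℂ) * conj (φ x : ℂ) = -1 := by
  classical
  rw [Finset.sum_erase_eq_sub (Finset.mem_univ _),
    Finset.sum_congr rfl fun x _ => mul_comm (ψ x : ℂ) (conj (φ x : ℂ)),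
    H20.sum_conj_mul_lin, if_neg hne]
  simp

theorem exists_sum_res {A : Type*} [Group A] [Fintype A] {ω : A → ℂ} (hω : IsCharacter A ω)
    (Q : Subgroup A) [Fintype Q] :
    ∃ k : ℕ, ∑ x : Q, ω x = (Nat.card Q : ℂ) * k := by
  obtain ⟨k, hk⟩ := H12.IsCharacter.classInner_nat (H12.IsCharacter.res hω Q)
    (H12.isCharacter_one (G := Q))
  rw [H12.classInner_def] at hk
  simp only [map_one, mul_one] at hk
  exact ⟨k, by rw [← hk, ← mul_assoc, mul_inv_cancel₀ H12.card_ne_zero', one_mul]⟩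

variable {G : Type u} [Group G] [Fintype G] {p : ℕ} [hp : Fact p.Prime]
  {P : Sylow p G} {u a : G} {H : Subgroup G} [Fintype H]

local notation "CP" => Subgroup.centralizer ((P : Subgroup G) : Set G)
local notation "NP" => Subgroup.normalizer ((P : Subgroup G) : Set G)

namespace Setting

variable (D : Setting P u a H)
include D

theorem exists_col_one (φ : IrrCharacter H) (χ : IrrCharacter G) :
    ∃ d : ℕ, D.col φ χ 1 = d := by
  rw [← D.classInner_shift]
  simp only [one_mul]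
  exact H12.IsCharacter.classInner_nat (H12.IsCharacter.res (H12.isCharacter_irr χ) H)
    (H12.isCharacter_irr φ)

theorem exists_sum_col [Fintype (P : Subgroup G)] (φ : IrrCharacter H) (χ : IrrCharacter G) :
    ∃ m : ℕ, ∑ x : (P : Subgroup G), D.col φ χ x = (p : ℂ) * m := by
  let ι : ↥(P : Subgroup G) × ↥H →* G :=
    MonoidHom.noncommCoprod (P : Subgroup G).subtype H.subtype fun x h => D.comm x.2 h.2
  have hres : IsCharacter (↥(P : Subgroup G) × ↥H) ((χ : G → ℂ) ∘ ι) :=
    H12.IsCharacter.comp (H12.isCharacter_irr χ) ι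
  obtain ⟨m, hm⟩ := H12.IsCharacter.classInner_nat hres
    (H12.IsCharacter.comp (H12.isCharacter_irr φ) (MonoidHom.snd ↥(P : Subgroup G) ↥H))
  refine ⟨m, ?_⟩
  rw [← hm, H12.classInner_def, Nat.card_prod, Nat.card_eq_fintype_card (α := H),
    Fintype.sum_prod_type, Nat.cast_mul, D.hP, mul_inv, mul_assoc, ← mul_assoc (p : ℂ),
    mul_inv_cancel₀ (Nat.cast_ne_zero.2 hp.out.ne_zero), one_mul, Finset.mul_sum]
  exact Finset.sum_congr rfl fun x _ => rfl

theorem stab_one : D.stab (H12.oneIrr H) = NP :=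
  le_antisymm (fun n hn => hn.1) fun n hn => ⟨hn, fun _ _ _ => rfl⟩

theorem aut_le (θ : IrrCharacter H) : D.aut θ ≤ D.aut (H12.oneIrr H) := by
  intro α hα
  obtain ⟨t, ht, h⟩ := D.mem_aut_iff.1 hα
  exact D.mem_aut_iff.2 ⟨t, by rw [D.stab_one]; exact ht.1, h⟩

theorem orbit_one : D.orbit (H12.oneIrr H) = {H12.oneIrr H} := by
  refine Set.Subset.antisymm ?_ (Set.singleton_subset_iff.2 (D.mem_orbit_self _))
  rintro φ ⟨n, hn, rfl⟩
  rw [Set.mem_singleton_iff, D.irrCongr_eq_iff _ hn, D.stab_one]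
  exact hn

theorem card_orbit_mul (θ : IrrCharacter H) :
    Nat.card (D.orbit θ) * Nat.card (D.aut θ) = Nat.card (D.aut (H12.oneIrr H)) := by
  rw [← D.relIndex_normalizer θ, ← D.relIndex_stab, D.stab_one]

theorem apply_singular_eq {F : G → ℂ} (hF : IsClassFunction G F) {c : ℂ}
    (h : ∀ x ∈ (P : Subgroup G), x ≠ 1 → ∀ k : H, F (x * k) = c) {g : G} (hg : p ∣ orderOf g) :
    F g = c := by
  obtain ⟨x, hx, hx1, k, hk, hconj⟩ := D.exists_isConj_singular hg
  rw [H12.IsClassFunction.of_isConj hF hconj]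
  exact h x hx hx1 ⟨k, hk⟩

theorem u_ne_one : u ≠ 1 := fun h =>
  hp.out.ne_one (by rw [← D.frame.orderOf_u, h, orderOf_one])

variable {M : Ideal AlgInt} [hMp : M.IsPrime]

theorem exists_mem_supp_of_lt (hM : IsPModular p M) {χ : IrrCharacter G}
    (h : H12.degree (χ : G → ℂ) < p) : ∃ θ, χ ∈ D.supp θ := by
  refine D.exists_mem_supp hM ?_
  have h0 : (charDegree (χ : G → ℂ)).factorization p = 0 := by
    rw [H20.charDegree_eq_degree]
    exact Nat.factorization_eq_zero_of_lt h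
  have hinf : sInf ((fun η : IrrCharacter G => (charDegree (η : G → ℂ)).factorization p) ''
      blockOf M (χ : G → ℂ)) ≤ 0 := Nat.sInf_le ⟨χ, H20.mem_blockOf_self χ, h0⟩
  rw [blockDefect, D.factorization_card]
  omega

/-- The values on `P` as sums of conjugates of one linear character. -/
theorem exists_terms (hM : IsPModular p M) (θ : IrrCharacter H) [Fintype (D.aut θ)]
    [Fintype (D.orbit θ)] :
    ∃ g : D.orbit θ × D.aut θ → D.aut (H12.oneIrr H), ∀ χ ∈ D.supp θ,
      ∀ (ψ : (P : Subgroup G) →* ℂˣ) (ε : ℤ),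
        (∀ x : (P : Subgroup G), x ≠ 1 →
          D.col θ χ x = (ε : ℂ) * ∑ α : D.aut θ, (ψ ((α : MulAut (P : Subgroup G)) x) : ℂ)) →
        ∀ x : (P : Subgroup G), x ≠ 1 → (χ : G → ℂ) x =
          (ε : ℂ) * (H12.degree (θ : H → ℂ) : ℂ) * ∑ i, (twist ψ (g i) x : ℂ) := by
  classical
  choose n hn hno using fun o : D.orbit θ => o.2
  let β : D.orbit θ → D.aut (H12.oneIrr H) := fun o =>
    ⟨(P : Subgroup G).normalizerMonoidHom ⟨n o, hn o⟩,
      D.mem_aut_iff.2 ⟨n o, by rw [D.stab_one]; exact hn o, fun x => rfl⟩⟩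
  refine ⟨fun i => ⟨i.2, D.aut_le θ i.2.2⟩ * β i.1, fun χ hχ ψ ε hcol x hx => ?_⟩
  have hx1 : (x : G) ≠ 1 := fun h => hx (Subtype.ext h)
  have h1 := D.apply_eq_sum_orbit hM hχ x.2 hx1 (1 : H)
  rw [Subgroup.coe_one, mul_one] at h1
  rw [h1]
  refine (Finset.sum_subtype (p := fun φ => φ ∈ D.orbit θ)
    (F := ‹Fintype (D.orbit θ)›) _ (fun φ => ?_) _).trans ?_
  · simp
  rw [Fintype.sum_prod_type, Finset.mul_sum]
  refine Finset.sum_congr rfl fun o _ => ?_
  rw [← hno o, D.col_conj θ χ (hn o), H12.irrCongr_apply, map_one, H12.irr_apply_one]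
  have hne : ((β o : MulAut (P : Subgroup G)) x) ≠ 1 := fun h =>
    hx ((map_eq_one_iff _ (MulEquiv.injective _)).1 h)
  rw [show (n o * (x : G) * (n o)⁻¹ : G) = (((β o : MulAut (P : Subgroup G)) x : (P : Subgroup G)) : G)
    from rfl, hcol _ hne, mul_assoc (ε : ℂ), mul_assoc, mul_comm _ (H12.degree (θ : H → ℂ) : ℂ)]
  rfl

/-- Trivial multiplicities: a character that is constant on `P` away from `1`. -/
theorem norm_eq_of_transitive (hf : Nat.card (D.aut (H12.oneIrr H)) + 1 = p) (χ : IrrCharacter G)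
    (hn : H12.degree (χ : G → ℂ) + 1 < p) {x : G} (hx : x ∈ (P : Subgroup G)) :
    ‖(χ : G → ℂ) x‖ = (H12.degree (χ : G → ℂ) : ℝ) := by
  classical
  haveI : Fintype (P : Subgroup G) := Fintype.ofFinite _
  set n := H12.degree (χ : G → ℂ) with hndef
  by_cases hx1 : x = 1
  · rw [hx1, H12.irr_apply_one, Complex.norm_natCast]
  let u' : (P : Subgroup G) := ⟨u, D.u_mem⟩
  have hu' : u' ≠ 1 := fun h => D.u_ne_one (congrArg Subtype.val h)
  let F : D.aut (H12.oneIrr H) → {y : (P : Subgroup G) // y ≠ 1} := fun α =>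
    ⟨(α : MulAut (P : Subgroup G)) u', fun h => hu' ((map_eq_one_iff _ (MulEquiv.injective _)).1 h)⟩
  have hF : Function.Injective F := fun α β h => Subtype.ext (MulEquiv.ext fun y => by
    obtain ⟨i, rfl⟩ := zpowers_top D.hP hu' y
    rw [map_zpow, map_zpow]
    exact congrArg (· ^ i) (congrArg Subtype.val h))
  have hbij : Function.Bijective F := by
    refine (Nat.bijective_iff_injective_and_card F).2 ⟨hF, ?_⟩
    rw [Nat.card_eq_fintype_card (α := {y : (P : Subgroup G) // y ≠ 1}), Fintype.card_subtype_compl,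
      Fintype.card_subtype_eq, ← Nat.card_eq_fintype_card, D.hP]
    omega
  have hconst : ∀ y : (P : Subgroup G), y ≠ 1 → (χ : G → ℂ) y = (χ : G → ℂ) u := by
    intro y hy
    obtain ⟨α, hα⟩ := hbij.2 ⟨y, hy⟩
    obtain ⟨t, -, ht⟩ := D.mem_aut_iff.1 α.2
    rw [← show (α : MulAut (P : Subgroup G)) u' = y from congrArg Subtype.val hα, ht]
    exact H12.irr_isClassFunction χ _ t
  set c := (χ : G → ℂ) u with hc
  obtain ⟨k, hk⟩ := exists_sum_res (H12.isCharacter_irr χ) (P : Subgroup G)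
  obtain ⟨ψ, hψ⟩ := H20.exists_ne_one_of_one_lt (commOf (A := (P : Subgroup G)) D.hP)
    (by rw [D.hP]; exact hp.out.one_lt)
  obtain ⟨j, hj⟩ := H12.IsCharacter.classInner_nat
    (H12.IsCharacter.res (H12.isCharacter_irr χ) (P : Subgroup G))
    (H12.isCharacter_monoidHom ψ)
  rw [H12.classInner_def, inv_mul_eq_iff_eq_mul₀ H12.card_ne_zero', D.hP,
    ← Finset.add_sum_erase _ _ (Finset.mem_univ (1 : (P : Subgroup G))),
    Finset.sum_congr rfl fun y hy => by rw [hconst y (Finset.ne_of_mem_erase hy)],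
    ← Finset.mul_sum, ← map_sum, sum_erase_one_lin hψ] at hj
  rw [← Finset.add_sum_erase _ _ (Finset.mem_univ (1 : (P : Subgroup G))), D.hP,
    Finset.sum_congr rfl fun y hy => hconst y (Finset.ne_of_mem_erase hy)] at hk
  simp only [map_one, map_neg, Units.val_one, mul_one, mul_neg, OneMemClass.coe_one,
    H12.irr_apply_one, ← hndef, Finset.sum_const, Finset.card_erase_of_mem (Finset.mem_univ _),
    Finset.card_univ, ← Nat.card_eq_fintype_card, D.hP, nsmul_eq_mul] at hj hk
  rw [Nat.cast_sub hp.out.one_le, Nat.cast_one] at hk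
  have h3 : n = k + (p - 1) * j := by
    have : ((p * n : ℕ) : ℂ) = ((p * (k + (p - 1) * j) : ℕ) : ℂ) := by
      push_cast [Nat.cast_sub hp.out.one_le]
      linear_combination hk + ((p : ℂ) - 1) * hj
    exact Nat.eq_of_mul_eq_mul_left hp.out.pos (by exact_mod_cast this)
  have hj0 : j = 0 := by
    by_contra h0
    have := Nat.le_mul_of_pos_right (p - 1) (Nat.pos_of_ne_zero h0)
    omega
  rw [hj0, Nat.cast_zero, mul_zero] at hj
  rw [hconst ⟨x, hx⟩ fun h => hx1 (congrArg Subtype.val h),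
    show c = (n : ℂ) by linear_combination -hj, Complex.norm_natCast]

/-- A character with constant column. -/
theorem norm_eq_of_colX (hM : IsPModular p M) {θ : IrrCharacter H} {χ : IrrCharacter G}
    (hχ : χ ∈ D.supp θ) {ε : ℤ} (hε : ε = 1 ∨ ε = -1)
    (hcol : ∀ x : (P : Subgroup G), x ≠ 1 → D.col θ χ x = (ε : ℂ))
    (hn : 2 * H12.degree (χ : G → ℂ) < p) {x : G} (hx : x ∈ (P : Subgroup G)) :
    ‖(χ : G → ℂ) x‖ = (H12.degree (χ : G → ℂ) : ℝ) := by
  classical
  haveI : Fintype (P : Subgroup G) := Fintype.ofFinite _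
  set n := H12.degree (χ : G → ℂ) with hndef
  set c := Nat.card (D.orbit θ) * H12.degree (θ : H → ℂ) with hc
  have hc0 : 0 < c := Nat.mul_pos (Nat.card_pos_iff.2 ⟨⟨⟨θ, D.mem_orbit_self θ⟩⟩, inferInstance⟩)
    (H12.irr_degree_pos θ)
  have hval : ∀ y : (P : Subgroup G), y ≠ 1 → (χ : G → ℂ) y = (ε : ℂ) * c := by
    intro y hy
    have hy1 : (y : G) ≠ 1 := fun h => hy (Subtype.ext h)
    have h1 := D.apply_eq_sum_orbit hM hχ y.2 hy1 (1 : H)
    rw [Subgroup.coe_one, mul_one] at h1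
    rw [h1, Finset.sum_congr rfl (g := fun _ => (ε : ℂ) * (H12.degree (θ : H → ℂ) : ℂ)) fun φ hφ => by
      obtain ⟨m, hm, rfl⟩ := Set.mem_toFinset.1 hφ
      obtain ⟨hy', hy1'⟩ := D.conj_mem_P hm y.2 hy1
      rw [D.col_conj θ χ hm, H12.irrCongr_apply, map_one, H12.irr_apply_one,
        hcol ⟨_, hy'⟩ fun h => hy1' (congrArg Subtype.val h)],
      Finset.sum_const, ← Nat.card_eq_card_toFinset, hc, nsmul_eq_mul]
    push_cast; ring
  by_cases hx1 : x = 1
  · rw [hx1, H12.irr_apply_one, Complex.norm_natCast]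
  have hu' : (⟨u, D.u_mem⟩ : (P : Subgroup G)) ≠ 1 := fun h => D.u_ne_one (congrArg Subtype.val h)
  have hle : c ≤ n := by
    have h1 : ‖(χ : G → ℂ) u‖ ≤ (n : ℝ) := H12.IsCharacter.norm_le (H12.isCharacter_irr χ) u
    rw [show (χ : G → ℂ) u = _ from hval _ hu', norm_mul, Complex.norm_natCast] at h1
    rcases hε with rfl | rfl <;> simp at h1 <;> exact h1
  obtain ⟨k, hk⟩ := exists_sum_res (H12.isCharacter_irr χ) (P : Subgroup G)
  rw [← Finset.add_sum_erase _ _ (Finset.mem_univ (1 : (P : Subgroup G))), D.hP,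
    Finset.sum_congr rfl fun y hy => hval y (Finset.ne_of_mem_erase hy)] at hk
  simp only [OneMemClass.coe_one, H12.irr_apply_one, ← hndef, Finset.sum_const,
    Finset.card_erase_of_mem (Finset.mem_univ _), Finset.card_univ, ← Nat.card_eq_fintype_card,
    D.hP, nsmul_eq_mul] at hk
  rw [Nat.cast_sub hp.out.one_le, Nat.cast_one] at hk
  have h1 : (n : ℤ) + ((p : ℤ) - 1) * (ε * c) = (p : ℤ) * k := by exact_mod_cast hk
  rw [hval ⟨x, hx⟩ fun h => hx1 (congrArg Subtype.val h), norm_mul, Complex.norm_natCast]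
  rcases hε with rfl | rfl
  · have h2 : ((n : ℤ) - c) = (p : ℤ) * (k - c) := by linear_combination h1
    have h3 := Int.eq_zero_of_abs_lt_dvd ⟨_, h2⟩ (abs_lt.2 ⟨by omega, by omega⟩)
    rw [show n = c by omega]; simp
  · have h2 : ((n : ℤ) + c) = (p : ℤ) * (k + c) := by linear_combination h1
    have h3 := Int.eq_zero_of_abs_lt_dvd ⟨_, h2⟩ (abs_lt.2 ⟨by omega, by omega⟩)
    omega

/-- A character with exceptional column. -/
theorem colY_degree (hM : IsPModular p M) {θ : IrrCharacter H} [Fintype (P : Subgroup G)]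
    [Fintype (D.aut θ)] {χ : IrrCharacter G} (hχ : χ ∈ D.supp θ) {ψ : (P : Subgroup G) →* ℂˣ}
    (hψ : ψ ≠ 1) {ε : ℤ} (hε : ε = 1 ∨ ε = -1)
    (hcol : ∀ x : (P : Subgroup G), x ≠ 1 →
      D.col θ χ x = (ε : ℂ) * ∑ α : D.aut θ, (ψ ((α : MulAut (P : Subgroup G)) x) : ℂ))
    (hf : 2 * Nat.card (D.aut (H12.oneIrr H)) + 1 ≤ p) (hn : 2 * H12.degree (χ : G → ℂ) + 1 < p) :
    ε = 1 ∧ H12.degree (χ : G → ℂ) =
      Nat.card (D.aut (H12.oneIrr H)) * H12.degree (θ : H → ℂ) := by
  classical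
  haveI : Fintype (D.orbit θ) := Fintype.ofFinite _
  haveI : Finite ((P : Subgroup G) →* ℂˣ) := H20.finite_dual
  haveI : Fintype ((P : Subgroup G) →* ℂˣ) := Fintype.ofFinite _
  have hA := commOf (A := (P : Subgroup G)) D.hP
  obtain ⟨g, hg⟩ := D.exists_terms hM θ
  have hval := hg χ hχ ψ ε hcol
  set n := H12.degree (χ : G → ℂ) with hndef
  set d := H12.degree (θ : H → ℂ) with hddef
  set f := Nat.card (D.aut (H12.oneIrr H)) with hfdef
  have hI : Fintype.card (D.orbit θ × D.aut θ) = f := by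
    rw [Fintype.card_prod, ← Nat.card_eq_fintype_card, ← Nat.card_eq_fintype_card,
      D.card_orbit_mul]
  have hd0 : 0 < d := H12.irr_degree_pos θ
  have hmult : ∀ φ : (P : Subgroup G) →* ℂˣ, ∃ m : ℕ,
      ∑ x : (P : Subgroup G), (χ : G → ℂ) x * conj (φ x : ℂ) = (p : ℂ) * m := by
    intro φ
    obtain ⟨m, hm⟩ := H12.IsCharacter.classInner_nat
      (H12.IsCharacter.res (H12.isCharacter_irr χ) (P : Subgroup G)) (H12.isCharacter_monoidHom φ)
    rw [H12.classInner_def, inv_mul_eq_iff_eq_mul₀ H12.card_ne_zero', D.hP] at hm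
    exact ⟨m, hm⟩
  choose m hm using hmult
  have hout : ∀ φ : (P : Subgroup G) →* ℂˣ, (∀ i, twist ψ (g i) ≠ φ) →
      (n : ℤ) - ε * (d * f : ℕ) = (p : ℤ) * m φ := by
    intro φ hφ
    have h := hm φ
    rw [← Finset.add_sum_erase _ _ (Finset.mem_univ (1 : (P : Subgroup G))),
      Finset.sum_congr rfl fun x hx => by rw [hval x (Finset.ne_of_mem_erase hx), mul_assoc,
        Finset.sum_mul],
      ← Finset.mul_sum, Finset.sum_comm,
      Finset.sum_congr rfl fun i _ => sum_erase_one_mul_conj (hφ i)] at h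
    simp only [OneMemClass.coe_one, H12.irr_apply_one, ← hndef, map_one, Units.val_one, mul_one,
      Finset.sum_const, Finset.card_univ, hI, nsmul_eq_mul] at h
    have : (((n : ℤ) - ε * (d * f : ℕ) : ℤ) : ℂ) = (((p : ℤ) * m φ : ℤ) : ℂ) := by
      push_cast
      linear_combination h
    exact_mod_cast this
  have h1out : ∀ i, twist ψ (g i) ≠ 1 := fun i h => hψ (twist_eq_one_iff.1 h)
  have hm1 := hout 1 h1out
  have hsum : ∑ φ, m φ = n := by
    have h : ∑ φ : (P : Subgroup G) →* ℂˣ, ∑ x : (P : Subgroup G),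
        (χ : G → ℂ) x * conj (φ x : ℂ) = (p : ℂ) * n := by
      rw [Finset.sum_comm, Finset.sum_eq_single (1 : (P : Subgroup G))]
      · simp only [OneMemClass.coe_one, H12.irr_apply_one, ← hndef, map_one, Units.val_one, mul_one,
          Finset.sum_const, Finset.card_univ, nsmul_eq_mul]
        rw [H20.card_dual hA, D.hP]
      · intro x _ hx
        have h0 := H20.sum_dual_conj_mul hA x 1
        simp only [map_one, Units.val_one, mul_one, if_neg (Ne.symm hx)] at h0
        rw [← Finset.mul_sum, h0, mul_zero]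
      · simp
    simp only [hm, ← Finset.mul_sum] at h
    exact_mod_cast mul_left_cancel₀ (Nat.cast_ne_zero.2 hp.out.ne_zero) h
  rcases hε with rfl | rfl
  · refine ⟨rfl, ?_⟩
    rcases Nat.eq_zero_or_pos (m 1) with h0 | h0
    · rw [h0] at hm1
      push_cast at hm1
      have : (n : ℤ) = ((f * d : ℕ) : ℤ) := by push_cast; linarith
      exact_mod_cast this
    · exfalso
      have h2 : (p : ℤ) * 1 ≤ (p : ℤ) * m 1 :=
        mul_le_mul_of_nonneg_left (by exact_mod_cast h0) (by positivity)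
      omega
  · exfalso
    set T : Finset ((P : Subgroup G) →* ℂˣ) := Finset.univ.image fun i => twist ψ (g i) with hT
    have hTc : T.card ≤ f := hI ▸ (Finset.card_image_le.trans Finset.card_univ.le)
    have ha : 1 ≤ m 1 := by
      by_contra h0
      rw [show m 1 = 0 by omega] at hm1
      have : 0 < f * d := Nat.mul_pos (hfdef ▸ Nat.card_pos) hd0
      push_cast at hm1
      nlinarith
    have hle : Tᶜ.card * m 1 ≤ ∑ φ, m φ := by
      rw [← smul_eq_mul]
      refine (Finset.card_nsmul_le_sum Tᶜ m _ fun φ hφ => ?_).trans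
        (Finset.sum_le_sum_of_subset (Finset.subset_univ _))
      have h2 : ∀ i, twist ψ (g i) ≠ φ := fun i hi =>
        Finset.mem_compl.1 hφ (Finset.mem_image.2 ⟨i, Finset.mem_univ i, hi⟩)
      have h3 := (hout φ h2).symm.trans hm1
      have h4 : (m φ : ℤ) = m 1 := mul_left_cancel₀ (Int.natCast_ne_zero.2 hp.out.ne_zero) h3
      omega
    rw [hsum, Finset.card_compl, show Fintype.card ((P : Subgroup G) →* ℂˣ) = p from
      (by exact_mod_cast H20.card_dual hA : Fintype.card ((P : Subgroup G) →* ℂˣ) =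
        Nat.card (P : Subgroup G)).trans D.hP] at hle
    have := Nat.le_mul_of_pos_right (p - T.card) ha
    omega

theorem classInner_sub_classInner {χ η : IrrCharacter G} (hne : χ ≠ η)
    (hreg : ∀ g : G, ¬ p ∣ orderOf g → (χ : G → ℂ) g = (η : G → ℂ) g) {F : G → ℂ} {c : ℂ}
    (hF : ∀ g : G, p ∣ orderOf g → F g = c) :
    classInner (fun g => (χ : G → ℂ) g * conj ((η : G → ℂ) g)) F -
      classInner (fun g => (χ : G → ℂ) g * conj ((χ : G → ℂ) g)) F = - conj c := by
  rw [H12.classInner_def, H12.classInner_def, ← mul_sub, ← Finset.sum_sub_distrib,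
    Finset.sum_congr rfl (g := fun g => conj c * ((χ : G → ℂ) g * conj ((η : G → ℂ) g) -
      (χ : G → ℂ) g * conj ((χ : G → ℂ) g))) fun g _ => by
        by_cases hg : p ∣ orderOf g
        · rw [hF g hg]; ring
        · rw [hreg g hg]; ring,
    ← Finset.mul_sum, Finset.sum_sub_distrib, H12.sum_mul_conj_eq_card_mul,
    H12.sum_mul_conj_eq_card_mul, H12.classInner_irr_ne hne, H12.classInner_irr_self]
  have := H12.card_ne_zero' (G := G)
  field_simp
  ring

/-- The exceptional columns of the principal character add up to a constant. -/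
theorem sum_colY_one (hM : IsPModular p M) [Fintype (P : Subgroup G)]
    [Fintype (D.aut (H12.oneIrr H))]
    (S : Shape p (D.aut (H12.oneIrr H))
      (fun (χ : IrrCharacter G) (x : (P : Subgroup G)) => D.col (H12.oneIrr H) χ x)
      (fun (χ : IrrCharacter G) (g : {g : G // ¬ p ∣ orderOf g}) => (χ : G → ℂ) g))
    {x : (P : Subgroup G)} (hx : x ≠ 1) :
    ∑ η ∈ S.Y.toFinite.toFinset, D.col (H12.oneIrr H) η x = -(S.ε : ℂ) := by
  classical
  haveI : Fintype S.Y := Fintype.ofFinite _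
  haveI : Finite ((P : Subgroup G) →* ℂˣ) := H20.finite_dual
  haveI : Fintype ((P : Subgroup G) →* ℂˣ) := Fintype.ofFinite _
  choose ψ hψ hcol using fun η : S.Y => S.colY η.1 η.2
  have hA := commOf (A := (P : Subgroup G)) D.hP
  let F : S.Y × D.aut (H12.oneIrr H) → {φ : (P : Subgroup G) →* ℂˣ // φ ≠ 1} := fun i =>
    ⟨twist (ψ i.1) i.2, mt twist_eq_one_iff.1 (hψ i.1)⟩
  have hF : Function.Injective F := by
    rintro ⟨η, α⟩ ⟨η', α'⟩ h
    have h1 : twist (ψ η) α = twist (ψ η') α' := congrArg Subtype.val h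
    have hη : η = η' := by
      refine Subtype.ext (D.eq_of_col hM ((D.union_eq_supp S).subset (Or.inr η.2))
        ((D.union_eq_supp S).subset (Or.inr η'.2))
        (fun k hk => congrFun (S.regY _ η.2 _ η'.2) ⟨k, hk⟩) fun y hy hy1 => ?_)
      have hy' : (⟨y, hy⟩ : (P : Subgroup G)) ≠ 1 := fun h => hy1 (congrArg Subtype.val h)
      rw [hcol η ⟨y, hy⟩ hy', hcol η' ⟨y, hy⟩ hy']
      congr 1
      refine Fintype.sum_equiv (Equiv.mulLeft (α' * α⁻¹)) _ _ fun β => ?_
      have h2 := DFunLike.congr_fun h1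
        ((α : MulAut (P : Subgroup G))⁻¹ ((β : MulAut (P : Subgroup G)) ⟨y, hy⟩))
      rw [twist_apply, twist_apply, MulAut.apply_inv_self] at h2
      rw [h2, Equiv.coe_mulLeft, Subgroup.coe_mul, Subgroup.coe_mul, MulAut.mul_apply,
        MulAut.mul_apply]
      rfl
    subst hη
    rw [twist_injective D.hP (hψ η) h1]
  have hbij : Function.Bijective F := by
    refine (Fintype.bijective_iff_injective_and_card F).2 ⟨hF, ?_⟩
    have h1 := S.card_Y
    rw [Fintype.card_prod, Fintype.card_subtype_compl, Fintype.card_subtype_eq,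
      ← Nat.card_eq_fintype_card (α := S.Y), ← Nat.card_eq_fintype_card,
      show Fintype.card ((P : Subgroup G) →* ℂˣ) = p from
      (by exact_mod_cast H20.card_dual hA : Fintype.card ((P : Subgroup G) →* ℂˣ) =
        Nat.card (P : Subgroup G)).trans D.hP]
    omega
  have hall : ∑ i, ((F i).1 x : ℂ) = -1 := by
    rw [Fintype.sum_bijective F hbij _ (fun φ => (φ.1 x : ℂ)) fun i => rfl,
      ← Finset.sum_subtype (Finset.univ.erase (1 : (P : Subgroup G) →* ℂˣ))
        (p := fun φ => φ ≠ 1) (by simp) fun φ => (φ x : ℂ),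
      Finset.sum_erase_eq_sub (Finset.mem_univ _), H20.sum_dual_ne_one hA hx]
    simp
  rw [Finset.sum_subtype _ (p := fun η => η ∈ S.Y) (fun η => Set.Finite.mem_toFinset _),
    Finset.sum_congr rfl fun η _ => hcol η x hx, ← Finset.mul_sum]
  rw [Fintype.sum_prod_type] at hall
  rw [show ∑ η : S.Y, ∑ α : D.aut (H12.oneIrr H),
    (ψ η ((α : MulAut (P : Subgroup G)) x) : ℂ) = -1 from hall, mul_neg_one]

/-- The product of two exceptional characters. -/
theorem false_of_colY (hM : IsPModular p M) (hlin : ∀ l : G →* ℂˣ, l = 1) {θ : IrrCharacter H}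
    [Fintype (P : Subgroup G)] [Fintype (D.aut θ)]
    (S : Shape p (D.aut θ) (fun (χ : IrrCharacter G) (x : (P : Subgroup G)) => D.col θ χ x)
      (fun (χ : IrrCharacter G) (g : {g : G // ¬ p ∣ orderOf g}) => (χ : G → ℂ) g))
    {χ : IrrCharacter G} (hχ : χ ∈ S.Y) (hε : S.ε = 1)
    (hf2 : 2 ≤ Nat.card (D.aut (H12.oneIrr H)))
    (hn : 2 * H12.degree (χ : G → ℂ) + 1 < p)
    (hdeg : H12.degree (χ : G → ℂ) =
      Nat.card (D.aut (H12.oneIrr H)) * H12.degree (θ : H → ℂ)) : False := by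
  classical
  haveI : Fintype (D.orbit θ) := Fintype.ofFinite _
  haveI : Fintype (D.aut (H12.oneIrr H)) := Fintype.ofFinite _
  haveI : Finite ((P : Subgroup G) →* ℂˣ) := H20.finite_dual
  haveI : Fintype ((P : Subgroup G) →* ℂˣ) := Fintype.ofFinite _
  have hA := commOf (A := (P : Subgroup G)) D.hP
  set φ0 := H12.oneIrr H with hφ0
  set f := Nat.card (D.aut φ0) with hfdef
  set n := H12.degree (χ : G → ℂ) with hndef
  set d := H12.degree (θ : H → ℂ) with hddef
  set O := Nat.card (D.orbit θ) with hOdef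
  set e := Nat.card (D.aut θ) with hedef
  have hd0 : 0 < d := H12.irr_degree_pos θ
  have hfn : f ≤ n := hdeg ▸ Nat.le_mul_of_pos_right f hd0
  have hOe : O * e = f := D.card_orbit_mul θ
  have hO0 : 0 < O := by
    rcases Nat.eq_zero_or_pos O with h | h
    · rw [h, Nat.zero_mul] at hOe; omega
    · exact h
  have he0 : 0 < e := by
    rcases Nat.eq_zero_or_pos e with h | h
    · rw [h, Nat.mul_zero] at hOe; omega
    · exact h
  have hef : e ≤ f := hOe ▸ Nat.le_mul_of_pos_left e hO0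
  have hdual : Fintype.card ((P : Subgroup G) →* ℂˣ) = p :=
    (by exact_mod_cast H20.card_dual hA : Fintype.card ((P : Subgroup G) →* ℂˣ) =
      Nat.card (P : Subgroup G)).trans D.hP
  obtain ⟨ψ, hψ, hcol⟩ := S.colY χ hχ
  -- a second exceptional character
  obtain ⟨ψ₂, hψ₂⟩ : ∃ ψ₂ : (P : Subgroup G) →* ℂˣ,
      ψ₂ ∉ insert 1 (Finset.univ.image fun β : D.aut φ0 => twist ψ β) := by
    by_contra hall
    have h1 : (Finset.univ : Finset ((P : Subgroup G) →* ℂˣ)) ⊆
        insert 1 (Finset.univ.image fun β : D.aut φ0 => twist ψ β) := fun x _ =>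
      not_not.1 fun hx => hall ⟨x, hx⟩
    have h2 := (Finset.card_le_card h1).trans
      ((Finset.card_insert_le _ _).trans (Nat.add_le_add_right Finset.card_image_le 1))
    rw [Finset.card_univ, Finset.card_univ, hdual, ← Nat.card_eq_fintype_card] at h2
    omega
  simp only [Finset.mem_insert, Finset.mem_image, Finset.mem_univ, true_and, not_or,
    not_exists] at hψ₂
  obtain ⟨η, hη, hcol₂⟩ := S.surjY ψ₂ hψ₂.1
  have hsupp : ∀ i ∈ S.Y, i ∈ D.supp θ := fun i hi => (D.union_eq_supp S).subset (Or.inr hi)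
  have hreg : ∀ g : G, ¬ p ∣ orderOf g → (χ : G → ℂ) g = (η : G → ℂ) g := fun g hg =>
    congrFun (S.regY χ hχ η hη) ⟨g, hg⟩
  have hnη : (η : G → ℂ) 1 = (n : ℂ) := by
    rw [← hreg 1 (by simp [hp.out.ne_one]), H12.irr_apply_one]
  obtain ⟨g, hg⟩ := D.exists_terms hM θ
  have hv1 := hg χ (hsupp χ hχ) ψ S.ε hcol
  have hv2 := hg η (hsupp η hη) ψ₂ S.ε hcol₂
  have hI : Fintype.card (D.orbit θ × D.aut θ) = f := by
    rw [Fintype.card_prod, ← Nat.card_eq_fintype_card, ← Nat.card_eq_fintype_card,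
      D.card_orbit_mul]
  have hdist : ∀ i j, twist ψ (g i) ≠ twist ψ₂ (g j) := fun i j h => by
    refine hψ₂.2 (g i * (g j)⁻¹) (MonoidHom.ext fun x => ?_)
    have h2 := DFunLike.congr_fun h ((g j : MulAut (P : Subgroup G))⁻¹ x)
    rw [twist_apply, twist_apply, MulAut.apply_inv_self] at h2
    rw [twist_apply, ← h2, Subgroup.coe_mul, MulAut.mul_apply]
    rfl
  set F : G → ℂ := fun g => (χ : G → ℂ) g * conj ((η : G → ℂ) g) with hF
  set F₀ : G → ℂ := fun g => (χ : G → ℂ) g * conj ((χ : G → ℂ) g) with hF₀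
  have hFc : IsCharacter G F :=
    H12.IsCharacter.mul (H12.isCharacter_irr χ) (H12.IsCharacter.star (H12.isCharacter_irr η))
  have hF₀c : IsCharacter G F₀ :=
    H12.IsCharacter.mul (H12.isCharacter_irr χ) (H12.IsCharacter.star (H12.isCharacter_irr χ))
  -- the product has no invariants of `P`
  have hF0 : ∑ x : (P : Subgroup G), F x = 0 := by
    rw [← Finset.add_sum_erase _ _ (Finset.mem_univ (1 : (P : Subgroup G)))]
    simp only [hF, OneMemClass.coe_one, H12.irr_apply_one, ← hndef]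
    rw [show H12.degree (η : G → ℂ) = n by
      have := (H12.irr_apply_one η).symm.trans hnη; exact_mod_cast this, map_natCast]
    rw [Finset.sum_congr rfl (g := fun x => ((d : ℂ) * d) *
      ∑ i, ∑ j, (twist ψ (g i) x : ℂ) * conj (twist ψ₂ (g j) x : ℂ)) fun x hx => by
        rw [hv1 x (Finset.ne_of_mem_erase hx), hv2 x (Finset.ne_of_mem_erase hx), hε,
          Int.cast_one, one_mul, map_mul, map_natCast, map_sum, mul_mul_mul_comm, Finset.sum_mul_sum],
      ← Finset.mul_sum, Finset.sum_comm,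
      Finset.sum_congr rfl fun i _ => Finset.sum_comm,
      Finset.sum_congr rfl fun i _ => Finset.sum_congr rfl fun j _ =>
        sum_erase_one_mul_conj (hdist i j)]
    simp only [Finset.sum_const, Finset.card_univ, hI, nsmul_eq_mul, hdeg]
    push_cast
    ring
  have hne : χ ≠ η := by
    intro h
    subst h
    have h0 : (((∑ x : (P : Subgroup G), Complex.normSq ((χ : G → ℂ) x)) : ℝ) : ℂ) = 0 := by
      rw [← hF0, Complex.ofReal_sum]
      exact Finset.sum_congr rfl fun x _ => (Complex.mul_conj _).symm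
    have h1 := (Finset.sum_eq_zero_iff_of_nonneg fun x _ => Complex.normSq_nonneg _).1
      (Complex.ofReal_eq_zero.1 h0) 1 (Finset.mem_univ _)
    rw [OneMemClass.coe_one, Complex.normSq_eq_zero] at h1
    exact H12.irr_apply_one_ne_zero χ h1
  obtain ⟨k, hk⟩ := H12.IsCharacter.exists_mult hFc
  have hkI : ∀ ω : IrrCharacter G, classInner F (ω : G → ℂ) = (k ω : ℂ) := fun ω => by
    rw [hk, H12.classInner_sum_smul_irr]
  have hFapply : ∀ y, F y = ∑ ω : IrrCharacter G, (k ω : ℂ) * (ω : G → ℂ) y := fun y => by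
    rw [hk]; simp
  choose s hs using fun ω : IrrCharacter G =>
    exists_sum_res (H12.isCharacter_irr ω) (P : Subgroup G)
  have hks : ∀ ω : IrrCharacter G, k ω ≠ 0 → s ω = 0 := by
    have h1 : ((∑ ω : IrrCharacter G, k ω * (p * s ω) : ℕ) : ℂ) = 0 := by
      rw [← hF0]
      simp only [hFapply]
      rw [Finset.sum_comm, Nat.cast_sum]
      refine Finset.sum_congr rfl fun ω _ => ?_
      rw [← Finset.mul_sum, hs ω, D.hP]
      push_cast
      ring
    intro ω hω
    have h2 := (Finset.sum_eq_zero_iff).1 (by exact_mod_cast h1 : ∑ ω : IrrCharacter G,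
      k ω * (p * s ω) = 0) ω (Finset.mem_univ ω)
    rcases Nat.mul_eq_zero.1 h2 with h3 | h3
    · exact absurd h3 hω
    · exact (Nat.mul_eq_zero.1 h3).resolve_left hp.out.ne_zero
  -- the invariants of `H`
  choose δ hδ using fun (φ : IrrCharacter H) (ω : IrrCharacter G) => D.exists_col_one φ ω
  have hcomp : ∀ φ, φ ∈ D.orbit θ → δ φ χ = δ θ χ := by
    rintro φ ⟨m, hm, rfl⟩
    have h1 := hδ (H12.irrCongr (D.conjH m hm) θ) χ
    rw [D.col_conj θ χ hm, show m * 1 * m⁻¹ = 1 by group, hδ θ χ] at h1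
    exact_mod_cast h1.symm
  have hθe : e ≤ δ θ χ := by
    obtain ⟨m, hm⟩ := D.exists_sum_col θ χ
    rw [← Finset.add_sum_erase _ _ (Finset.mem_univ (1 : (P : Subgroup G))), OneMemClass.coe_one,
      hδ, Finset.sum_congr rfl fun x hx => hcol x (Finset.ne_of_mem_erase hx), ← Finset.mul_sum,
      Finset.sum_comm, Finset.sum_congr rfl fun (α : D.aut θ) _ => show
        ∑ x ∈ Finset.univ.erase (1 : (P : Subgroup G)),
          (ψ ((α : MulAut (P : Subgroup G)) x) : ℂ) = -1 from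
        sum_erase_one_lin (ψ := twist ψ α) (mt twist_eq_one_iff.1 hψ)] at hm
    simp only [hε, Int.cast_one, one_mul, Finset.sum_const, Finset.card_univ,
      ← Nat.card_eq_fintype_card, ← hedef, nsmul_eq_mul] at hm
    have h1 : ((δ θ χ : ℕ) : ℂ) = ((e + p * m : ℕ) : ℂ) := by
      push_cast; linear_combination hm
    have : δ θ χ = e + p * m := by exact_mod_cast h1
    omega
  have htot : ∑ φ : IrrCharacter H, δ φ χ * H12.degree (φ : H → ℂ) = n := by
    have h1 := D.apply_eq_sum_col χ (one_mem (P : Subgroup G)) (1 : H)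
    rw [OneMemClass.coe_one, mul_one, H12.irr_apply_one, ← hndef] at h1
    simp only [hδ, H12.irr_apply_one] at h1
    exact_mod_cast h1.symm
  have horb : ∀ φ ∈ (D.orbit θ).toFinset, δ φ χ * H12.degree (φ : H → ℂ) = δ θ χ * d := by
    intro φ hφ
    rw [hcomp φ (Set.mem_toFinset.1 hφ)]
    obtain ⟨m, hm, rfl⟩ := Set.mem_toFinset.1 hφ
    congr 1
    have h1 := H12.irr_apply_one (H12.irrCongr (D.conjH m hm) θ)
    rw [H12.irrCongr_apply, map_one, H12.irr_apply_one] at h1
    exact_mod_cast h1.symm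
  have hOc : (D.orbit θ).toFinset.card = O := by rw [hOdef, Nat.card_eq_card_toFinset]
  have hsplit := Finset.sum_add_sum_compl (D.orbit θ).toFinset
    fun φ : IrrCharacter H => δ φ χ * H12.degree (φ : H → ℂ)
  rw [Finset.sum_congr rfl horb, Finset.sum_const, hOc, smul_eq_mul, htot] at hsplit
  have hfd : O * (e * d) = n := by rw [← mul_assoc, hOe, hdeg]
  have hδθ : δ θ χ = e := by
    refine le_antisymm ?_ hθe
    by_contra hlt
    have := Nat.mul_lt_mul_of_pos_left (Nat.mul_lt_mul_of_pos_right (not_le.1 hlt) hd0) hO0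
    omega
  have hrest : ∀ φ, φ ∉ D.orbit θ → δ φ χ = 0 := by
    intro φ hφ
    rw [hδθ, hfd] at hsplit
    have h1 := Finset.sum_eq_zero_iff.1 (by omega : ∑ φ ∈ (D.orbit θ).toFinsetᶜ,
      δ φ χ * H12.degree (φ : H → ℂ) = 0) φ (by simpa using hφ)
    exact (Nat.mul_eq_zero.1 h1).resolve_right (H12.irr_degree_pos φ).ne'
  have hD : ∑ ω : IrrCharacter G, k ω * δ φ0 ω = f * e := by
    have h0 : ∑ φ : IrrCharacter H, δ φ χ * δ φ χ = f * e := by
      rw [← Finset.sum_add_sum_compl (D.orbit θ).toFinset,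
        Finset.sum_congr rfl (s₁ := (D.orbit θ).toFinset) (g := fun _ => e * e) fun φ hφ => by
          rw [hcomp φ (Set.mem_toFinset.1 hφ), hδθ],
        Finset.sum_eq_zero (s := (D.orbit θ).toFinsetᶜ) fun φ hφ => by
          rw [hrest φ (by simpa using hφ), zero_mul],
        Finset.sum_const, hOc, smul_eq_mul, add_zero, ← mul_assoc, hOe]
    have h1 : classInner (fun h : H => (χ : G → ℂ) (1 * h)) (fun h : H => (χ : G → ℂ) (1 * h)) =
        ((f * e : ℕ) : ℂ) := by
      rw [H12.classInner_eq_sum_mul (D.isClassFunction_shiftH χ (one_mem _))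
        (D.isClassFunction_shiftH χ (one_mem _)), ← h0, Nat.cast_sum]
      refine Finset.sum_congr rfl fun φ _ => ?_
      rw [D.classInner_shift, hδ, map_natCast, Nat.cast_mul]
    have h2 : classInner (fun h : H => (χ : G → ℂ) (1 * h)) (fun h : H => (χ : G → ℂ) (1 * h)) =
        ∑ ω : IrrCharacter G, (k ω : ℂ) * D.col φ0 ω 1 := by
      simp only [Setting.col, H12.classInner_def, Nat.card_eq_fintype_card (α := H), hφ0,
        H12.oneIrr_apply, map_one, mul_one, one_mul, Finset.mul_sum]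
      rw [Finset.sum_comm]
      refine Finset.sum_congr rfl fun h _ => ?_
      have hFh : (χ : G → ℂ) h * conj ((χ : G → ℂ) h) = F h := by
        simp only [hF]
        rw [hreg (h : G) (D.not_dvd_orderOf h.2)]
      rw [hFh, hFapply, Finset.mul_sum]
      exact Finset.sum_congr rfl fun ω _ => by ring
    simp only [hδ] at h2
    rw [h1] at h2
    exact_mod_cast h2.symm
  -- the principal block
  obtain ⟨S₀⟩ := D.exists_shape hM φ0
  have hsupp₀ : ∀ i ∈ S₀.X ∪ S₀.Y, i ∈ D.supp φ0 := fun i hi => (D.union_eq_supp S₀).subset hi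
  have hval₀ : ∀ i ∈ S₀.X ∪ S₀.Y, ∀ x : (P : Subgroup G), x ≠ 1 → ∀ h : H,
      (i : G → ℂ) (x * h) = D.col φ0 i x := by
    intro i hi x hx h
    rw [D.apply_eq_sum_orbit hM (hsupp₀ i hi) x.2 (fun h => hx (Subtype.ext h)) h,
      Finset.sum_eq_single φ0 (fun φ hφ hne => absurd (D.orbit_one.subset (Set.mem_toFinset.1 hφ)) hne)
        (fun h0 => absurd (Set.mem_toFinset.2 (D.mem_orbit_self φ0)) h0), hφ0, H12.oneIrr_apply,
      mul_one]
  have hval₀' : ∀ i ∈ S₀.X ∪ S₀.Y, ∀ x : (P : Subgroup G), x ≠ 1 →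
      (i : G → ℂ) x = D.col φ0 i x := fun i hi x hx => by
    have := hval₀ i hi x hx 1
    rwa [OneMemClass.coe_one, mul_one] at this
  have hu' : (⟨u, D.u_mem⟩ : (P : Subgroup G)) ≠ 1 := fun h => D.u_ne_one (congrArg Subtype.val h)
  have hcardP : (Finset.univ.erase (1 : (P : Subgroup G))).card = p - 1 := by
    rw [Finset.card_erase_of_mem (Finset.mem_univ _), Finset.card_univ, ← Nat.card_eq_fintype_card,
      D.hP]
  have hsumY : ∀ i ∈ S₀.Y, ∑ x ∈ Finset.univ.erase (1 : (P : Subgroup G)), D.col φ0 i x =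
      -(S₀.ε : ℂ) * f := by
    intro i hi
    obtain ⟨φ, hφ, hcφ⟩ := S₀.colY i hi
    rw [Finset.sum_congr rfl fun x hx => hcφ x (Finset.ne_of_mem_erase hx), ← Finset.mul_sum,
      Finset.sum_comm, Finset.sum_congr rfl fun (α : D.aut φ0) _ => show
        ∑ x ∈ Finset.univ.erase (1 : (P : Subgroup G)),
          (φ ((α : MulAut (P : Subgroup G)) x) : ℂ) = -1 from
        sum_erase_one_lin (ψ := twist φ α) (mt twist_eq_one_iff.1 hφ), Finset.sum_const,
      Finset.card_univ, ← Nat.card_eq_fintype_card, ← hfdef, nsmul_eq_mul]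
    ring
  have hdeg₀ : ∀ i ∈ S₀.X, (H12.degree (i : G → ℂ) : ℤ) + ((p : ℤ) - 1) * S₀.εX i =
      (p : ℤ) * s i ∧ ∃ m : ℕ, (δ φ0 i : ℤ) + ((p : ℤ) - 1) * S₀.εX i = (p : ℤ) * m := by
    intro i hi
    have h1 := hs i
    obtain ⟨m, hm⟩ := D.exists_sum_col φ0 i
    rw [← Finset.add_sum_erase _ _ (Finset.mem_univ (1 : (P : Subgroup G))),
      Finset.sum_congr rfl fun x hx => (hval₀' i (Or.inl hi) x (Finset.ne_of_mem_erase hx)).trans
        (S₀.colX i hi x (Finset.ne_of_mem_erase hx))] at h1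
    rw [← Finset.add_sum_erase _ _ (Finset.mem_univ (1 : (P : Subgroup G))), OneMemClass.coe_one,
      hδ, Finset.sum_congr rfl fun x hx => S₀.colX i hi x (Finset.ne_of_mem_erase hx)] at hm
    simp only [OneMemClass.coe_one, H12.irr_apply_one, Finset.sum_const, hcardP, nsmul_eq_mul,
      D.hP] at h1 hm
    rw [Nat.cast_sub hp.out.one_le, Nat.cast_one] at h1 hm
    exact ⟨by exact_mod_cast h1, m, by exact_mod_cast hm⟩
  have hdegY : ∀ i ∈ S₀.Y, (H12.degree (i : G → ℂ) : ℤ) - S₀.ε * f = (p : ℤ) * s i ∧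
      ∃ m : ℕ, (δ φ0 i : ℤ) - S₀.ε * f = (p : ℤ) * m := by
    intro i hi
    have h1 := hs i
    obtain ⟨m, hm⟩ := D.exists_sum_col φ0 i
    rw [← Finset.add_sum_erase _ _ (Finset.mem_univ (1 : (P : Subgroup G))),
      Finset.sum_congr rfl fun x hx => hval₀' i (Or.inr hi) x (Finset.ne_of_mem_erase hx),
      hsumY i hi, OneMemClass.coe_one, H12.irr_apply_one, D.hP] at h1
    rw [← Finset.add_sum_erase _ _ (Finset.mem_univ (1 : (P : Subgroup G))), OneMemClass.coe_one,
      hδ, hsumY i hi] at hm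
    refine ⟨?_, m, ?_⟩
    · have : (((H12.degree (i : G → ℂ) : ℤ) - S₀.ε * f : ℤ) : ℂ) = (((p : ℤ) * s i : ℤ) : ℂ) := by
        push_cast; linear_combination h1
      exact_mod_cast this
    · have : (((δ φ0 i : ℤ) - S₀.ε * f : ℤ) : ℂ) = (((p : ℤ) * m : ℤ) : ℂ) := by
        push_cast; linear_combination hm
      exact_mod_cast this
  set one := H12.oneIrr G with hone
  have hcol1 : ∀ x : (P : Subgroup G), D.col φ0 one x = 1 := fun x => by
    simp [Setting.col, hφ0, hone, H12.oneIrr_apply]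
  have h2f : 2 * f + 2 ≤ p := by omega
  have honeX : one ∈ S₀.X := by
    rcases (S₀.supp one).2 ⟨_, hu', by rw [hcol1]; exact one_ne_zero⟩ with h | h
    · exact h
    · exfalso
      have h1 := hsumY one h
      simp only [hcol1, Finset.sum_const, hcardP, nsmul_eq_mul, mul_one] at h1
      have h2 : ((p - 1 : ℕ) : ℤ) = -S₀.ε * f := by exact_mod_cast h1
      rcases S₀.ε_eq with h3 | h3 <;> rw [h3] at h2 <;> omega
  have hone1 : S₀.εX one = 1 := by
    have h1 := S₀.colX one honeX _ hu'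
    exact_mod_cast ((hcol1 ⟨u, D.u_mem⟩).symm.trans h1).symm
  -- constituents
  have hsing : ∀ i ∈ S₀.X, ∀ y : G, p ∣ orderOf y → (i : G → ℂ) y = (S₀.εX i : ℂ) :=
    fun i hi y hy => D.apply_singular_eq (H12.irr_isClassFunction i) (fun x hx hx1 h => by
      have hx' : (⟨x, hx⟩ : (P : Subgroup G)) ≠ 1 := fun h => hx1 (congrArg Subtype.val h)
      rw [show (i : G → ℂ) (x * h) = _ from hval₀ i (Or.inl hi) ⟨x, hx⟩ hx' h]
      exact S₀.colX i hi _ hx') hy
  set Xm := S₀.X.toFinite.toFinset.filter fun i => S₀.εX i = -1 with hXm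
  set Xp := S₀.X.toFinite.toFinset.filter fun i => S₀.εX i = 1 with hXp
  have hmin : ∀ i ∈ Xm, k i ≠ 0 ∧ H12.degree (i : G → ℂ) = p - 1 ∧ p - 1 ≤ δ φ0 i := by
    intro i hi
    obtain ⟨hiX, hie⟩ := Finset.mem_filter.1 hi
    rw [Set.Finite.mem_toFinset] at hiX
    have h1 := D.classInner_sub_classInner hne hreg (hsing i hiX)
    obtain ⟨k₀, hk₀⟩ := H12.IsCharacter.classInner_nat hF₀c (H12.isCharacter_irr i)
    rw [← hF, ← hF₀, hkI, hk₀, hie] at h1
    have hk1 : k i = k₀ + 1 := by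
      have : (k i : ℂ) = ((k₀ + 1 : ℕ) : ℂ) := by
        push_cast at h1 ⊢
        simp only [map_neg, map_one, neg_neg] at h1
        linear_combination h1
      exact_mod_cast this
    have hk0 : k i ≠ 0 := by omega
    obtain ⟨h2, m, h3⟩ := hdeg₀ i hiX
    rw [hie, hks i hk0] at h2
    rw [hie] at h3
    have h4 : (0 : ℤ) ≤ (p : ℤ) * m := by positivity
    refine ⟨hk0, by omega, by omega⟩
  have hplus : ∀ i ∈ Xp, i ≠ one → p + 1 ≤ H12.degree (i : G → ℂ) := by
    intro i hi hne1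
    obtain ⟨hiX, hie⟩ := Finset.mem_filter.1 hi
    rw [Set.Finite.mem_toFinset] at hiX
    obtain ⟨h2, -⟩ := hdeg₀ i hiX
    rw [hie, mul_one] at h2
    have hpos := H12.irr_degree_pos i
    have h5 : H12.degree (i : G → ℂ) ≠ 1 := by
      intro h5
      obtain ⟨l, hl⟩ := H12.exists_monoidHom_of_apply_one_eq_one (H12.isCharacter_irr i)
        (by rw [H12.irr_apply_one, h5, Nat.cast_one])
      refine hne1 (Subtype.ext (funext fun y => ?_))
      rw [← congrFun hl y, hlin l, hone, H12.oneIrr_apply]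
      simp
    rcases Nat.lt_or_ge (s i) 2 with h6 | h6
    · exfalso
      interval_cases h7 : s i <;> omega
    · have : (p : ℤ) * 2 ≤ (p : ℤ) * s i :=
        mul_le_mul_of_nonneg_left (by exact_mod_cast h6) (by positivity)
      omega
  have honeP : one ∈ Xp :=
    Finset.mem_filter.2 ⟨(Set.Finite.mem_toFinset _).2 honeX, hone1⟩
  have hXpm : S₀.X.toFinite.toFinset.filter (fun i => ¬ S₀.εX i = 1) = Xm := by
    refine Finset.filter_congr fun i hi => ?_
    have := S₀.εX_eq i ((Set.Finite.mem_toFinset _).1 hi)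
    omega
  have hcardX : Xp.card + Xm.card = f := by
    rw [← hXpm, hXp, Finset.card_filter_add_card_filter_not, hfdef, ← S₀.card_X,
      ← Set.ncard_eq_toFinset_card, Nat.card_coe_set_eq]
  have hq0 : 1 ≤ Xp.card := Finset.card_pos.2 ⟨one, honeP⟩
  set Sp := ∑ i ∈ Xp, H12.degree (i : G → ℂ) with hSp
  have hSple : 1 + (Xp.card - 1) * (p + 1) ≤ Sp := by
    rw [hSp, ← Finset.add_sum_erase _ _ honeP]
    refine Nat.add_le_add (H12.irr_degree_pos one) ?_
    rw [← Finset.card_erase_of_mem honeP, ← smul_eq_mul]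
    exact Finset.card_nsmul_le_sum _ _ _ fun i hi =>
      hplus i (Finset.mem_of_mem_erase hi) (Finset.ne_of_mem_erase hi)
  obtain ⟨η₀, hη₀⟩ : S₀.Y.Nonempty := by
    refine Set.nonempty_iff_ne_empty.2 fun h => ?_
    have h1 := S₀.card_Y
    rw [h, Nat.card_coe_set_eq, Set.ncard_empty, Nat.zero_mul] at h1
    exact hp.out.ne_one h1.symm
  have hrel : S₀.ε * (H12.degree (η₀ : G → ℂ) : ℤ) = (Sp : ℤ) - (Xm.card : ℤ) * ((p : ℤ) - 1) := by
    have h1 := S₀.rel η₀ hη₀ ⟨1, by simp [hp.out.ne_one]⟩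
    rw [finsum_mem_eq_finite_toFinset_sum _ S₀.X.toFinite] at h1
    simp only [H12.irr_apply_one] at h1
    have h2 : S₀.ε * (H12.degree (η₀ : G → ℂ) : ℤ) =
        ∑ i ∈ S₀.X.toFinite.toFinset, S₀.εX i * (H12.degree (i : G → ℂ) : ℤ) := by
      exact_mod_cast h1
    rw [h2, ← Finset.sum_filter_add_sum_filter_not _ (fun i => S₀.εX i = 1), hXpm, ← hXp, hSp,
      Finset.sum_congr rfl (s₁ := Xp) (g := fun i => (H12.degree (i : G → ℂ) : ℤ)) fun i hi => by
        rw [(Finset.mem_filter.1 hi).2, one_mul],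
      Finset.sum_congr rfl (s₁ := Xm) (g := fun _ => -((p : ℤ) - 1)) fun i hi => by
        rw [(Finset.mem_filter.1 hi).2, (hmin i hi).2.1, Nat.cast_sub hp.out.one_le]; simp,
      Finset.sum_const, nsmul_eq_mul]
    push_cast
    ring
  have hlow : Xm.card * (p - 1) ≤ ∑ i ∈ Xm, k i * δ φ0 i := by
    rw [← smul_eq_mul]
    exact Finset.card_nsmul_le_sum _ _ _ fun i hi =>
      (hmin i hi).2.2.trans (Nat.le_mul_of_pos_left _ (Nat.pos_of_ne_zero (hmin i hi).1))
  have hfe : f * e ≤ f * f := Nat.mul_le_mul_left f hef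
  have hp1 : (2 : ℤ) ≤ f := by exact_mod_cast hf2
  have hSpZ : (1 : ℤ) + ((Xp.card : ℤ) - 1) * ((p : ℤ) + 1) ≤ Sp := by
    have := (Nat.cast_le (α := ℤ)).2 hSple
    push_cast [Nat.cast_sub hq0] at this
    exact this
  have hcZ : (Xp.card : ℤ) + Xm.card = f := by exact_mod_cast hcardX
  rcases S₀.ε_eq with hε₀ | hε₀
  · -- the exceptional characters occur
    set E : G → ℂ := ∑ i ∈ S₀.Y.toFinite.toFinset, (i : G → ℂ) with hE
    have hEs : ∀ y : G, p ∣ orderOf y → E y = -1 := fun y hy =>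
      D.apply_singular_eq (H12.IsClassFunction.sum _ fun i _ => H12.irr_isClassFunction i)
        (fun x hx hx1 h => by
          have hx' : (⟨x, hx⟩ : (P : Subgroup G)) ≠ 1 := fun h => hx1 (congrArg Subtype.val h)
          rw [Finset.sum_apply, Finset.sum_congr rfl fun (i : IrrCharacter G) hi =>
            show (i : G → ℂ) (x * h) = _ from
              hval₀ i (Or.inr ((Set.Finite.mem_toFinset _).1 hi)) ⟨x, hx⟩ hx' h,
            D.sum_colY_one hM S₀ hx', hε₀]
          simp) hy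
    have h1 := D.classInner_sub_classInner hne hreg hEs
    obtain ⟨k₀, hk₀⟩ := H12.IsCharacter.classInner_nat hF₀c
      (H12.IsCharacter.sum _ _ fun i _ => H12.isCharacter_irr i)
    rw [← hF, ← hF₀, ← hE] at *
    rw [hk₀, hE, H12.classInner_sum_right] at h1
    simp only [hkI] at h1
    have h2 : ∑ i ∈ S₀.Y.toFinite.toFinset, k i = k₀ + 1 := by
      have : ((∑ i ∈ S₀.Y.toFinite.toFinset, k i : ℕ) : ℂ) = ((k₀ + 1 : ℕ) : ℂ) := by
        push_cast
        simp only [map_neg, map_one, neg_neg] at h1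
        linear_combination h1
      exact_mod_cast this
    obtain ⟨η₁, hη₁, hk₁⟩ := Finset.exists_ne_zero_of_sum_ne_zero
      (by omega : ∑ i ∈ S₀.Y.toFinite.toFinset, k i ≠ 0)
    rw [Set.Finite.mem_toFinset] at hη₁
    obtain ⟨h3, m, h4⟩ := hdegY η₁ hη₁
    rw [hks η₁ hk₁, hε₀] at h3
    rw [hε₀] at h4
    have h5 : (0 : ℤ) ≤ (p : ℤ) * m := by positivity
    have hδ₁ : f ≤ δ φ0 η₁ := by omega
    have hdeg₁ : H12.degree (η₀ : G → ℂ) = f := by
      have h6 := congrFun (S₀.regY η₀ hη₀ η₁ hη₁) ⟨1, by simp [hp.out.ne_one]⟩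
      simp only [H12.irr_apply_one] at h6
      have h7 : H12.degree (η₀ : G → ℂ) = H12.degree (η₁ : G → ℂ) := by exact_mod_cast h6
      omega
    have hnot : η₁ ∉ Xm := fun h => Set.disjoint_left.1 S₀.disj
      ((Set.Finite.mem_toFinset _).1 (Finset.mem_filter.1 h).1) hη₁
    have h8 : Xm.card * (p - 1) + f ≤ f * f := by
      refine le_trans ?_ (hD.le.trans hfe)
      refine le_trans ?_ (Finset.sum_le_sum_of_subset (Finset.subset_univ (insert η₁ Xm)))
      rw [Finset.sum_insert hnot, add_comm]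
      exact Nat.add_le_add (hδ₁.trans (Nat.le_mul_of_pos_left _ (Nat.pos_of_ne_zero hk₁))) hlow
    rw [hε₀, hdeg₁, one_mul] at hrel
    have h9 : (Xm.card : ℤ) * ((p : ℤ) - 1) + f ≤ (f : ℤ) * f := by
      have := (Nat.cast_le (α := ℤ)).2 h8
      push_cast [Nat.cast_sub hp.out.one_le] at this
      exact this
    have h10 : (p : ℤ) * ((f : ℤ) - 1) ≤ (p : ℤ) * (2 * Xm.card) := by nlinarith
    have h11 : ((f : ℤ) - 1) ≤ 2 * Xm.card :=
      le_of_mul_le_mul_left h10 (by exact_mod_cast hp.out.pos)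
    have h12 : ((f : ℤ) - 1) * ((p : ℤ) - 1) ≤ ((f : ℤ) - 1) * (2 * f) := by
      have h13 := mul_le_mul_of_nonneg_right h11
        (show (0 : ℤ) ≤ (p : ℤ) - 1 by have := hp.out.one_le; omega)
      nlinarith
    have h14 : (p : ℤ) - 1 ≤ 2 * f := le_of_mul_le_mul_left h12 (by linarith)
    omega
  · obtain ⟨h3, -⟩ := hdegY η₀ hη₀
    rw [hε₀] at h3 hrel
    have h4 : (p : ℤ) ≤ H12.degree (η₀ : G → ℂ) + f := by
      rcases Nat.eq_zero_or_pos (s η₀) with h5 | h5
      · rw [h5] at h3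
        have := H12.irr_degree_pos η₀
        omega
      · have : (p : ℤ) * 1 ≤ (p : ℤ) * s η₀ :=
          mul_le_mul_of_nonneg_left (by exact_mod_cast h5) (by positivity)
        omega
    have h8 : Xm.card * (p - 1) ≤ f * f := hlow.trans
      ((Finset.sum_le_sum_of_subset (Finset.subset_univ Xm)).trans (hD.le.trans hfe))
    have h9 : (Xm.card : ℤ) * ((p : ℤ) - 1) ≤ (f : ℤ) * f := by
      have := (Nat.cast_le (α := ℤ)).2 h8
      push_cast [Nat.cast_sub hp.out.one_le] at this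
      exact this
    have h10 : (p : ℤ) * f ≤ (p : ℤ) * (2 * Xm.card) := by nlinarith
    have h11 : (f : ℤ) ≤ 2 * Xm.card :=
      le_of_mul_le_mul_left h10 (by exact_mod_cast hp.out.pos)
    have h12 : (f : ℤ) * ((p : ℤ) - 1) ≤ (f : ℤ) * (2 * f) := by
      have h13 := mul_le_mul_of_nonneg_right h11
        (show (0 : ℤ) ≤ (p : ℤ) - 1 by have := hp.out.one_le; omega)
      nlinarith
    have h14 : (p : ℤ) - 1 ≤ 2 * f := le_of_mul_le_mul_left h12 (by linarith)
    omega

/-- Small irreducible characters: elements of `P` act as scalars. -/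
theorem norm_eq_of_small (hM : IsPModular p M)
    (hgen : Subgroup.closure {g : G | g ^ p = 1} = ⊤) (χ : IrrCharacter G)
    (hn : 2 * H12.degree (χ : G → ℂ) + 1 < p) {x : G} (hx : x ∈ (P : Subgroup G)) :
    ‖(χ : G → ℂ) x‖ = (H12.degree (χ : G → ℂ) : ℝ) := by
  classical
  haveI : Fintype (P : Subgroup G) := Fintype.ofFinite _
  have hdpos := H12.irr_degree_pos χ
  by_cases hx1 : x = 1
  · rw [hx1, H12.irr_apply_one, Complex.norm_natCast]
  set f := Nat.card (D.aut (H12.oneIrr H)) with hfdef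
  by_cases hf : f + 1 = p
  · exact D.norm_eq_of_transitive hf χ (by omega) hx
  have hf' : 2 * f + 1 ≤ p := by
    haveI : Fintype (D.aut (H12.oneIrr H)) := Fintype.ofFinite _
    obtain ⟨S₀⟩ := D.exists_shape hM (H12.oneIrr H)
    have h := S₀.card_Y
    rw [← hfdef] at h
    rcases Nat.lt_or_ge (Nat.card S₀.Y) 2 with h2 | h2
    · interval_cases h3 : Nat.card S₀.Y
      · have := hp.out.two_le; omega
      · omega
    · have := Nat.mul_le_mul_right f h2
      omega
  obtain ⟨θ, hθ⟩ := D.exists_mem_supp_of_lt hM (χ := χ) (by omega)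
  haveI : Fintype (D.aut θ) := Fintype.ofFinite _
  obtain ⟨S⟩ := D.exists_shape hM θ
  rcases (D.union_eq_supp S).symm.subset hθ with h | h
  · exact D.norm_eq_of_colX hM hθ (S.εX_eq χ h) (S.colX χ h) (by omega) hx
  · obtain ⟨ψ, hψ, hcol⟩ := S.colY χ h
    obtain ⟨hε, hdeg⟩ := D.colY_degree hM hθ hψ S.ε_eq hcol hf' hn
    by_cases hf1 : f = 1
    · haveI : Fintype (D.orbit θ) := Fintype.ofFinite _
      obtain ⟨g, hg⟩ := D.exists_terms hM θ
      have hI : Fintype.card (D.orbit θ × D.aut θ) = 1 := by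
        rw [Fintype.card_prod, ← Nat.card_eq_fintype_card, ← Nat.card_eq_fintype_card,
          D.card_orbit_mul, ← hfdef, hf1]
      obtain ⟨i₀, hi₀⟩ := Fintype.card_eq_one_iff.1 hI
      have h1 := hg χ hθ ψ S.ε hcol ⟨x, hx⟩ fun h => hx1 (congrArg Subtype.val h)
      rw [hε, Fintype.sum_eq_single i₀ fun i hi => absurd (hi₀ i) hi] at h1
      rw [show (χ : G → ℂ) x = _ from h1, norm_mul, H12.norm_eq_one_of_pow_eq_one
        (hp.out.ne_zero) (show ((twist ψ (g i₀) ⟨x, hx⟩ : ℂˣ) : ℂ) ^ p = 1 by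
          have hxp := pow_card_eq_one' (G := (P : Subgroup G)) (x := ⟨x, hx⟩)
          rw [D.hP] at hxp
          rw [← Units.val_pow_eq_pow_val, ← map_pow, hxp, map_one, Units.val_one]), hdeg, ← hfdef,
        hf1]
      simp
    · exfalso
      have hf2 : 2 ≤ f := by
        have h0 : 0 < f := hfdef ▸ Nat.card_pos
        omega
      refine D.false_of_colY hM (fun l => ?_) S h hε hf2 hn hdeg
      haveI : Nontrivial (D.aut (H12.oneIrr H)) := Finite.one_lt_card_iff_nontrivial.1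
        (show 1 < Nat.card (D.aut (H12.oneIrr H)) by rw [← hfdef]; omega)
      obtain ⟨α, hα⟩ := exists_ne (1 : D.aut (H12.oneIrr H))
      set lP := l.comp (P : Subgroup G).subtype with hlP
      have hinv : ∀ y t : G, l (t * y * t⁻¹) = l y := fun y t => by
        rw [map_mul, map_mul, map_inv, mul_comm (l t), mul_inv_cancel_right]
      have hlP1 : lP = 1 := by
        by_contra hne
        refine hα (twist_injective D.hP hne (MonoidHom.ext fun y => ?_))
        obtain ⟨t, -, ht⟩ := D.mem_aut_iff.1 α.2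
        show l (((α : MulAut (P : Subgroup G)) y : (P : Subgroup G)) : G) = l (y : G)
        rw [ht, hinv]
      refine MonoidHom.eq_of_eqOn_dense hgen fun y hy => ?_
      obtain ⟨k, -, hk⟩ := (Nat.dvd_prime_pow hp.out).1
        ((pow_one p).symm ▸ orderOf_dvd_of_pow_eq_one hy : orderOf y ∣ p ^ 1)
      obtain ⟨z, hz, hconj⟩ := H20.FreeSylow.exists_isConj_mem (P := P) (y := y) ⟨k, hk⟩
      obtain ⟨t, ht⟩ := isConj_iff.1 hconj
      have h1 : l z = 1 := DFunLike.congr_fun hlP1 ⟨z, hz⟩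
      rw [← ht, hinv] at h1
      exact h1

end Setting

end H85.D1
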