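import Cfsg.Agent.H20.Coherence
import Cfsg.Agent.H20.PrincipalFree
import Cfsg.Agent.H20.PrincipalFreeApps

/-!
Defect one (helper85): the shape of an orthogonal family of columns indexed by a group `A` of
order `p` and invariant under a group `T` of automorphisms of `A`.
-/

set_option autoImplicit false
set_option linter.style.haveILetI false
set_option linter.unusedSectionVars false

open scoped ComplexConjugate

namespace H85.D1

universe u v w

variable {A : Type u} [Group A] [Fintype A] {p : ℕ} [hp : Fact p.Prime]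

/-- Twisting a linear character by an automorphism. -/
noncomputable def twist {T : Subgroup (MulAut A)} (ψ : A →* ℂˣ) (a : T) : A →* ℂˣ :=
  ψ.comp (a : MulAut A).toMonoidHom

theorem twist_apply {T : Subgroup (MulAut A)} (ψ : A →* ℂˣ) (a : T) (x : A) :
    twist ψ a x = ψ ((a : MulAut A) x) := rfl

theorem twist_eq_one_iff {T : Subgroup (MulAut A)} {ψ : A →* ℂˣ} {a : T} :
    twist ψ a = 1 ↔ ψ = 1 := by
  refine ⟨fun h => MonoidHom.ext fun x => ?_, fun h => by rw [h]; rfl⟩
  obtain ⟨y, rfl⟩ := (a : MulAut A).surjective x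
  exact DFunLike.congr_fun h y

theorem zpowers_top (hA : Nat.card A = p) {x : A} (hx : x ≠ 1) (y : A) :
    ∃ i : ℤ, x ^ i = y := by
  have h := zpowers_eq_top_of_prime_card hA hx
  exact Subgroup.mem_zpowers_iff.1 (h ▸ Subgroup.mem_top y)

theorem commOf (hA : Nat.card A = p) (a b : A) : a * b = b * a := by
  haveI : IsCyclic A := isCyclic_of_prime_card hA
  exact IsCyclic.commGroup.mul_comm a b

theorem lin_injective (hA : Nat.card A = p) {ψ : A →* ℂˣ} (hψ : ψ ≠ 1) :
    Function.Injective ψ := by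
  rw [injective_iff_map_eq_one]
  intro x hx
  by_contra hx1
  refine hψ (MonoidHom.ext fun y => ?_)
  obtain ⟨i, rfl⟩ := zpowers_top hA hx1 y
  rw [map_zpow, hx, one_zpow, MonoidHom.one_apply]

theorem twist_injective (hA : Nat.card A = p) {T : Subgroup (MulAut A)} {ψ : A →* ℂˣ}
    (hψ : ψ ≠ 1) : Function.Injective (twist (T := T) ψ) := fun a b hab =>
  Subtype.ext (MulEquiv.ext fun x => lin_injective hA hψ (DFunLike.congr_fun hab x))

/-- An orthogonal family of invariant columns. -/
structure Cols (p : ℕ) (T : Subgroup (MulAut A)) [Fintype T] {ι : Type v} [Fintype ι] {J : Type w}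
    (col : ι → A → ℂ) (val : ι → J → ℂ) : Prop where
  card : Nat.card A = p
  int : ∀ i (ψ : A →* ℂˣ),
    ∃ n : ℤ, (Nat.card A : ℂ)⁻¹ * ∑ x, col i x * (conj (ψ x : ℂ) - 1) = n
  inv : ∀ i (a : T) (x : A), col i ((a : MulAut A) x) = col i x
  orth : ∀ [DecidableEq A] (x z : A), x ≠ 1 → z ≠ 1 →
    ∑ i, col i x * conj (col i z) =
      (Nat.card A : ℂ) * ∑ a : T, if (a : MulAut A) x = z then 1 else 0
  reg : ∀ x : A, x ≠ 1 → ∀ j, ∑ i, col i x * val i j = 0
  pos : ∃ j₁ : J, ∀ i, ∃ d : ℕ, 0 < d ∧ val i j₁ = d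

/-- Congruent characters with constant total on the singular columns have total at most one. -/
def Bounded (p : ℕ) {ι : Type v} {J : Type w} (col : ι → A → ℂ) (val : ι → J → ℂ) : Prop :=
  ∀ S : Finset ι, S.Nonempty → S.card < p → (∀ i ∈ S, ∃ x, x ≠ 1 ∧ col i x ≠ 0) →
    (∀ i ∈ S, ∀ i' ∈ S, val i = val i') →
    ∀ s : ℤ, (∀ x, x ≠ 1 → ∑ i ∈ S, col i x = (s : ℂ)) → |s| ≤ 1

/-- The conclusion for an orthogonal family of invariant columns. -/
structure Shape (p : ℕ) (T : Subgroup (MulAut A)) [Fintype T] {ι : Type v} {J : Type w}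
    (col : ι → A → ℂ) (val : ι → J → ℂ) where
  X : Set ι
  Y : Set ι
  εX : ι → ℤ
  ε : ℤ
  disj : Disjoint X Y
  supp : ∀ i, i ∈ X ∪ Y ↔ ∃ x, x ≠ 1 ∧ col i x ≠ 0
  card_X : Nat.card X = Nat.card T
  card_Y : Nat.card Y * Nat.card T + 1 = p
  εX_eq : ∀ i ∈ X, εX i = 1 ∨ εX i = -1
  colX : ∀ i ∈ X, ∀ x, x ≠ 1 → col i x = (εX i : ℂ)
  ε_eq : ε = 1 ∨ ε = -1
  colY : ∀ i ∈ Y, ∃ ψ : A →* ℂˣ, ψ ≠ 1 ∧
    ∀ x, x ≠ 1 → col i x = (ε : ℂ) * ∑ a : T, (ψ ((a : MulAut A) x) : ℂ)
  surjY : ∀ ψ : A →* ℂˣ, ψ ≠ 1 → ∃ i ∈ Y,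
    ∀ x, x ≠ 1 → col i x = (ε : ℂ) * ∑ a : T, (ψ ((a : MulAut A) x) : ℂ)
  regY : ∀ i ∈ Y, ∀ i' ∈ Y, val i = val i'
  rel : ∀ i ∈ Y, ∀ j, (ε : ℂ) * val i j = ∑ᶠ k ∈ X, (εX k : ℂ) * val k j

variable {T : Subgroup (MulAut A)} [Fintype T] {ι : Type v} [Fintype ι] {J : Type w}
  {col : ι → A → ℂ} {val : ι → J → ℂ}

namespace Cols

/-- The integral Fourier coefficients. -/
noncomputable def coef (h : Cols p T col val) (i : ι) (ψ : A →* ℂˣ) : ℤ := (h.int i ψ).choose

theorem coef_spec (h : Cols p T col val) (i : ι) (ψ : A →* ℂˣ) :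
    (h.coef i ψ : ℂ) = (Nat.card A : ℂ)⁻¹ * ∑ x, col i x * (conj (ψ x : ℂ) - 1) :=
  (h.int i ψ).choose_spec.symm

theorem coef_one (h : Cols p T col val) (i : ι) : h.coef i 1 = 0 := by
  have := h.coef_spec i 1
  simp at this
  exact_mod_cast this

theorem coef_twist (h : Cols p T col val) (i : ι) (ψ : A →* ℂˣ) (a : T) :
    h.coef i (twist ψ a) = h.coef i ψ := by
  have h1 : (h.coef i (twist ψ a) : ℂ) = (h.coef i ψ : ℂ) := by
    rw [coef_spec, coef_spec]
    congr 1
    refine Fintype.sum_equiv (a : MulAut A).toEquiv _ _ fun x => ?_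
    show _ = col i ((a : MulAut A) x) * _
    rw [h.inv]
    rfl
  exact_mod_cast h1

theorem apply_eq_sum (h : Cols p T col val) [Fintype (A →* ℂˣ)] (i : ι) {x : A} (hx : x ≠ 1) :
    col i x = ∑ ψ : A →* ℂˣ, (h.coef i ψ : ℂ) * (ψ x : ℂ) := by
  classical
  have hA := commOf h.card
  simp only [coef_spec, mul_assoc, ← Finset.mul_sum, Finset.sum_mul]
  rw [Finset.sum_comm]
  simp only [← Finset.mul_sum, sub_mul, one_mul, Finset.sum_sub_distrib,
    H20.sum_dual_conj_mul hA, H20.sum_dual hA, if_neg hx, sub_zero, mul_ite, mul_zero,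
    Finset.sum_ite_eq, Finset.mem_univ, if_true]
  rw [mul_comm (col i x), ← mul_assoc, inv_mul_cancel₀ (Nat.cast_ne_zero.2 Nat.card_pos.ne'),
    one_mul]

theorem sum_coef_val (h : Cols p T col val) (ψ : A →* ℂˣ) (j : J) :
    ∑ i, (h.coef i ψ : ℂ) * val i j = 0 := by
  simp only [coef_spec, mul_assoc, ← Finset.mul_sum, Finset.sum_mul]
  rw [Finset.sum_comm, Finset.sum_eq_zero (fun x _ => ?_), mul_zero]
  rcases eq_or_ne x 1 with rfl | hx
  · simp
  rw [← mul_zero (conj (ψ x : ℂ) - 1), ← h.reg x hx j, Finset.mul_sum]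
  exact Finset.sum_congr rfl fun i _ => by ring

theorem gram (h : Cols p T col val) [DecidableEq (A →* ℂˣ)] {ψ φ : A →* ℂˣ} (hψ : ψ ≠ 1)
    (hφ : φ ≠ 1) : ∑ i, h.coef i ψ * h.coef i φ =
      ∑ a : T, ((if twist φ a = ψ then 1 else 0) + 1) := by
  classical
  have hcard : (Nat.card A : ℂ) ≠ 0 := Nat.cast_ne_zero.2 Nat.card_pos.ne'
  apply Int.cast_injective (α := ℂ)
  push_cast
  have e1 : ∀ i, (h.coef i ψ : ℂ) * h.coef i φ =
      ((Nat.card A : ℂ)⁻¹ * (Nat.card A : ℂ)⁻¹) *
        ∑ x, ∑ z, (col i x * conj (col i z)) * ((conj (ψ x : ℂ) - 1) * ((φ z : ℂ) - 1)) := by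
    intro i
    rw [← map_intCast (starRingEnd ℂ) (h.coef i φ), coef_spec, coef_spec, map_mul, map_inv₀,
      Complex.conj_natCast, map_sum, mul_mul_mul_comm, Finset.sum_mul_sum]
    congr 1
    refine Finset.sum_congr rfl fun x _ => Finset.sum_congr rfl fun z _ => ?_
    rw [map_mul, map_sub, Complex.conj_conj, map_one]
    ring
  rw [Finset.sum_congr rfl fun i _ => e1 i, ← Finset.mul_sum, Finset.sum_comm]
  have e2 : ∀ x, ∑ i, ∑ z, (col i x * conj (col i z)) * ((conj (ψ x : ℂ) - 1) * ((φ z : ℂ) - 1)) =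
      ∑ a : T, (Nat.card A : ℂ) * ((conj (ψ x : ℂ) - 1) * ((twist φ a x : ℂ) - 1)) := by
    intro x
    rw [Finset.sum_comm]
    simp only [← Finset.sum_mul]
    rcases eq_or_ne x 1 with rfl | hx
    · simp
    have e3 : ∀ z, (∑ i, col i x * conj (col i z)) * ((conj (ψ x : ℂ) - 1) * ((φ z : ℂ) - 1)) =
        ∑ a : T, (if (a : MulAut A) x = z then
          (Nat.card A : ℂ) * ((conj (ψ x : ℂ) - 1) * ((φ z : ℂ) - 1)) else 0) := by
      intro z
      rcases eq_or_ne z 1 with rfl | hz
      · simp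
      rw [h.orth x z hx hz, Finset.mul_sum, Finset.sum_mul]
      exact Finset.sum_congr rfl fun a _ => by split_ifs <;> ring
    rw [Finset.sum_congr rfl fun z _ => e3 z, Finset.sum_comm]
    refine Finset.sum_congr rfl fun a _ => ?_
    rw [Finset.sum_ite_eq, if_pos (Finset.mem_univ _)]
    rfl
  rw [Finset.sum_congr rfl fun x _ => e2 x, Finset.sum_comm, Finset.mul_sum]
  refine Finset.sum_congr rfl fun a _ => ?_
  simp only [mul_sub, sub_mul, one_mul, mul_one, Finset.sum_sub_distrib, ← Finset.mul_sum,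
    H20.sum_conj_mul_lin, H20.sum_conj_lin, H20.sum_lin, if_neg hψ,
    if_neg (mt twist_eq_one_iff.1 hφ), Finset.sum_const, Finset.card_univ, nsmul_eq_mul]
  rw [← Nat.card_eq_fintype_card]
  field_simp
  split_ifs <;> ring

/-- The shape of the columns. -/
theorem exists_shape (h : Cols p T col val) (hbd : Bounded p col val) : Nonempty (Shape p T col val) := by
  classical
  have hA := commOf h.card
  haveI : Finite (A →* ℂˣ) := H20.finite_dual
  haveI : Fintype (A →* ℂˣ) := Fintype.ofFinite _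
  set e := Fintype.card T with he
  have he0 : 0 < e := Fintype.card_pos
  have hp2 := hp.out.two_le
  let S : Setoid {ψ : A →* ℂˣ // ψ ≠ 1} :=
    { r := fun ψ φ => ∃ a : T, twist ψ.1 a = φ.1
      iseqv := ⟨fun ψ => ⟨1, rfl⟩, fun {ψ φ} ⟨a, ha⟩ => ⟨a⁻¹, by
          rw [← ha]
          ext x
          simp [twist]⟩,
        fun {ψ φ χ} ⟨a, ha⟩ ⟨b, hb⟩ => ⟨a * b, by rw [← hb, ← ha]; rfl⟩⟩ }
  haveI : Fintype (Quotient S) := Fintype.ofFinite _
  have hout : ∀ ψ : {ψ : A →* ℂˣ // ψ ≠ 1}, ∃ a : T, twist (Quotient.mk S ψ).out.1 a = ψ.1 :=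
    fun ψ => Quotient.exact (Quotient.out_eq (Quotient.mk S ψ))
  have htw : ∀ (q : Quotient S) (a : T), twist q.out.1 a ≠ 1 := fun q a =>
    mt twist_eq_one_iff.1 q.out.2
  have hbij : Function.Bijective (fun qa : Quotient S × T =>
      (⟨twist qa.1.out.1 qa.2, htw _ _⟩ : {ψ : A →* ℂˣ // ψ ≠ 1})) := by
    constructor
    · rintro ⟨q, a⟩ ⟨q', a'⟩ hqq
      have h1 : twist q.out.1 a = twist q'.out.1 a' := congrArg Subtype.val hqq
      have hq : q = q' := by
        have := Quotient.sound (s := S) (a := q.out) (b := q'.out)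
          ⟨a * a'⁻¹, MonoidHom.ext fun x => by
            have h2 := DFunLike.congr_fun h1 ((a'⁻¹ : T).1 x)
            rw [twist_apply, twist_apply, ← MulAut.mul_apply, ← MulAut.mul_apply, ← Subgroup.coe_mul,
              ← Subgroup.coe_mul, mul_inv_cancel, Subgroup.coe_one, MulAut.one_apply] at h2
            exact h2⟩
        rwa [Quotient.out_eq, Quotient.out_eq] at this
      subst hq
      rw [twist_injective h.card q.out.2 h1]
    · intro ψ
      obtain ⟨a, ha⟩ := hout ψ
      exact ⟨⟨_, a⟩, Subtype.ext ha⟩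
  set r := Fintype.card (Quotient S) with hr
  have hcard : r * e + 1 = p := by
    have hd : Fintype.card (A →* ℂˣ) = p := by
      rw [← h.card]; exact_mod_cast H20.card_dual hA
    rw [hr, he, ← Fintype.card_prod, Fintype.card_of_bijective hbij, Fintype.card_subtype_compl,
      Fintype.card_subtype_eq]
    omega
  have hr0 : 0 < r := by
    by_contra h0
    rw [show r = 0 by omega] at hcard
    omega
  -- sums over the nontrivial characters
  let Sq : Quotient S → A → ℂ := fun q x => ∑ a : T, (q.out.1 ((a : MulAut A) x) : ℂ)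
  have hfib : ∀ F : (A →* ℂˣ) → ℂ,
      ∑ ψ ∈ Finset.univ.erase (1 : A →* ℂˣ), F ψ = ∑ q : Quotient S, ∑ a : T, F (twist q.out.1 a) := by
    intro F
    rw [Finset.sum_subtype (Finset.univ.erase (1 : A →* ℂˣ)) (p := fun ψ => ψ ≠ 1) (by simp),
      ← Fintype.sum_prod_type' fun (q : Quotient S) (a : T) => F (twist q.out.1 a)]
    exact (Fintype.sum_bijective _ hbij _ _ fun qa => rfl).symm
  have hSq : ∀ x, x ≠ 1 → ∑ q, Sq q x = -1 := by
    intro x hx
    rw [← zero_sub, ← H20.sum_dual_ne_one hA hx,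
      ← Finset.add_sum_erase _ _ (Finset.mem_univ (1 : A →* ℂˣ)), hfib fun ψ => (ψ x : ℂ)]
    simp [Sq, twist_apply]
  -- the vectors
  let v : Quotient S → ι → ℤ := fun q i => h.coef i q.out.1
  have hgram : ∀ q q', ∑ i, v q i * v q' i = (e : ℤ) + if q = q' then 1 else 0 := by
    intro q q'
    rw [h.gram q.out.2 q'.out.2, Finset.sum_add_distrib, Finset.sum_const, Finset.card_univ,
      nsmul_one, add_comm]
    congr 1
    split_ifs with hq
    · subst hq
      rw [Finset.sum_eq_single (1 : T) (fun a _ ha => if_neg fun h1 =>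
        ha (twist_injective h.card q.out.2 (h1.trans rfl))) (by simp)]
      exact if_pos rfl
    · refine Finset.sum_eq_zero fun a _ => if_neg fun h1 => hq ?_
      have := Quotient.sound (s := S) (a := q'.out) (b := q.out) ⟨a, h1⟩
      rw [Quotient.out_eq, Quotient.out_eq] at this
      exact this.symm
  obtain ⟨j₁, hj₁⟩ := h.pos
  choose deg hdeg0 hdeg using hj₁
  have hvdeg : ∀ q q', ∑ i, (v q i - v q' i) * (deg i : ℤ) = 0 := by
    intro q q'
    apply Int.cast_injective (α := ℂ)
    push_cast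
    simp only [← hdeg, sub_mul, Finset.sum_sub_distrib, v, h.sum_coef_val, sub_self]
  have hcolv : ∀ i x, x ≠ 1 → col i x = ∑ q, (v q i : ℂ) * Sq q x := by
    intro i x hx
    rw [h.apply_eq_sum i hx, ← Finset.add_sum_erase _ _ (Finset.mem_univ (1 : A →* ℂˣ)), h.coef_one,
      Int.cast_zero, zero_mul, zero_add, hfib]
    simp only [coef_twist, Sq, v, Finset.mul_sum, twist_apply]
  have hne : ∀ (i : ι) (q : Quotient S), v q i ≠ 0 → ∃ x, x ≠ 1 ∧ col i x ≠ 0 := by
    intro i q hq
    by_contra hall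
    simp only [not_exists, not_and, not_not] at hall
    apply hq
    have h1 := h.coef_spec i q.out.1
    rw [Finset.sum_eq_single (1 : A) (fun x _ hx => by rw [hall x hx, zero_mul]) (by simp)] at h1
    simp at h1
    exact_mod_cast h1
  -- normalised coherence
  obtain ⟨δ, Y, b, hδ, hY, hvb, hb0⟩ : ∃ (δ : ℤ) (Y : Quotient S → ι) (b : ι → ℤ),
      (δ = 1 ∨ δ = -1) ∧ Function.Injective Y ∧
      (∀ q i, v q i = b i + δ * if i = Y q then 1 else 0) ∧ ∀ q, b (Y q) = 0 := by
    rcases Nat.lt_or_ge r 2 with hr1 | hr2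
    · haveI : Subsingleton (Quotient S) := Fintype.card_le_one_iff_subsingleton.1 (by omega)
      haveI : Nonempty (Quotient S) := Fintype.card_pos_iff.1 (by omega)
      obtain ⟨q⟩ := ‹Nonempty (Quotient S)›
      obtain ⟨i, -, hi⟩ := Finset.exists_ne_zero_of_sum_ne_zero
        (f := fun i => v q i * v q i) (s := Finset.univ) (by rw [hgram, if_pos rfl]; omega)
      have hvi : v q i ≠ 0 := fun h0 => hi (by rw [h0, zero_mul])
      have hle := hbd {i} (Finset.singleton_nonempty i) (by
          rw [Finset.card_singleton]; exact hp.out.one_lt)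
        (fun k hk => by rw [Finset.mem_singleton.1 hk]; exact hne i q hvi)
        (fun k hk l hl => by rw [Finset.mem_singleton.1 hk, Finset.mem_singleton.1 hl])
        (-(v q i)) (fun x hx => by
          have h1 := hSq x hx
          rw [Fintype.sum_subsingleton _ q] at h1
          rw [Finset.sum_singleton, hcolv i x hx, Fintype.sum_subsingleton _ q, h1]
          push_cast; ring)
      rw [abs_le] at hle
      refine ⟨v q i, fun _ => i, fun k => v q k - if k = i then v q i else 0, by omega,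
        Function.injective_of_subsingleton _, fun q' k => ?_, fun _ => by simp⟩
      rw [Subsingleton.elim q' q]
      by_cases hk : k = i <;> simp [hk]
    · obtain ⟨δ, Y, b, hδ, hY, hvb, hbY⟩ := H20.Coherence.coherent v (deg := fun i => (deg i : ℤ))
        (fun i => by exact_mod_cast hdeg0 i) (e : ℤ) hgram hvdeg hr2
      haveI : Nonempty (Quotient S) := Fintype.card_pos_iff.1 (by omega)
      obtain ⟨q0⟩ := ‹Nonempty (Quotient S)›
      set t := b (Y q0) with ht
      have hreg : ∀ q q' j, val (Y q) j = val (Y q') j := by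
        intro q q' j
        have h1 : ∑ i, ((v q i : ℂ) - (v q' i : ℂ)) * val i j = 0 := by
          simp only [sub_mul, Finset.sum_sub_distrib, v, h.sum_coef_val, sub_self]
        simp only [hvb] at h1
        push_cast at h1
        simp only [add_sub_add_left_eq_sub, sub_mul, mul_ite, mul_one, mul_zero, ite_mul, zero_mul,
          Finset.sum_sub_distrib, Finset.sum_ite_eq', Finset.mem_univ, if_true] at h1
        have hδ0 : (δ : ℂ) ≠ 0 := by rcases hδ with rfl | rfl <;> norm_num
        rw [← mul_sub, mul_eq_zero] at h1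
        exact sub_eq_zero.1 (h1.resolve_left hδ0)
      by_cases ht0 : t = 0
      · exact ⟨δ, Y, b, hδ, hY, hvb, fun q => (hbY q q0).trans ht0⟩
      have hS : ∀ i ∈ Finset.univ.image Y, ∃ x, x ≠ 1 ∧ col i x ≠ 0 := by
        intro i hi
        obtain ⟨q, -, rfl⟩ := Finset.mem_image.1 hi
        obtain ⟨q', hq'⟩ := Fintype.exists_ne_of_one_lt_card (by omega : 1 < Fintype.card (Quotient S)) q
        refine hne _ q' ?_
        rw [hvb, if_neg fun e' => hq' (hY e').symm, mul_zero, add_zero, hbY q q0]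
        exact ht0
      have hbound := hbd (Finset.univ.image Y) (Finset.univ_nonempty.image _)
        (by
          rw [Finset.card_image_of_injective _ hY, Finset.card_univ, ← hr]
          have : r * 1 ≤ r * e := Nat.mul_le_mul_left r he0
          omega) hS
        (fun i hi i' hi' => funext fun j => by
          obtain ⟨q, -, rfl⟩ := Finset.mem_image.1 hi
          obtain ⟨q', -, rfl⟩ := Finset.mem_image.1 hi'
          exact hreg q q' j)
        (-((r : ℤ) * t + δ)) (fun x hx => by
          rw [Finset.sum_image fun a _ c _ hac => hY hac, Finset.sum_congr rfl fun q _ => hcolv _ x hx]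
          simp only [hvb, hY.eq_iff]
          push_cast
          simp only [fun q => hbY q q0, ← ht, add_mul, mul_ite, mul_one, mul_zero, ite_mul,
            zero_mul, Finset.sum_add_distrib, Finset.sum_ite_eq, Finset.mem_univ, if_true,
            ← Finset.mul_sum, hSq x hx, Finset.sum_const, Finset.card_univ, nsmul_eq_mul, ← hr]
          push_cast
          ring)
      rw [abs_neg, abs_le] at hbound
      have hr2' : (2 : ℤ) ≤ r := by exact_mod_cast hr2
      have htδ : r = 2 ∧ t = -δ := by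
        rcases lt_or_gt_of_ne ht0 with hneg | hpos
        · have h2 : (r : ℤ) * t ≤ (r : ℤ) * (-1) := mul_le_mul_of_nonneg_left (by omega) (by omega)
          rcases hδ with hd | hd <;> rw [hd] at hbound
          · have : (r : ℤ) = 2 := by linarith
            rw [this] at hbound
            exact ⟨by omega, by omega⟩
          · exfalso; linarith
        · have h2 : (r : ℤ) * 1 ≤ (r : ℤ) * t := mul_le_mul_of_nonneg_left (by omega) (by omega)
          rcases hδ with hd | hd <;> rw [hd] at hbound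
          · exfalso; linarith
          · have : (r : ℤ) = 2 := by linarith
            rw [this] at hbound
            exact ⟨by omega, by omega⟩
      obtain ⟨q1, hq1⟩ := Fintype.exists_ne_of_one_lt_card (by omega : 1 < Fintype.card (Quotient S)) q0
      have h2 : ∀ q, q = q0 ∨ q = q1 := by
        intro q
        have hu : ({q0, q1} : Finset (Quotient S)) = Finset.univ :=
          Finset.eq_univ_of_card _ (by rw [Finset.card_pair hq1.symm, ← hr, htδ.1])
        have := Finset.mem_univ q
        rw [← hu] at this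
        simpa using this
      obtain ⟨b', hb', hb'Y⟩ := H20.Coherence.coherent_flip v hY hvb (Equiv.swap q0 q1)
        (fun q => by rcases h2 q with rfl | rfl <;> simp [hq1, hq1.symm]) htδ.1
      exact ⟨-δ, Y ∘ Equiv.swap q0 q1, b', by omega, hY.comp (Equiv.injective _), hb', fun q => by
        rw [Function.comp_apply, hb'Y, hbY _ q0, ← ht, htδ.2]; ring⟩
  -- the values
  have hcol : ∀ i x, x ≠ 1 → col i x =
      -(b i : ℂ) + (δ : ℂ) * ∑ q, if i = Y q then Sq q x else 0 := by
    intro i x hx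
    rw [hcolv i x hx, Finset.mul_sum,
      show -(b i : ℂ) = (b i : ℂ) * ∑ q, Sq q x by rw [hSq x hx]; ring, Finset.mul_sum,
      ← Finset.sum_add_distrib]
    refine Finset.sum_congr rfl fun q _ => ?_
    rw [hvb]
    push_cast
    split_ifs <;> ring
  have hcolY : ∀ q x, x ≠ 1 → col (Y q) x = (δ : ℂ) * Sq q x := by
    intro q x hx
    rw [hcol _ x hx, hb0, Finset.sum_eq_single q (fun q' _ hq' => if_neg fun e' => hq' (hY e').symm)
      (by simp), if_pos rfl]
    simp
  have hcolN : ∀ i, (∀ q, i ≠ Y q) → ∀ x, x ≠ 1 → col i x = -(b i : ℂ) := by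
    intro i hi x hx
    rw [hcol i x hx, Finset.sum_eq_zero fun q _ => if_neg (hi q), mul_zero, add_zero]
  haveI : Nonempty (Quotient S) := Fintype.card_pos_iff.1 hr0
  obtain ⟨q₀⟩ := ‹Nonempty (Quotient S)›
  set Xs : Set ι := {i | b i ≠ 0} with hXs
  have hbY' : ∀ i ∈ Xs, ∀ q, i ≠ Y q := fun i hi q e' => hi (by rw [e', hb0])
  have hb1 : ∀ i ∈ Xs, b i = 1 ∨ b i = -1 := by
    intro i hi
    have hle := hbd {i} (Finset.singleton_nonempty i)
      (by rw [Finset.card_singleton]; exact hp.out.one_lt)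
      (fun k hk => by
        rw [Finset.mem_singleton.1 hk]
        refine hne i q₀ ?_
        rw [hvb, if_neg (hbY' i hi q₀), mul_zero, add_zero]
        exact hi)
      (fun k hk l hl => by rw [Finset.mem_singleton.1 hk, Finset.mem_singleton.1 hl])
      (-(b i)) (fun x hx => by
        rw [Finset.sum_singleton, hcolN i (hbY' i hi) x hx]; push_cast; rfl)
    rw [abs_le] at hle
    have : b i ≠ 0 := hi
    omega
  refine ⟨
    { X := Xs
      Y := Set.range Y
      εX := fun i => -b i
      ε := δ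
      disj := ?_
      supp := ?_
      card_X := ?_
      card_Y := ?_
      εX_eq := fun i hi => by have := hb1 i hi; omega
      colX := fun i hi x hx => by rw [hcolN i (hbY' i hi) x hx]; push_cast; rfl
      ε_eq := hδ
      colY := ?_
      surjY := ?_
      regY := ?_
      rel := ?_ }⟩
  · rw [Set.disjoint_left]
    rintro i hi ⟨q, rfl⟩
    exact hi (hb0 q)
  · intro i
    constructor
    · rintro (hi | ⟨q, rfl⟩)
      · refine hne i q₀ ?_
        rw [hvb, if_neg (hbY' i hi q₀), mul_zero, add_zero]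
        exact hi
      · refine hne _ q ?_
        rw [hvb, hb0, if_pos rfl]
        rcases hδ with rfl | rfl <;> norm_num
    · rintro ⟨x, hx, hne'⟩
      by_cases hi : ∃ q, i = Y q
      · obtain ⟨q, rfl⟩ := hi
        exact Or.inr ⟨q, rfl⟩
      · simp only [not_exists] at hi
        refine Or.inl fun h0 => hne' ?_
        rw [hcolN i hi x hx, h0]; simp
  · have h1 := hgram q₀ q₀
    rw [if_pos rfl] at h1
    simp only [hvb, add_mul, mul_add, Finset.sum_add_distrib, mul_ite, mul_one, mul_zero, ite_mul,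
      zero_mul, Finset.sum_ite_eq', Finset.mem_univ, if_true, hb0, add_zero, zero_add] at h1
    rw [← Finset.sum_filter_add_sum_filter_not Finset.univ (fun i => b i ≠ 0),
      Finset.sum_congr rfl (g := fun _ => (1 : ℤ)) (fun i hi => by
        rcases hb1 i (Finset.mem_filter.1 hi).2 with h' | h' <;> rw [h'] <;> norm_num),
      Finset.sum_eq_zero (s := Finset.univ.filter fun i => ¬ b i ≠ 0) (fun i hi => by
        rw [not_not.1 (Finset.mem_filter.1 hi).2, mul_zero]),
      Finset.sum_const, nsmul_one, add_zero] at h1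
    have hδ2 : δ * δ = 1 := by rcases hδ with rfl | rfl <;> norm_num
    rw [hδ2] at h1
    have h2 : (Finset.univ.filter fun i => b i ≠ 0).card = e := by exact_mod_cast (by linarith : _)
    rw [Nat.card_coe_set_eq, Nat.card_eq_fintype_card, ← he, ← h2, ← Set.ncard_coe_finset]
    congr 1
    ext i
    simp [Xs]
  · rw [Nat.card_coe_set_eq, Set.ncard_range_of_injective hY, Nat.card_eq_fintype_card,
      Nat.card_eq_fintype_card, ← hr, ← he, hcard]
  · rintro _ ⟨q, rfl⟩
    exact ⟨q.out.1, q.out.2, fun x hx => hcolY q x hx⟩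
  · intro ψ hψ
    obtain ⟨a, ha⟩ := hout ⟨ψ, hψ⟩
    refine ⟨_, ⟨Quotient.mk S ⟨ψ, hψ⟩, rfl⟩, fun x hx => ?_⟩
    rw [hcolY _ x hx]
    congr 1
    refine (Fintype.sum_equiv (Equiv.mulLeft a) _ _ fun a' => ?_).symm
    rw [Equiv.coe_mulLeft, Subgroup.coe_mul, MulAut.mul_apply]
    exact congrArg Units.val (DFunLike.congr_fun ha ((a' : MulAut A) x)).symm
  · rintro _ ⟨q, rfl⟩ _ ⟨q', rfl⟩
    funext j
    have h1 : ∑ i, ((v q i : ℂ) - (v q' i : ℂ)) * val i j = 0 := by
      simp only [sub_mul, Finset.sum_sub_distrib, v, h.sum_coef_val, sub_self]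
    simp only [hvb] at h1
    push_cast at h1
    simp only [add_sub_add_left_eq_sub, sub_mul, mul_ite, mul_one, mul_zero, ite_mul, zero_mul,
      Finset.sum_sub_distrib, Finset.sum_ite_eq', Finset.mem_univ, if_true] at h1
    have hδ0 : (δ : ℂ) ≠ 0 := by rcases hδ with rfl | rfl <;> norm_num
    rw [← mul_sub, mul_eq_zero] at h1
    exact sub_eq_zero.1 (h1.resolve_left hδ0)
  · rintro _ ⟨q, rfl⟩ j
    have h1 : ∑ i, (v q i : ℂ) * val i j = 0 := h.sum_coef_val _ j
    simp only [hvb] at h1
    push_cast at h1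
    simp only [add_mul, mul_ite, mul_one, mul_zero, ite_mul, zero_mul, Finset.sum_add_distrib,
      Finset.sum_ite_eq', Finset.mem_univ, if_true] at h1
    rw [finsum_mem_eq_toFinset_sum,
      Finset.sum_subset (Finset.subset_univ Xs.toFinset) fun i _ hi => by
        rw [Set.mem_toFinset] at hi
        simp only [hXs, Set.mem_setOf_eq, not_not] at hi
        simp [hi]]
    push_cast
    simp only [neg_mul, Finset.sum_neg_distrib]
    linear_combination h1

end Cols

end H85.D1
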