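import Cfsg.Agent.H85.D1.Ramified

/-!
Defect one (helper85): lattices for a group of order `p` with a semilinear automorphism, their
Tate groups `ker (σ - 1) / range A` and `ker A / range (σ - 1)` and liftings of endomorphisms.
-/

set_option autoImplicit false
set_option linter.style.haveILetI false
set_option linter.unusedSectionVars false

open Module

namespace H85.D1

universe u v

/-- The norm of an operator of order `p`. -/
def nrm {R : Type u} [CommRing R] {M : Type v} [AddCommGroup M] [Module R M] (p : ℕ)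
    (σ : End R M) : End R M := ∑ i ∈ Finset.range p, σ ^ i

variable {R : Type u} [CommRing R] [IsDomain R] [IsPrincipalIdealRing R]
variable {M : Type v} [AddCommGroup M] [Module R M] [Module.Free R M] [Module.Finite R M]
variable {p : ℕ} [hp : Fact p.Prime]

section Basic

variable {σ : End R M} (hσ : σ ^ p = 1)

include hσ in
theorem pow_modEq {i j : ℕ} (h : i ≡ j [MOD p]) : σ ^ i = σ ^ j := by
  rw [pow_eq_pow_mod i hσ, pow_eq_pow_mod j hσ, h]

include hσ in
theorem sigma_nrm : σ * nrm p σ = nrm p σ := by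
  have h := (geom_sum_succ' (x := σ) (n := p)).symm.trans (geom_sum_succ (x := σ) (n := p))
  rw [hσ, add_comm] at h
  rw [nrm]
  exact (add_right_cancel h).symm

include hσ in
theorem nrm_sigma : nrm p σ * σ = nrm p σ := by
  have hc : Commute σ (nrm p σ) := Commute.sum_right _ _ _ fun i _ => Commute.self_pow σ i
  rw [← hc.eq, sigma_nrm hσ]

theorem nrm_apply_of_fixed {x : M} (hx : σ x = x) : nrm p σ x = (p : R) • x := by
  have h : ∀ i : ℕ, (σ ^ i) x = x := fun i => by
    induction i with
    | zero => simp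
    | succ i ih => rw [pow_succ, End.mul_apply, hx, ih]
  simp [nrm, LinearMap.sum_apply, h, Nat.cast_smul_eq_nsmul]

/-- A semilinear operator commutes with the norm. -/
theorem nu_nrm (hσ : σ ^ p = 1) {ν : End R M} {a : ℕ} (ha : ¬ p ∣ a)
    (hνσ : ν * σ = σ ^ a * ν) : ν * nrm p σ = nrm p σ * ν := by
  have h : ∀ i : ℕ, ν * σ ^ i = σ ^ (a * i) * ν := fun i => by
    induction i with
    | zero => simp
    | succ i ih => rw [pow_succ, ← mul_assoc, ih, mul_assoc, hνσ, ← mul_assoc, ← pow_add, mul_add_one]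
  rw [nrm, Finset.mul_sum, Finset.sum_mul, Finset.sum_congr rfl fun i _ => h i]
  rw [← Finset.sum_mul, ← Finset.sum_mul]
  congr 1
  haveI : NeZero p := ⟨hp.out.ne_zero⟩
  refine Finset.sum_bij (fun i _ => (a * i) % p)
    (fun i _ => Finset.mem_range.2 (Nat.mod_lt _ hp.out.pos)) ?_ ?_
    (fun i _ => pow_eq_pow_mod _ hσ)
  · intro i hi j hj h'
    have h1 : (a : ZMod p) * i = (a : ZMod p) * j := by
      rw [← Nat.cast_mul, ← Nat.cast_mul]
      exact (ZMod.natCast_eq_natCast_iff' _ _ _).2 h'
    have h2 := mul_left_cancel₀ (fun h0 => ha ((ZMod.natCast_eq_zero_iff _ _).1 h0)) h1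
    rw [ZMod.natCast_eq_natCast_iff'] at h2
    rwa [Nat.mod_eq_of_lt (Finset.mem_range.1 hi), Nat.mod_eq_of_lt (Finset.mem_range.1 hj)] at h2
  · intro j hj
    refine ⟨(((a : ZMod p))⁻¹ * (j : ZMod p)).val, Finset.mem_range.2 (ZMod.val_lt _), ?_⟩
    have h0 : ((a * (((a : ZMod p))⁻¹ * (j : ZMod p)).val : ℕ) : ZMod p) = (j : ZMod p) := by
      rw [Nat.cast_mul, ZMod.natCast_zmod_val,
        mul_inv_cancel_left₀ (fun h0 => ha ((ZMod.natCast_eq_zero_iff _ _).1 h0))]
    rw [ZMod.natCast_eq_natCast_iff', Nat.mod_eq_of_lt (Finset.mem_range.1 hj)] at h0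
    exact h0

theorem sigma_fix_of_pow {a : ℕ} (hσ : σ ^ p = 1) (ha : ¬ p ∣ a) {x : M}
    (h : (σ ^ a) x = x) : σ x = x := by
  have hcast : (a : ZMod p) ≠ 0 := fun h0 => ha ((ZMod.natCast_eq_zero_iff _ _).1 h0)
  have hb : a * ((a : ZMod p))⁻¹.val ≡ 1 [MOD p] := by
    rw [← ZMod.natCast_eq_natCast_iff, Nat.cast_mul, ZMod.natCast_zmod_val, Nat.cast_one,
      mul_inv_cancel₀ hcast]
  have hn : ∀ n : ℕ, (σ ^ (a * n)) x = x := fun n => by
    induction n with
    | zero => simp
    | succ n ih => rw [mul_add_one, pow_add, End.mul_apply, h, ih]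
  have h1 := hn ((a : ZMod p))⁻¹.val
  rwa [pow_modEq hσ hb, pow_one] at h1

end Basic

/-- A submodule containing `p` times the module, in suitable coordinates. -/
theorem exists_smith_pair (hirr : Irreducible (p : R)) [Nonempty R] (N : Submodule R M)
    (hpN : ∀ x : M, (p : R) • x ∈ N) :
    ∃ (k : ℕ) (b : Basis (Fin k) R M) (T : Finset (Fin k)),
      ∀ x : M, x ∈ N ↔ ∀ j ∈ T, (p : R) ∣ b.repr x j := by
  classical
  have hp0 : (p : R) ≠ 0 := hirr.ne_zero
  let b0 := Module.finBasis R M
  obtain ⟨n, bM, bN, f, a, hsnf⟩ := Submodule.smithNormalForm b0 N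
  have hrepr : ∀ (x : N) (j : Fin (finrank R M)) (i : Fin n), f i = j →
      bM.repr (x : M) j = bN.repr x i * a i := by
    intro x j i hij
    subst hij
    have h : ((∑ i', bN.repr x i' • bN i' : N) : M) = x := by rw [bN.sum_repr]
    have h2 := congrArg (fun v : M => bM.repr v (f i)) h
    simp only [Submodule.coe_sum, Submodule.coe_smul, hsnf, map_sum, map_smul, bM.repr_self,
      Finsupp.coe_finsetSum, Finsupp.coe_smul, Finset.sum_apply, Pi.smul_apply, smul_eq_mul,
      Finsupp.single_apply, f.injective.eq_iff, mul_ite, mul_one, mul_zero, Finset.sum_ite_eq',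
      Finset.mem_univ, if_true] at h2
    exact h2.symm
  have hsurj : ∀ j, ∃ i, f i = j := by
    intro j
    by_contra hj
    have h1 : bM.repr ((p : R) • bM j) j = 0 := by
      rw [show (p : R) • bM j = ((⟨_, hpN (bM j)⟩ : N) : M) from rfl]
      conv_lhs => rw [← bN.sum_repr ⟨_, hpN (bM j)⟩]
      simp only [Submodule.coe_sum, Submodule.coe_smul, hsnf, map_sum, map_smul, bM.repr_self,
        Finsupp.coe_finsetSum, Finsupp.coe_smul, Finset.sum_apply, Pi.smul_apply, smul_eq_mul]
      refine Finset.sum_eq_zero fun i _ => ?_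
      rw [Finsupp.single_apply, if_neg fun h => hj ⟨i, h⟩, mul_zero, mul_zero]
    simp [map_smul, bM.repr_self] at h1
    exact hp0 h1
  choose g hg using hsurj
  have hadvd : ∀ j, a (g j) ∣ (p : R) := fun j => by
    refine ⟨bN.repr ⟨_, hpN (bM j)⟩ (g j), ?_⟩
    have := hrepr ⟨_, hpN (bM j)⟩ j (g j) (hg j)
    simp [map_smul, bM.repr_self] at this
    exact this.trans (mul_comm _ _)
  refine ⟨finrank R M, bM, Finset.univ.filter fun j => ¬ IsUnit (a (g j)), fun x => ?_⟩
  simp only [Finset.mem_filter, Finset.mem_univ, true_and]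
  constructor
  · intro hx j hj
    obtain ⟨r, hr⟩ := hadvd j
    have hru : IsUnit r := (hirr.isUnit_or_isUnit hr).resolve_left hj
    rw [show bM.repr x j = bN.repr ⟨x, hx⟩ (g j) * a (g j) from hrepr ⟨x, hx⟩ j _ (hg j)]
    refine Dvd.dvd.mul_left ?_ _
    rw [hr]
    exact (hru.mul_right_dvd).2 dvd_rfl
  · intro h
    rw [← bM.sum_repr x]
    refine sum_mem fun j _ => ?_
    have hbj : a (g j) • bM j ∈ N := by
      have h1 := (bN (g j)).2
      rwa [hsnf, hg] at h1
    have hdvd : a (g j) ∣ bM.repr x j := by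
      by_cases hu : IsUnit (a (g j))
      · exact hu.dvd
      · exact (hadvd j).trans (h j hu)
    obtain ⟨r, hr⟩ := hdvd
    rw [hr, mul_comm, mul_smul]
    exact N.smul_mem r hbj

/-- Division of a functional with values divisible by `p`. -/
theorem exists_div_functional (hp0 : (p : R) ≠ 0) (φ : M →ₗ[R] R) (h : ∀ m, (p : R) ∣ φ m) :
    ∃ ψ : M →ₗ[R] R, ∀ m, (p : R) * ψ m = φ m := by
  choose ψ hψ using h
  refine ⟨{ toFun := ψ, map_add' := fun x y => ?_, map_smul' := fun r x => ?_ },
    fun m => (hψ m).symm⟩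
  · apply mul_left_cancel₀ hp0
    rw [mul_add, ← hψ, ← hψ, ← hψ, map_add]
  · apply mul_left_cancel₀ hp0
    rw [← hψ, map_smul, hψ x, RingHom.id_apply, smul_eq_mul, smul_eq_mul]
    ring

section Frame

variable [CharZero R] (hirr : Irreducible (p : R))
variable {ω : R} (hω : IsPrimitiveRoot ω (p - 1)) {cinv : R}
  (hcinv : cinv * ((p - 1 : ℕ) : R) = 1)
variable (σ ν : End R M) (hσ : σ ^ p = 1) (hν : ν ^ (p - 1) = 1) {a : ℕ} (ha : ¬ p ∣ a)
  (hνσ : ν * σ = σ ^ a * ν)

include hω in
theorem geom_root {z : R} (hz : z ^ (p - 1) = 1) (hz1 : z ≠ 1) :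
    ∑ j ∈ Finset.range (p - 1), z ^ j = 0 := by
  have h := geom_sum_mul z (p - 1)
  rw [hz, sub_self, mul_eq_zero] at h
  exact h.resolve_right (sub_ne_zero.2 hz1)

variable (ω cinv) in
/-- The projection to the eigenspace of `ν`. -/
def eigProj (p : ℕ) (ν : End R M) (l : ℕ) : End R M :=
  cinv • ∑ j ∈ Finset.range (p - 1), ((ω ^ (p - 2)) ^ l) ^ j • ν ^ j

include hω in
theorem eta_mul (l : ℕ) : (ω ^ (p - 2)) ^ l * ω ^ l = 1 := by
  rw [← mul_pow, ← pow_succ, show p - 2 + 1 = p - 1 by have := hp.out.two_le; omega,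
    hω.pow_eq_one, one_pow]

include hω in
theorem eta_pow (l : ℕ) : ((ω ^ (p - 2)) ^ l) ^ (p - 1) = 1 := by
  rw [← pow_mul, ← pow_mul, ← mul_assoc, mul_comm, pow_mul, hω.pow_eq_one, one_pow]

include hω hν in
theorem nu_eigProj (l : ℕ) : ν * eigProj ω cinv p ν l = ω ^ l • eigProj ω cinv p ν l := by
  set c := (ω ^ (p - 2)) ^ l with hc
  rw [eigProj, mul_smul_comm, smul_comm (ω ^ l)]
  congr 1
  rw [Finset.mul_sum, Finset.smul_sum]
  have h1 : ∀ j, ν * (c ^ j • ν ^ j) = ω ^ l • (c ^ (j + 1) • ν ^ (j + 1)) := fun j => by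
    rw [mul_smul_comm, ← pow_succ', smul_smul, pow_succ c, ← mul_assoc, mul_comm (ω ^ l),
      mul_assoc, mul_comm (ω ^ l), eta_mul hω, mul_one]
  rw [Finset.sum_congr rfl fun j _ => h1 j, ← Finset.smul_sum, ← Finset.smul_sum]
  congr 1
  have h2 := Finset.sum_range_succ' (fun j => c ^ j • ν ^ j) (p - 1)
  have h3 := Finset.sum_range_succ (fun j => c ^ j • ν ^ j) (p - 1)
  rw [h2, hν, eta_pow hω] at h3
  simpa using h3

include hω hcinv in
theorem sum_eigProj : ∑ l ∈ Finset.range (p - 1), eigProj ω cinv p ν l = 1 := by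
  simp only [eigProj]
  rw [← Finset.smul_sum, Finset.sum_comm]
  simp only [← Finset.sum_smul]
  have h2 := hp.out.two_le
  rw [Finset.sum_eq_single 0]
  · simp only [pow_zero, Finset.sum_const, Finset.card_range, nsmul_eq_mul, mul_one, smul_smul,
      hcinv, one_smul]
  · intro j hj hj0
    have hη : IsPrimitiveRoot (ω ^ (p - 2)) (p - 1) := hω.pow_of_coprime _ (by
      rw [show p - 1 = p - 2 + 1 by omega]
      exact Nat.coprime_self_add_right.2 (Nat.coprime_one_right _))
    have : ∑ l ∈ Finset.range (p - 1), ((ω ^ (p - 2)) ^ l) ^ j = 0 := by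
      rw [Finset.sum_congr rfl fun l _ => pow_right_comm (ω ^ (p - 2)) l j]
      refine geom_root hω (by rw [← pow_mul, mul_comm, pow_mul, hη.pow_eq_one, one_pow]) ?_
      exact hη.pow_ne_one_of_pos_of_lt hj0 (Finset.mem_range.1 hj)
    rw [this, zero_smul]
  · intro h; exfalso; exact h (Finset.mem_range.2 (by omega))

include hω hcinv in
theorem eigProj_apply_eigen {x : M} {k : ℕ} (hk : k < p - 1) (hx : ν x = ω ^ k • x) {l : ℕ}
    (hl : l < p - 1) : eigProj ω cinv p ν l x = if l = k then x else 0 := by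
  have hj : ∀ j : ℕ, (ν ^ j) x = (ω ^ k) ^ j • x := fun j => by
    induction j with
    | zero => simp
    | succ j ih => rw [pow_succ, End.mul_apply, hx, map_smul, ih, smul_smul, ← pow_succ']
  simp only [eigProj, LinearMap.smul_apply, LinearMap.sum_apply, hj, smul_smul, ← mul_pow]
  rw [← Finset.sum_smul, smul_smul]
  split_ifs with h
  · subst h
    simp [eta_mul hω, hcinv]
  · rw [geom_root hω (z := (ω ^ (p - 2)) ^ l * ω ^ k), mul_zero, zero_smul]
    · rw [mul_pow, eta_pow hω, one_mul, ← pow_mul, mul_comm, pow_mul, hω.pow_eq_one, one_pow]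
    · intro h1
      refine h (hω.pow_inj hl hk ?_)
      calc ω ^ l = ω ^ l * ((ω ^ (p - 2)) ^ l * ω ^ k) := by rw [h1, mul_one]
        _ = (ω ^ (p - 2)) ^ l * ω ^ l * ω ^ k := by ring
        _ = ω ^ k := by rw [eta_mul hω, one_mul]

theorem trace_nrm_eq (hσ : σ ^ p = 1) {S : ℤ}
    (hS : ∑ i ∈ Finset.Ico 1 p, LinearMap.trace R M (σ ^ i) = (S : R)) :
    (p : ℤ) * finrank R (LinearMap.ker (σ - 1)) = finrank R M + S := by
  set F := LinearMap.ker (σ - 1) with hF
  have hmem : ∀ x, nrm p σ x ∈ F := fun x => by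
    rw [hF, LinearMap.mem_ker, LinearMap.sub_apply, End.one_apply, sub_eq_zero, ← End.mul_apply,
      sigma_nrm hσ]
  let A' : M →ₗ[R] F := (nrm p σ).codRestrict F hmem
  have h1 : LinearMap.trace R M (nrm p σ) = LinearMap.trace R F (A' ∘ₗ F.subtype) := by
    rw [← LinearMap.trace_comp_comm']
    rfl
  have h2 : A' ∘ₗ F.subtype = (p : R) • LinearMap.id := by
    refine LinearMap.ext fun x => Subtype.ext ?_
    show nrm p σ (x : M) = (p : R) • (x : M)
    refine nrm_apply_of_fixed ?_
    exact sub_eq_zero.1 (LinearMap.mem_ker.1 x.2)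
  rw [h2, map_smul, LinearMap.trace_id, smul_eq_mul, nrm, map_sum,
    Finset.range_eq_Ico, Finset.sum_eq_sum_Ico_succ_bot hp.out.pos, pow_zero, LinearMap.trace_one,
    hS] at h1
  exact_mod_cast h1.symm

include hσ in
theorem exists_sub_pow_eq : ∃ Q : End R M,
    (σ - 1) ^ (p - 1) = nrm p σ + (p : R) • Q ∧ (σ - 1) ^ p = (p : R) • ((σ - 1) * Q) := by
  obtain ⟨Q, hQ⟩ := exists_sub_one_pow p
  refine ⟨Polynomial.aeval σ Q, ?_, ?_⟩
  · have h := congrArg (Polynomial.aeval σ) hQ
    simp only [map_pow, map_sub, map_one, Polynomial.aeval_X, map_add, map_sum, map_mul,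
      Polynomial.aeval_C, map_natCast] at h
    rw [h, nrm, Nat.cast_smul_eq_nsmul, nsmul_eq_mul]
  · have h := congrArg (Polynomial.aeval σ) hQ
    simp only [map_pow, map_sub, map_one, Polynomial.aeval_X, map_add, map_sum, map_mul,
      Polynomial.aeval_C, map_natCast] at h
    conv_lhs => rw [← Nat.sub_add_cancel hp.out.one_le, pow_succ', h, mul_add]
    rw [show (σ - 1) * ∑ i ∈ Finset.range p, σ ^ i = 0 by
        rw [mul_geom_sum, hσ, sub_self], zero_add, Nat.cast_smul_eq_nsmul, nsmul_eq_mul,
      (Nat.cast_commute p (σ - 1)).left_comm]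

include hirr hω hcinv hσ hν ha hνσ in
/-- A frame for `ker (σ - 1) / range (nrm σ)`. -/
theorem exists_frame {S : ℤ} (hS : ∑ i ∈ Finset.Ico 1 p, LinearMap.trace R M (σ ^ i) = (S : R)) :
    ∃ (s : ℕ) (v : Fin s → M), S ≤ (p : ℤ) * s ∧ (∀ j, σ (v j) = v j) ∧
      (∀ j (c : R), c • v j ∈ LinearMap.range (nrm p σ) → (p : R) ∣ c) ∧
      ∀ c : Fin s → R, ∃ f : End R M, f * σ = σ * f ∧ f * ν = ν * f ∧
        ∀ j, f (v j) = c j • v j := by
  classical
  set A := nrm p σ with hA
  let E : Fin (p - 1) → End R M := fun l => eigProj ω cinv p ν l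
  let F : Fin (p - 1) → Submodule R M := fun l =>
    LinearMap.ker (σ - 1) ⊓ LinearMap.ker (ν - ω ^ (l : ℕ) • 1)
  have hFmem : ∀ l x, x ∈ F l ↔ σ x = x ∧ ν x = ω ^ (l : ℕ) • x := fun l x => by
    simp [F, sub_eq_zero]
  have hEν : ∀ l, E l * ν = ν * E l := fun l => by
    have hc : Commute ν (E l) := by
      refine Commute.smul_right ?_ cinv
      exact Commute.sum_right _ _ _ fun j _ => (Commute.self_pow ν j).smul_right _
    exact hc.eq.symm
  have hνA : Commute A ν := (nu_nrm hσ ha hνσ).symm
  have hEA : ∀ l, E l * A = A * E l := fun l => by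
    have hc : Commute A (E l) := by
      refine Commute.smul_right ?_ cinv
      exact Commute.sum_right _ _ _ fun j _ => (hνA.pow_right j).smul_right _
    exact hc.eq.symm
  have hνfix : ∀ x, σ x = x → σ (ν x) = ν x := fun x hx => by
    refine sigma_fix_of_pow hσ ha ?_
    rw [← End.mul_apply, ← hνσ, End.mul_apply, hx]
  have hEF : ∀ l x, σ x = x → E l x ∈ F l := fun l x hx => by
    refine (hFmem l _).2 ⟨?_, ?_⟩
    · have hj : ∀ j : ℕ, σ ((ν ^ j) x) = (ν ^ j) x := fun j => by
        induction j with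
        | zero => simpa using hx
        | succ j ih => rw [pow_succ', End.mul_apply]; exact hνfix _ ih
      simp [E, eigProj, LinearMap.sum_apply, map_sum, map_smul, hj]
    · rw [← End.mul_apply, show ν * E l = ω ^ (l : ℕ) • E l from nu_eigProj hω ν hν l]
      rfl
  have hsumE : ∀ x, ∑ l, E l x = x := fun x => by
    rw [← LinearMap.sum_apply,
      Fin.sum_univ_eq_sum_range (fun l => eigProj ω cinv p ν l) (p - 1),
      sum_eigProj hω hcinv ν, End.one_apply]
  have hEeig : ∀ l k x, x ∈ F k → E l x = if l = k then x else 0 := fun l k x hx => by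
    rw [show E l x = _ from eigProj_apply_eigen hω hcinv ν k.isLt ((hFmem k x).1 hx).2 l.isLt]
    simp [Fin.val_inj]
  have hAfix : ∀ x, σ (A x) = A x := fun x => by
    rw [← End.mul_apply, hA, sigma_nrm hσ]
  have hpN : ∀ l (x : F l), (p : R) • x ∈ (LinearMap.range A).comap (F l).subtype := fun l x =>
    ⟨x, nrm_apply_of_fixed ((hFmem l _).1 x.2).1⟩
  choose k b T hT using fun l => exists_smith_pair hirr _ (hpN l)
  -- the functionals
  let EA : ∀ l, M →ₗ[R] F l := fun l =>
    (E l * A).codRestrict (F l) fun x => hEF l _ (hAfix x)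
  have hEAmem : ∀ l m, EA l m ∈ (LinearMap.range A).comap (F l).subtype := fun l m =>
    ⟨E l m, by
      show A (E l m) = E l (A m)
      rw [← End.mul_apply, ← hEA, End.mul_apply]⟩
  have hq : ∀ x : Σ l, {j // j ∈ T l}, ∃ ψ : M →ₗ[R] R, ∀ m,
      (p : R) * ψ m = (b x.1).repr (EA x.1 m) x.2.1 := fun x =>
    exists_div_functional hirr.ne_zero
      ((Finsupp.lapply x.2.1).comp ((b x.1).repr.toLinearMap.comp (EA x.1)))
      fun m => (hT x.1 _).1 (hEAmem x.1 m) x.2.1 x.2.2
  choose q hq using hq
  let w : (Σ l, {j // j ∈ T l}) → M := fun x => ((b x.1 x.2.1 : F x.1) : M)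
  have hwF : ∀ x, w x ∈ F x.1 := fun x => (b x.1 x.2.1).2
  have hqw : ∀ x y, q x (w y) = if x = y then 1 else 0 := by
    intro x y
    apply mul_left_cancel₀ hirr.ne_zero
    rw [hq]
    have h1 : (EA x.1 (w y) : M) = (p : R) • if x.1 = y.1 then w y else 0 := by
      show E x.1 (A (w y)) = _
      rw [hA, nrm_apply_of_fixed ((hFmem _ _).1 (hwF y)).1, map_smul, hEeig _ _ _ (hwF y)]
    obtain ⟨l, j⟩ := x
    obtain ⟨l', j'⟩ := y
    by_cases hl : l = l'
    · subst hl
      rw [if_pos rfl] at h1
      have h2 : EA l (w ⟨l, j'⟩) = (p : R) • b l j'.1 := Subtype.ext h1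
      rw [h2, map_smul, Basis.repr_self]
      simp [Finsupp.single_apply, Subtype.val_inj, eq_comm]
    · rw [if_neg hl, smul_zero] at h1
      have h2 : EA l (w ⟨l', j'⟩) = 0 := Subtype.ext h1
      rw [h2, map_zero, if_neg fun h => hl (congrArg Sigma.fst h)]
      simp
  let e := (Fintype.equivFin (Σ l, {j // j ∈ T l})).symm
  refine ⟨_, w ∘ e, ?_, fun j => ((hFmem _ _).1 (hwF (e j))).1, fun j c hc => ?_, fun c => ?_⟩
  rotate_left
  · have h1 := (hT (e j).1 (c • b (e j).1 (e j).2.1)).1 hc (e j).2.1 (e j).2.2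
    simpa using h1
  · let f : End R M := ∑ x, (c (e.symm x)) • (q x).smulRight (w x)
    have hf : ∀ m, f m = ∑ x, c (e.symm x) • (q x m • w x) := fun m => by
      simp [f, LinearMap.sum_apply]
    refine ⟨f, LinearMap.ext fun m => ?_, LinearMap.ext fun m => ?_, fun j => ?_⟩
    · rw [End.mul_apply, End.mul_apply, hf, hf, map_sum]
      refine Finset.sum_congr rfl fun x _ => ?_
      have h1 : q x (σ m) = q x m := by
        apply mul_left_cancel₀ hirr.ne_zero
        rw [hq, hq]
        congr 2
        apply Subtype.ext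
        show E x.1 (A (σ m)) = E x.1 (A m)
        rw [← End.mul_apply A, hA, nrm_sigma hσ]
      rw [h1, map_smul, map_smul, ((hFmem _ _).1 (hwF x)).1]
    · rw [End.mul_apply, End.mul_apply, hf, hf, map_sum]
      refine Finset.sum_congr rfl fun x _ => ?_
      have h1 : q x (ν m) = ω ^ (x.1 : ℕ) * q x m := by
        apply mul_left_cancel₀ hirr.ne_zero
        have h2 : EA x.1 (ν m) = ω ^ (x.1 : ℕ) • EA x.1 m := by
          apply Subtype.ext
          show E x.1 (A (ν m)) = ω ^ (x.1 : ℕ) • E x.1 (A m)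
          rw [← End.mul_apply A, hνA.eq, End.mul_apply, ← End.mul_apply (E x.1), hEν,
            show ν * E x.1 = ω ^ (x.1 : ℕ) • E x.1 from nu_eigProj hω ν hν x.1]
          rfl
        rw [mul_left_comm, hq, hq, h2, map_smul]
        rfl
      rw [h1, map_smul, map_smul, ((hFmem _ _).1 (hwF x)).2, smul_smul (q x m), mul_comm (q x m)]
    · rw [Function.comp_apply, hf, Finset.sum_eq_single (e j)]
      · rw [hqw, if_pos rfl, one_smul, Equiv.symm_apply_apply]
      · intro x _ hx
        rw [hqw, if_neg hx, zero_smul, smul_zero]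
      · simp
  -- the bound
  have hrank : finrank R (LinearMap.ker (σ - 1)) = ∑ l, k l := by
    let Φ : LinearMap.ker (σ - 1) ≃ₗ[R] (∀ l, F l) :=
      LinearEquiv.ofLinear
        (LinearMap.pi fun l => ((E l).comp (LinearMap.ker (σ - 1)).subtype).codRestrict (F l)
          fun x => hEF l _ (sub_eq_zero.1 (LinearMap.mem_ker.1 x.2)))
        ((∑ l, (F l).subtype.comp (LinearMap.proj l)).codRestrict _ fun x => by
          rw [LinearMap.sum_apply]
          exact sum_mem fun l _ => (x l).2.1)
        (LinearMap.ext fun x => funext fun l => Subtype.ext (by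
          show E l ((∑ i, (F i).subtype.comp (LinearMap.proj i)) x) = (x l : M)
          rw [LinearMap.sum_apply, map_sum, Finset.sum_eq_single l]
          · simp [hEeig l l _ (x l).2]
          · intro i _ hi
            simp [hEeig l i _ (x i).2, Ne.symm hi]
          · simp))
        (LinearMap.ext fun x => Subtype.ext (by
          simp [LinearMap.sum_apply, hsumE]))
    rw [Φ.finrank_eq, Module.finrank_pi_fintype]
    exact Finset.sum_congr rfl fun l _ => by
      rw [Module.finrank_eq_card_basis (b l), Fintype.card_fin]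
  let D := Σ l, {j // j ∉ T l}
  have hy : ∀ x : D, ∃ y, A y = ((b x.1 x.2.1 : F x.1) : M) := fun x => by
    refine (hT x.1 _).2 fun j hj => ?_
    rw [Basis.repr_self, Finsupp.single_apply, if_neg fun h : x.2.1 = j => x.2.2 (h ▸ hj)]
    exact dvd_zero _
  choose y hy using hy
  have hind : LinearIndependent R fun z : D × Fin p => ((σ - 1) ^ (z.2 : ℕ)) (y z.1) := by
    obtain ⟨Q, hQ1, hQ2⟩ := exists_sub_pow_eq σ hσ
    set Sg := σ - 1 with hSg
    rw [Fintype.linearIndependent_iff]
    have hdiv : ∀ g : D × Fin p → R, ∑ z, g z • (Sg ^ (z.2 : ℕ)) (y z.1) = 0 →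
        ∀ z, (p : R) ∣ g z := by
      intro g hg
      suffices H : ∀ (n : ℕ) (i : Fin p), (i : ℕ) = n → ∀ x, (p : R) ∣ g (x, i) from
        fun z => H _ z.2 rfl z.1
      intro n
      induction n using Nat.strong_induction_on with
      | _ n ih =>
        intro i hin x
        have h0 := congrArg (Sg ^ (p - 1 - n)) hg
        rw [map_zero, map_sum, Fintype.sum_prod_type] at h0
        simp only [map_smul, ← End.mul_apply, ← pow_add] at h0
        have hterm : ∀ (x : D) (i' : Fin p), ∃ u, g (x, i') • (Sg ^ (p - 1 - n + (i' : ℕ))) (y x) =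
            (if i' = i then g (x, i) • ((b x.1 x.2.1 : F x.1) : M) else 0) + (p : R) • u := by
          intro x i'
          rcases lt_trichotomy (i' : ℕ) n with h | h | h
          · obtain ⟨r, hr⟩ := ih _ h i' rfl x
            exact ⟨r • (Sg ^ (p - 1 - n + (i' : ℕ))) (y x), by
              rw [if_neg (fun h' => by rw [h'] at h; omega), zero_add, hr, smul_smul]⟩
          · have hii : i' = i := Fin.ext (h.trans hin.symm)
            subst hii
            refine ⟨g (x, i') • Q (y x), ?_⟩
            rw [if_pos rfl, h, show p - 1 - n + n = p - 1 by have := i'.isLt; omega, hQ1,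
              LinearMap.add_apply, LinearMap.smul_apply, hy, smul_add, smul_comm]
          · obtain ⟨r, hr⟩ := Nat.exists_eq_add_of_le (show p ≤ p - 1 - n + (i' : ℕ) by
              have := i.isLt; omega)
            refine ⟨g (x, i') • ((Sg * Q) ((Sg ^ r) (y x))), ?_⟩
            rw [if_neg (fun h' => by rw [h'] at h; omega), zero_add, hr, pow_add, hQ2,
              End.mul_apply, LinearMap.smul_apply, smul_comm]
        choose u hu using hterm
        rw [Finset.sum_congr rfl fun x _ => Finset.sum_congr rfl fun i' _ => hu x i'] at h0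
        simp only [Finset.sum_add_distrib, Finset.sum_ite_eq', Finset.mem_univ, if_true,
          ← Finset.smul_sum] at h0
        set U := ∑ x, ∑ i', u x i'
        have hUfix : σ U = U := by
          apply smul_right_injective M hirr.ne_zero
          show (p : R) • σ U = (p : R) • U
          rw [eq_neg_of_add_eq_zero_right h0, ← map_smul, eq_neg_of_add_eq_zero_right h0, map_neg,
            map_sum]
          congr 1
          exact Finset.sum_congr rfl fun x _ => by
            rw [map_smul, ((hFmem _ _).1 (b x.1 x.2.1).2).1]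
        have h3 := congrArg (E x.1) h0
        rw [map_zero, map_add, map_smul, map_sum] at h3
        have h4 : (∑ x' : D, if x'.1 = x.1 then g (x', i) • ((b x'.1 x'.2.1 : F x'.1) : M) else 0) +
            (p : R) • E x.1 U = 0 := by
          refine Eq.trans ?_ h3
          congr 1
          refine Finset.sum_congr rfl fun x' _ => ?_
          rw [map_smul, hEeig _ _ _ (b x'.1 x'.2.1).2]
          by_cases h : x'.1 = x.1
          · rw [if_pos h, if_pos h.symm]
          · rw [if_neg h, if_neg (Ne.symm h), smul_zero]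
        obtain ⟨l, j⟩ := x
        have h5 : (∑ j' : {j // j ∉ T l}, g (⟨l, j'⟩, i) • b l j'.1) +
            (p : R) • (⟨E l U, hEF l U hUfix⟩ : F l) = 0 := by
          apply Subtype.ext
          rw [Submodule.coe_add, Submodule.coe_sum, Submodule.coe_smul, Submodule.coe_zero, ← h4]
          congr 1
          rw [← Finset.univ_sigma_univ, Finset.sum_sigma, Finset.sum_eq_single l]
          · simp
          · intro l' _ hl'
            simp [hl']
          · simp
        have h6 := congrArg (fun v => (b l).repr v j.1) h5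
        simp only [map_add, map_sum, map_smul, map_zero, Finsupp.coe_add, Pi.add_apply,
          Finsupp.coe_finsetSum, Finset.sum_apply, Finsupp.coe_smul, Pi.smul_apply, Finsupp.coe_zero,
          Pi.zero_apply, Basis.repr_self, smul_eq_mul] at h6
        rw [Finset.sum_eq_single j (fun j' _ hj' => by
          rw [Finsupp.single_eq_of_ne (fun h => hj' (Subtype.ext h.symm)), mul_zero]) (by simp),
          Finsupp.single_eq_same, mul_one] at h6
        exact ⟨-((b l).repr ⟨E l U, hEF l U hUfix⟩ j.1), by linear_combination h6⟩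
    have hpow : ∀ (n : ℕ) (g : D × Fin p → R), ∑ z, g z • (Sg ^ (z.2 : ℕ)) (y z.1) = 0 →
        ∀ z, (p : R) ^ n ∣ g z := by
      intro n
      induction n with
      | zero => simp
      | succ n ihn =>
        intro g hg
        choose g' hg' using hdiv g hg
        have h0 : ∑ z, g' z • (Sg ^ (z.2 : ℕ)) (y z.1) = 0 := by
          apply smul_right_injective M hirr.ne_zero
          simp only [smul_zero, Finset.smul_sum, smul_smul, ← hg']
          exact hg
        exact fun z => by rw [hg' z, pow_succ']; exact mul_dvd_mul_left _ (ihn g' h0 z)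
    intro g hg z
    by_contra hz
    obtain ⟨n, hn⟩ := FiniteMultiplicity.of_not_isUnit hirr.not_isUnit hz
    exact hn (hpow _ g hg z)
  have hD : p * Fintype.card D ≤ finrank R M := by
    have := hind.fintype_card_le_finrank
    rwa [Fintype.card_prod, Fintype.card_fin, mul_comm] at this
  have htr := trace_nrm_eq σ hσ hS
  rw [hrank] at htr
  have hcard : Fintype.card (Σ l, {j // j ∈ T l}) + Fintype.card D = ∑ l, k l := by
    rw [Fintype.card_sigma, Fintype.card_sigma, ← Finset.sum_add_distrib]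
    refine Finset.sum_congr rfl fun l _ => ?_
    rw [Fintype.card_subtype_compl, Fintype.card_fin]
    have := Fintype.card_subtype_le (fun j => j ∈ T l)
    rw [Fintype.card_fin] at this
    omega
  rw [← hcard] at htr
  push_cast at htr
  have hD' : (p : ℤ) * Fintype.card D ≤ finrank R M := by exact_mod_cast hD
  linarith [htr, hD']

end Frame

end H85.D1
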