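import Cfsg.Agent.H13.Commutant
import Cfsg.Agent.H85.D1.Lattice

/-!
Defect one (helper85): the regular representation; an endomorphism satisfies a polynomial of
degree at most `χ 1` on the isotypic component of `χ`.
-/

set_option autoImplicit false
set_option linter.style.haveILetI false
set_option linter.unusedSectionVars false

open Cfsg Module
open scoped ComplexConjugate

namespace H85.D1

universe u v w

variable {G : Type u} [Group G] [Fintype G]

/-- The left regular representation on functions. -/
def regRep (R : Type v) [CommRing R] (G : Type u) [Group G] : Representation R G (G → R) where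
  toFun g := LinearMap.pi fun x => LinearMap.proj (g⁻¹ * x)
  map_one' := LinearMap.ext fun f => funext fun x => by simp
  map_mul' g h := LinearMap.ext fun f => funext fun x => by
    simp [Module.End.mul_apply, mul_assoc]

@[simp] theorem regRep_apply {R : Type v} [CommRing R] (g : G) (f : G → R) (x : G) :
    regRep R G g f x = f (g⁻¹ * x) := rfl

/-- The operator with prescribed columns. -/
def colOp {R : Type v} [CommRing R] (c : G → G → R) : End R (G → R) :=
  ∑ a : G, (LinearMap.proj a : (G → R) →ₗ[R] R).smulRight (c a)

theorem colOp_apply {R : Type v} [CommRing R] (c : G → G → R) (f : G → R) (x : G) :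
    colOp c f x = ∑ a : G, f a * c a x := by
  simp [colOp, LinearMap.sum_apply, Finset.sum_apply]

theorem eq_colOp {R : Type v} [CommRing R] [DecidableEq G] (T : End R (G → R)) :
    T = colOp fun a => T (Pi.single a 1) := by
  refine (Pi.basisFun R G).ext fun b => funext fun x => ?_
  rw [Pi.basisFun_apply, colOp_apply, Finset.sum_eq_single b (fun a _ ha => by
    rw [Pi.single_eq_of_ne ha, zero_mul]) (by simp), Pi.single_eq_same, one_mul]

theorem trace_colOp {R : Type v} [CommRing R] (c : G → G → R) :
    LinearMap.trace R (G → R) (colOp c) = ∑ a : G, c a a := by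
  rw [colOp, map_sum]
  exact Finset.sum_congr rfl fun a _ => by rw [LinearMap.trace_smulRight, LinearMap.proj_apply]

theorem regRep_comp_colOp {R : Type v} [CommRing R] (g : G) (c : G → G → R) :
    regRep R G g * colOp c = colOp fun a x => c a (g⁻¹ * x) :=
  LinearMap.ext fun f => funext fun x => by
    rw [Module.End.mul_apply, regRep_apply, colOp_apply, colOp_apply]

theorem trace_regRep [DecidableEq G] {R : Type v} [CommRing R] (g : G) :
    LinearMap.trace R (G → R) (regRep R G g) = if g = 1 then (Fintype.card G : R) else 0 := by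
  have h : regRep R G g = colOp fun a x => (Pi.single a 1 : G → R) (g⁻¹ * x) := eq_colOp _
  rw [h, trace_colOp]
  split_ifs with hg
  · simp [hg]
  · refine Finset.sum_eq_zero fun a _ => Pi.single_eq_of_ne (fun h' => hg ?_) _
    simpa using h'

theorem character_regRep [DecidableEq G] (g : G) :
    (regRep ℂ G).character g = if g = 1 then (Fintype.card G : ℂ) else 0 := trace_regRep g

theorem classInner_regRep (χ : IrrCharacter G) :
    classInner (regRep ℂ G).character χ = (χ : G → ℂ) 1 := by
  classical
  rw [H12.classInner_def, Finset.sum_eq_single 1 (fun g _ hg => by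
      rw [character_regRep, if_neg hg, zero_mul]) (by simp), character_regRep, if_pos rfl,
    Nat.card_eq_fintype_card, ← mul_assoc,
    inv_mul_cancel₀ (Nat.cast_ne_zero.2 Fintype.card_ne_zero), one_mul, H12.irr_apply_one, map_natCast]

/-- Polynomials of a restricted endomorphism. -/
theorem aeval_restrict {R : Type v} [CommRing R] {V : Type w} [AddCommGroup V] [Module R V]
    {U : Submodule R V} {Z : End R V} (hU : ∀ x ∈ U, Z x ∈ U) (q : Polynomial R) (x : U) :
    ((Polynomial.aeval (Z.restrict hU) q x : U) : V) = Polynomial.aeval Z q (x : V) := by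
  induction q using Polynomial.induction_on generalizing x with
  | C a => simp
  | add f₁ f₂ h₁ h₂ => simp [h₁, h₂]
  | monomial n a ih =>
    rw [pow_succ, ← mul_assoc, map_mul _ (Polynomial.C a * Polynomial.X ^ n) Polynomial.X,
      map_mul _ (Polynomial.C a * Polynomial.X ^ n) Polynomial.X, Polynomial.aeval_X,
      Polynomial.aeval_X, Module.End.mul_apply, Module.End.mul_apply, ih]
    simp

/-- An invariant subspace of an isotypic component has dimension a multiple of the degree. -/
theorem degree_dvd_finrank (χ : IrrCharacter G) (a : Subrepresentation (regRep ℂ G))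
    (ha : ∀ x ∈ a.toSubmodule, H13.isoProj (regRep ℂ G) χ x = x) :
    H12.degree (χ : G → ℂ) ∣ finrank ℂ a.toSubmodule := by
  have h1 : H13.isoProj a.toRepresentation χ = LinearMap.id := LinearMap.ext fun x => Subtype.ext (by
    rw [H13.isoProj_sub, ha _ x.2]; rfl)
  have h2 := H13.trace_isoProj a.toRepresentation χ
  rw [h1, LinearMap.trace_id] at h2
  obtain ⟨k, hk⟩ := H12.IsCharacter.classInner_nat
    (H12.isCharacter_character a.toRepresentation) (H12.isCharacter_irr χ)
  rw [hk, H12.irr_apply_one] at h2
  exact ⟨k, by exact_mod_cast h2⟩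

/-- A polynomial of degree at most `χ 1` for an endomorphism on the component of `χ`. -/
theorem exists_poly_isotypic (χ : IrrCharacter G) (Z : End ℂ (G → ℂ))
    (hZ : ∀ g, Z * regRep ℂ G g = regRep ℂ G g * Z) :
    ∃ q : Polynomial ℂ, q ≠ 0 ∧ q.natDegree ≤ H12.degree (χ : G → ℂ) ∧
      Polynomial.aeval Z q * H13.isoProj (regRep ℂ G) χ = 0 := by
  classical
  set d := H12.degree (χ : G → ℂ) with hd
  set P := H13.isoProj (regRep ℂ G) χ with hP
  have hPP : P * P = P := by rw [hP, H13.isoProj_mul, if_pos rfl]
  set W := LinearMap.range P with hW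
  have hWfix : ∀ x ∈ W, P x = x := by
    rintro _ ⟨y, rfl⟩
    rw [← Module.End.mul_apply, hPP]
  have hZP : Z * P = P * Z := by
    simp only [hP, H13.isoProj, H12.avgOp, Finset.mul_sum, Finset.sum_mul, mul_smul_comm,
      smul_mul_assoc, hZ]
  have hinv : ∀ x ∈ W, Z x ∈ W := by
    rintro _ ⟨y, rfl⟩
    exact ⟨Z y, (LinearMap.congr_fun hZP y).symm⟩
  have hWdim : finrank ℂ W = d * d := by
    have h1 := H13.trace_isoProj (regRep ℂ G) χ
    have e : P = W.subtype ∘ₗ P.codRestrict W (fun y => ⟨y, rfl⟩) := rfl
    rw [classInner_regRep, ← hP, e, ← LinearMap.trace_comp_comm',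
      show P.codRestrict W (fun y => ⟨y, rfl⟩) ∘ₗ W.subtype = LinearMap.id from
        LinearMap.ext fun x => Subtype.ext (hWfix _ x.2),
      LinearMap.trace_id, H12.irr_apply_one] at h1
    exact_mod_cast h1
  set z := Z.restrict hinv with hz
  set μ := minpoly ℂ z with hμ
  have hμint : IsIntegral ℂ z := IsIntegral.of_finite ℂ z
  have hμmonic : μ.Monic := minpoly.monic hμint
  have hμ0 : Polynomial.aeval z μ = 0 := minpoly.aeval ℂ z
  -- the kernels
  let sub : Polynomial ℂ → Subrepresentation (regRep ℂ G) := fun g =>
    ⟨LinearMap.ker (Polynomial.aeval Z g) ⊓ W, fun h x hx => by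
      obtain ⟨hx1, y, rfl⟩ := hx
      refine ⟨?_, regRep ℂ G h y, ?_⟩
      · show Polynomial.aeval Z g (regRep ℂ G h (P y)) = 0
        have hc : Commute (Polynomial.aeval Z g) (regRep ℂ G h) :=
          Algebra.commute_of_mem_adjoin_singleton_of_commute
            (Polynomial.aeval_mem_adjoin_singleton ℂ Z) (Commute.symm (hZ h)) |>.symm
        rw [← Module.End.mul_apply, hc.eq, Module.End.mul_apply, LinearMap.mem_ker.1 hx1, map_zero]
      · exact LinearMap.congr_fun (H13.isoProj_comm (regRep ℂ G) χ h) y⟩
  have key : ∀ (n : ℕ) (g : Polynomial ℂ), g.Monic → g.natDegree = n → g ∣ μ →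
      n * d ≤ finrank ℂ (sub g).toSubmodule := by
    intro n
    induction n with
    | zero => simp
    | succ n ih =>
      intro g hg hn hgμ
      obtain ⟨r, hr⟩ := IsAlgClosed.exists_root g
        (fun h0 => by rw [Polynomial.degree_eq_natDegree hg.ne_zero, hn] at h0; exact absurd h0 (by exact_mod_cast n.succ_ne_zero))
      obtain ⟨g', rfl⟩ := Polynomial.dvd_iff_isRoot.2 hr
      have hg' : g'.Monic := (Polynomial.monic_X_sub_C r).of_mul_monic_left hg
      have hn' : g'.natDegree = n := by
        rw [(Polynomial.monic_X_sub_C r).natDegree_mul hg', Polynomial.natDegree_X_sub_C] at hn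
        omega
      have h1 := ih g' hg' hn' ((dvd_mul_left _ _).trans hgμ)
      have hle : (sub g').toSubmodule ≤ (sub ((Polynomial.X - Polynomial.C r) * g')).toSubmodule :=
        fun x hx => ⟨by
          show Polynomial.aeval Z ((Polynomial.X - Polynomial.C r) * g') x = 0
          rw [map_mul, Module.End.mul_apply, LinearMap.mem_ker.1 hx.1, map_zero],
          hx.2⟩
      have hlt : finrank ℂ (sub g').toSubmodule <
          finrank ℂ (sub ((Polynomial.X - Polynomial.C r) * g')).toSubmodule := by
        refine lt_of_le_of_ne (Submodule.finrank_mono hle) fun he => ?_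
        have heq := Submodule.eq_of_le_of_finrank_eq hle he
        obtain ⟨h, hh⟩ := hgμ
        have hh0 : h ≠ 0 := fun h0 => hμmonic.ne_zero (by rw [hh, h0, mul_zero])
        have hkill : Polynomial.aeval z (g' * h) = 0 := by
          refine LinearMap.ext fun x => Subtype.ext ?_
          rw [aeval_restrict hinv, map_mul, Module.End.mul_apply]
          show _ = (0 : G → ℂ)
          have hmem : Polynomial.aeval Z h (x : G → ℂ) ∈
              (sub ((Polynomial.X - Polynomial.C r) * g')).toSubmodule := by
            refine ⟨?_, ?_⟩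
            · show Polynomial.aeval Z ((Polynomial.X - Polynomial.C r) * g')
                (Polynomial.aeval Z h (x : G → ℂ)) = 0
              rw [← Module.End.mul_apply, ← map_mul, ← hh,
                ← aeval_restrict hinv μ x, hμ0]
              rfl
            · rw [← aeval_restrict hinv h x]
              exact (Polynomial.aeval z h x).2
          rw [← heq] at hmem
          exact LinearMap.mem_ker.1 hmem.1
        have hd1 := minpoly.degree_le_of_ne_zero ℂ z (mul_ne_zero hg'.ne_zero hh0) hkill
        rw [← hμ, hh, Polynomial.degree_mul, Polynomial.degree_mul, Polynomial.degree_mul,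
          Polynomial.degree_X_sub_C, Polynomial.degree_eq_natDegree hg'.ne_zero,
          Polynomial.degree_eq_natDegree hh0] at hd1
        have : (1 : ℕ) + g'.natDegree + h.natDegree ≤ g'.natDegree + h.natDegree := by
          exact_mod_cast hd1
        omega
      obtain ⟨k1, hk1⟩ := degree_dvd_finrank χ (sub g') fun x hx => hWfix x hx.2
      obtain ⟨k2, hk2⟩ := degree_dvd_finrank χ (sub ((Polynomial.X - Polynomial.C r) * g'))
        fun x hx => hWfix x hx.2
      rw [← hd] at hk1 hk2
      rw [hk1] at h1 hlt
      rw [hk2] at hlt ⊢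
      have hk : k1 < k2 := Nat.lt_of_mul_lt_mul_left hlt
      calc (n + 1) * d = n * d + d := add_one_mul n d
        _ ≤ d * k1 + d := by omega
        _ = d * (k1 + 1) := (mul_add_one d k1).symm
        _ ≤ d * k2 := Nat.mul_le_mul le_rfl hk
  refine ⟨μ, hμmonic.ne_zero, ?_, LinearMap.ext fun y => ?_⟩
  · have h1 := (key _ μ hμmonic rfl dvd_rfl).trans (Submodule.finrank_mono inf_le_right)
    rw [hWdim] at h1
    exact Nat.le_of_mul_le_mul_right h1 (H12.irr_degree_pos χ)
  · rw [Module.End.mul_apply, ← aeval_restrict hinv μ ⟨P y, y, rfl⟩, hμ0]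
    rfl

end H85.D1
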