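import Cfsg.Agent.H85.D1.Transfer
import Cfsg.Agent.H85.D1.Isotypic
import Cfsg.Agent.H20.LocalRing
import Cfsg.Agent.H25.Galois
import Cfsg.Agent.H12.Integral
import Mathlib.RingTheory.Polynomial.GaussLemma

/-!
Defect one (helper85): for a Sylow subgroup of order `p` the total of an orbit of irreducible
characters over the `p`-singular part of `u K` is at most `p |K|` in absolute value.
-/

set_option autoImplicit false
set_option linter.style.haveILetI false
set_option linter.unusedSectionVars false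

open Cfsg Module
open scoped ComplexConjugate

namespace H85.D1

universe u

variable {G : Type u} [Group G] [Fintype G] {p : ℕ} [hp : Fact p.Prime] {M : Ideal AlgInt}
  [hMp : M.IsPrime] {m : ℕ} {hm : 0 < m} {hpm : ¬ p ∣ m}

/-- A relation over `ℂ` between vectors over a subfield descends to the subfield. -/
theorem exists_relation_subfield {ι J : Type*} [Fintype ι] [Fintype J] (F : Subfield ℂ)
    (v : ι → J → F) (w : ι → ℂ) (hw : ∃ i, w i ≠ 0) (h : ∀ j, ∑ i, w i * (v i j : ℂ) = 0) :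
    ∃ c : ι → F, (∃ i, c i ≠ 0) ∧ ∀ j, ∑ i, c i * v i j = 0 := by
  classical
  by_contra hne
  have hinj : Function.Injective (Fintype.linearCombination F v) := by
    rw [← LinearMap.ker_eq_bot, LinearMap.ker_eq_bot']
    intro c hc
    funext i
    by_contra hi
    refine hne ⟨c, ⟨i, hi⟩, fun j => ?_⟩
    have h' := congrFun hc j
    rw [Fintype.linearCombination_apply, Finset.sum_apply] at h'
    exact h'
  obtain ⟨g, hg⟩ := LinearMap.exists_leftInverse_of_injective _ (LinearMap.ker_eq_bot.2 hinj)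
  obtain ⟨i₀, hi₀⟩ := hw
  apply hi₀
  have hgi : ∀ i, ∑ j, v i j * g (Pi.single j 1) i₀ = if i = i₀ then 1 else 0 := by
    intro i
    have h1 := congrFun (LinearMap.congr_fun hg (Pi.single i 1)) i₀
    rw [LinearMap.comp_apply, Fintype.linearCombination_apply_single, LinearMap.id_apply,
      one_smul] at h1
    rw [pi_eq_sum_univ' (v i)] at h1
    simp only [map_sum, map_smul, Finset.sum_apply, Pi.smul_apply, smul_eq_mul] at h1
    rw [Pi.single_apply] at h1
    simp only [eq_comm (a := i)]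
    rw [← h1]
  calc w i₀ = ∑ i, w i * ((if i = i₀ then 1 else 0 : F) : ℂ) := by
        rw [Finset.sum_eq_single i₀ (fun i _ hi => by simp [hi]) (by simp)]; simp
    _ = ∑ i, w i * ∑ j, (v i j : ℂ) * (g (Pi.single j 1) i₀ : ℂ) := by
        refine Finset.sum_congr rfl fun i _ => ?_
        rw [← hgi i]; push_cast; rfl
    _ = ∑ j, (∑ i, w i * (v i j : ℂ)) * (g (Pi.single j 1) i₀ : ℂ) := by
        simp only [Finset.mul_sum, Finset.sum_mul, mul_assoc]
        exact Finset.sum_comm
    _ = 0 := by simp [h]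

/-- The kernel of an operator on functions. -/
def KerIn (F : Subfield ℂ) (T : End ℂ (G → ℂ)) : Prop :=
  ∀ f : G → ℂ, (∀ a, f a ∈ F) → ∀ a, T f a ∈ F

theorem colOp_kerIn {F : Subfield ℂ} {c : G → G → ℂ} (h : ∀ a x, c a x ∈ F) :
    KerIn F (colOp c) := fun f hf a => by
  rw [colOp_apply]
  exact sum_mem fun b _ => mul_mem (hf b) (h b a)

theorem KerIn.mul {F : Subfield ℂ} {S T : End ℂ (G → ℂ)} (hS : KerIn F S) (hT : KerIn F T) :
    KerIn F (S * T) := fun f hf => hS _ (hT f hf)

theorem KerIn.one {F : Subfield ℂ} : KerIn F (1 : End ℂ (G → ℂ)) := fun _ hf => hf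

theorem KerIn.pow {F : Subfield ℂ} {S : End ℂ (G → ℂ)} (hS : KerIn F S) :
    ∀ n : ℕ, KerIn F (S ^ n)
  | 0 => by rw [pow_zero]; exact KerIn.one
  | n + 1 => by rw [pow_succ]; exact (KerIn.pow hS n).mul hS

/-- A field automorphism, on functions. -/
def mapFun (σ : ℂ ≃+* ℂ) (f : G → ℂ) : G → ℂ := fun a => σ (f a)

/-- The column of `isoProj` for the regular representation. -/
theorem isoProj_regRep (χ : IrrCharacter G) :
    H13.isoProj (regRep ℂ G) χ =
      colOp fun a x => (χ : G → ℂ) 1 * (Nat.card G : ℂ)⁻¹ * (χ : G → ℂ) (a⁻¹ * x)⁻¹ := by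
  classical
  refine LinearMap.ext fun f => funext fun x => ?_
  rw [H13.isoProj, H12.avgOp_apply, Finset.sum_apply, colOp_apply]
  refine Fintype.sum_equiv ((Equiv.inv G).trans (Equiv.mulRight x)) _ _ fun g => ?_
  show _ * (f (g⁻¹ * x)) = f (g⁻¹ * x) * _
  rw [mul_comm (f (g⁻¹ * x))]
  congr 1
  rw [← H12.irr_inv]
  congr 1
  have h1 : ((g⁻¹ * x)⁻¹ * x)⁻¹ = x⁻¹ * g⁻¹ * x := by group
  rw [show ((Equiv.inv G).trans (Equiv.mulRight x)) g = g⁻¹ * x from rfl, h1]
  simpa using (H12.irr_isClassFunction χ g⁻¹ x⁻¹).symm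

/-- The orbit inequality. -/
theorem abs_le_of_orbit (hM : IsPModular p M) (hdvd : Nat.card G ∣ m * p)
    (hp1 : p - 1 ∣ m) (hbig : Nat.card G < m)
    (P : Sylow p G) {u n0 : G} (hu : Subgroup.zpowers u = (P : Subgroup G)) (huord : orderOf u = p)
    {a : ℕ} (ha : ¬ p ∣ a) (hn0 : n0 * u = u ^ a * n0)
    (K : Subgroup G) [Fintype K] (hK : ¬ p ∣ Nat.card K)
    (hKc : ∀ y ∈ K, y * u = u * y) (hKn : ∀ y ∈ K, n0 * y * n0⁻¹ ∈ K)
    (hn0K : n0 ^ (p - 1) ∈ K)
    (hgen : ∀ x ∈ Subgroup.normalizer ((P : Subgroup G) : Set G),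
      ∃ i j : ℕ, ∃ y ∈ K, x = u ^ i * n0 ^ j * y)
    (S : Finset (IrrCharacter G)) (χ : IrrCharacter G) (hχS : χ ∈ S)
    (horb : ∀ ψ ∈ S, ∃ k : (ZMod p)ˣ, ∀ g, (ψ : G → ℂ) g = sig M m hm hpm k ((χ : G → ℂ) g))
    (hrat : ∀ g, ∑ ψ ∈ S, (ψ : G → ℂ) g ∈ R M m hm) {z : ℤ}
    (hz : ∑ ψ ∈ S, ∑ i ∈ Finset.Ico 1 p, ∑ y : K, (ψ : G → ℂ) (u ^ i * y) =
      (Fintype.card K : ℂ) * (z : ℂ)) :
    |z| ≤ p := by
  classical
  haveI := isDVR (hm := hm) hM hpm
  haveI : CharZero (R M m hm) := ⟨fun a b h => by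
    have := congrArg Subtype.val h
    push_cast at this
    exact_mod_cast this⟩
  set d := H12.degree (χ : G → ℂ) with hd
  have hdeg : ∀ ψ ∈ S, (ψ : G → ℂ) 1 = (d : ℂ) := fun ψ hψ => by
    obtain ⟨k, hk⟩ := horb ψ hψ
    rw [hk, H12.irr_apply_one, map_natCast]
  set E : G → R M m hm := fun h => (d : R M m hm) * ⟨_, hrat h⁻¹⟩ with hE
  have hEC : ∀ h, (E h : ℂ) = (d : ℂ) * ∑ ψ ∈ S, (ψ : G → ℂ) h⁻¹ := fun h => by simp [hE]
  have hEconj : ∀ g h, E (h * g * h⁻¹) = E g := fun g h => Subtype.ext (by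
    rw [hEC, hEC]
    congr 1
    refine Finset.sum_congr rfl fun ψ _ => ?_
    rw [show (h * g * h⁻¹)⁻¹ = h * g⁻¹ * h⁻¹ by group, H12.irr_isClassFunction ψ g⁻¹ h])
  set Γ : End (R M m hm) (G → R M m hm) := colOp fun a x => E (a⁻¹ * x) with hΓ
  set ΓC : End ℂ (G → ℂ) := colOp fun a x => (E (a⁻¹ * x) : ℂ) with hΓC
  let ιC : (G → R M m hm) → (G → ℂ) := fun f a => (f a : ℂ)
  have hιΓ : ∀ f, ιC (Γ f) = ΓC (ιC f) := fun f => funext fun x => by
    show ((Γ f x : R M m hm) : ℂ) = ΓC (ιC f) x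
    rw [hΓ, hΓC, colOp_apply, colOp_apply]
    push_cast
    rfl
  have hΓC' : ΓC = (Nat.card G : ℂ) • ∑ ψ ∈ S, H13.isoProj (regRep ℂ G) ψ := by
    refine LinearMap.ext fun f => funext fun x => ?_
    simp only [hΓC, isoProj_regRep, LinearMap.smul_apply, LinearMap.sum_apply, Pi.smul_apply,
      Finset.sum_apply, colOp_apply, smul_eq_mul]
    rw [Finset.sum_comm, Finset.mul_sum]
    refine Finset.sum_congr rfl fun b _ => ?_
    rw [hEC, Finset.mul_sum, Finset.mul_sum, Finset.mul_sum]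
    refine Finset.sum_congr rfl fun ψ hψ => ?_
    rw [hdeg ψ hψ]
    have : (Nat.card G : ℂ) ≠ 0 := Nat.cast_ne_zero.2 Nat.card_pos.ne'
    field_simp
  have hproj : ∀ ψ ∈ S, ΓC * H13.isoProj (regRep ℂ G) ψ =
      (Nat.card G : ℂ) • H13.isoProj (regRep ℂ G) ψ := fun ψ hψ => by
    rw [hΓC', smul_mul_assoc, Finset.sum_mul, Finset.sum_eq_single ψ]
    · rw [H13.isoProj_mul, if_pos rfl]
    · intro φ _ hφ; rw [H13.isoProj_mul, if_neg hφ]
    · exact fun h => absurd hψ h
  have hΓΓ : ∀ f, Γ (Γ f) = (Nat.card G : R M m hm) • Γ f := fun f => funext fun x => Subtype.ext (by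
    have h2 : ΓC * ΓC = (Nat.card G : ℂ) • ΓC := by
      conv_lhs => arg 2; rw [hΓC']
      rw [mul_smul_comm, Finset.mul_sum, Finset.sum_congr rfl hproj, ← Finset.smul_sum, ← hΓC']
    have h3 := congrFun (LinearMap.congr_fun h2 (ιC f)) x
    rw [Module.End.mul_apply, ← hιΓ, ← hιΓ, LinearMap.smul_apply, ← hιΓ, Pi.smul_apply,
      smul_eq_mul] at h3
    rw [Pi.smul_apply, smul_eq_mul]
    push_cast
    exact h3)
  have hΓρ : ∀ g, regRep (R M m hm) G g * Γ = Γ * regRep (R M m hm) G g := fun g =>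
    LinearMap.ext fun f => funext fun x => by
      rw [Module.End.mul_apply, regRep_apply, Module.End.mul_apply, hΓ, colOp_apply, colOp_apply]
      refine Fintype.sum_equiv (Equiv.mulLeft g) _ _ fun a => ?_
      show f a * _ = f (g⁻¹ * (g * a)) * E ((g * a)⁻¹ * x)
      rw [inv_mul_cancel_left]
      congr 2
      group
  -- the lattice
  set L := LinearMap.range Γ with hL
  have hLmem : ∀ g, ∀ x ∈ L, regRep (R M m hm) G g x ∈ L := by
    rintro g _ ⟨f, rfl⟩
    exact ⟨regRep (R M m hm) G g f, (LinearMap.congr_fun (hΓρ g) f).symm⟩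
  let ρ : Representation (R M m hm) G L :=
    { toFun := fun g => (regRep (R M m hm) G g).restrict (hLmem g)
      map_one' := LinearMap.ext fun x => Subtype.ext (by simp)
      map_mul' := fun g h => LinearMap.ext fun x => Subtype.ext (by simp) }
  let Γ' : (G → R M m hm) →ₗ[R M m hm] L := Γ.rangeRestrict
  have hΓL : ∀ x : L, Γ (x : G → R M m hm) = (Nat.card G : R M m hm) • (x : G → R M m hm) := by
    rintro ⟨_, f, rfl⟩
    exact hΓΓ f
  have hn : (Nat.card G : R M m hm) ≠ 0 := Nat.cast_ne_zero.2 Nat.card_pos.ne'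
  have htrace : ∀ g, ((LinearMap.trace (R M m hm) L (ρ g) : R M m hm) : ℂ) = (d : ℂ) * ∑ ψ ∈ S, (ψ : G → ℂ) g := by
    intro g
    have h1 : LinearMap.trace _ (G → R M m hm) (regRep _ G g * Γ) =
        (Nat.card G : R M m hm) * LinearMap.trace _ L (ρ g) := by
      rw [show regRep (R M m hm) G g * Γ = (L.subtype ∘ₗ ρ g) ∘ₗ Γ' from
        LinearMap.ext fun f => rfl, ← LinearMap.trace_comp_comm']
      rw [show Γ' ∘ₗ (L.subtype ∘ₗ ρ g) = (Nat.card G : R M m hm) • ρ g from
        LinearMap.ext fun x => Subtype.ext (hΓL (ρ g x)), map_smul, smul_eq_mul]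
    rw [hΓ, regRep_comp_colOp, trace_colOp, Finset.sum_congr rfl (g := fun _ => E g⁻¹)
      (fun b _ => by
        rw [← hEconj g⁻¹ b⁻¹, inv_inv, mul_assoc]),
      Finset.sum_const, Finset.card_univ, nsmul_eq_mul, ← Nat.card_eq_fintype_card] at h1
    rw [← mul_left_cancel₀ hn h1, hEC, inv_inv]
  -- the transfer
  have hω0 : IsPrimitiveRoot (Complex.exp (2 * Real.pi * Complex.I / (p - 1 : ℕ))) (p - 1) :=
    Complex.isPrimitiveRoot_exp _ (by have := hp.out.two_le; omega)
  set ω : R M m hm := ⟨_, Z0_le_R (Subring.subset_closure (by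
    obtain ⟨c, hc⟩ := hp1
    show Complex.exp (2 * Real.pi * Complex.I / (p - 1 : ℕ)) ^ m = 1
    rw [hc, pow_mul, hω0.pow_eq_one, one_pow]))⟩
  have hω : IsPrimitiveRoot ω (p - 1) :=
    IsPrimitiveRoot.of_map_of_injective (f := (R M m hm).subtype) hω0 Subtype.val_injective
  have hnp : ¬ p ∣ p - 1 := fun h => by
    have := hp.out.two_le
    have := Nat.le_of_dvd (by omega) h
    omega
  have hkn : ¬ p ∣ Fintype.card K := by rwa [← Nat.card_eq_fintype_card]
  obtain ⟨s, hs, hg⟩ := exists_transfer ρ (irreducible_p hM hpm) hω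
    (cinv := ⟨_, intCast_div_mem (hm := hm) hM hnp⟩)
    (Subtype.ext (by
      have := hp.out.two_le
      push_cast
      exact inv_mul_cancel₀ (Nat.cast_ne_zero.2 (by omega))))
    P hu huord ha hn0 K hKc hKn hn0K hgen
    (kinv := ⟨_, intCast_div_mem (hm := hm) hM hkn⟩)
    (Subtype.ext (by push_cast; exact inv_mul_cancel₀ (Nat.cast_ne_zero.2 Fintype.card_ne_zero)))
    (S := (d : ℤ) * z)
    (Subtype.ext (by
      push_cast
      rw [Finset.sum_congr rfl fun i _ => Finset.sum_congr rfl fun (y : K) _ => htrace (u ^ i * y)]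
      simp only [← Finset.mul_sum]
      rw [show ∑ i ∈ Finset.Ico 1 p, ∑ y : K, ∑ ψ ∈ S, (ψ : G → ℂ) (u ^ i * y) =
          (Fintype.card K : ℂ) * (z : ℂ) by
        rw [← hz, Finset.sum_comm (s := S)]
        exact Finset.sum_congr rfl fun i _ => Finset.sum_comm]
      ring))
  suffices hsd : s ≤ d by
    have hd0 : (0 : ℤ) < d := by exact_mod_cast H12.irr_degree_pos χ
    rw [abs_mul, abs_of_pos hd0] at hs
    have h1 : (p : ℤ) * s ≤ p * d := mul_le_mul_of_nonneg_left (by exact_mod_cast hsd) (by positivity)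
    exact le_of_mul_le_mul_left (by linarith : (d : ℤ) * |z| ≤ d * p) hd0
  by_contra hsd
  rw [not_le] at hsd
  -- the targets
  set θ : ℂ := Complex.exp (2 * Real.pi * Complex.I / m) with hθ
  have hθ0 : IsPrimitiveRoot θ m := Complex.isPrimitiveRoot_exp _ hm.ne'
  set θR : R M m hm := ⟨θ, Z0_le_R (Subring.subset_closure hθ0.pow_eq_one)⟩
  have hdG : d < m := lt_of_le_of_lt
    (Nat.le_of_dvd Nat.card_pos (H12.irr_degree_dvd_card χ)) hbig
  let c : Fin s → R M m hm := fun j => θR ^ min (j : ℕ) d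
  obtain ⟨x, hx, hq⟩ := hg c
  -- the operator on functions
  let Y : End (R M m hm) (G → R M m hm) := L.subtype ∘ₗ x ∘ₗ Γ'
  set Z : End ℂ (G → ℂ) := (Nat.card G : ℂ)⁻¹ • colOp fun b a => (Y (Pi.single b 1) a : ℂ) with hZ
  have hZY : ∀ f, Z (ιC f) = (Nat.card G : ℂ)⁻¹ • ιC (Y f) := fun f => funext fun a => by
    have h := LinearMap.congr_fun (eq_colOp Y) f
    simp only [hZ, LinearMap.smul_apply, Pi.smul_apply, colOp_apply, smul_eq_mul]
    congr 1
    show _ = ((Y f a : R M m hm) : ℂ)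
    rw [h, colOp_apply]
    push_cast
    rfl
  have hYL : ∀ w : L, Y (w : G → R M m hm) = (Nat.card G : R M m hm) • (x w : G → R M m hm) := by
    intro w
    have h : Γ' (w : G → R M m hm) = (Nat.card G : R M m hm) • w := Subtype.ext (hΓL w)
    show ((x (Γ' (w : G → R M m hm)) : L) : G → R M m hm) = _
    rw [h, map_smul]
    rfl
  have hZL : ∀ w : L, Z (ιC (w : G → R M m hm)) = ιC (x w : G → R M m hm) := fun w => by
    rw [hZY, hYL]
    funext b
    simp only [ιC, Pi.smul_apply, smul_eq_mul]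
    push_cast
    rw [inv_mul_cancel_left₀ (Nat.cast_ne_zero.2 Nat.card_pos.ne' : (Nat.card G : ℂ) ≠ 0)]
  have hbasis : ∀ b : G, (Pi.single b 1 : G → ℂ) = ιC (Pi.single b 1) := fun b => funext fun a => by
    simp only [ιC, Pi.single_apply]
    split_ifs <;> simp
  have hιρ : ∀ g f, regRep ℂ G g (ιC f) = ιC (regRep (R M m hm) G g f) := fun g f => rfl
  have hZρ : ∀ g, Z * regRep ℂ G g = regRep ℂ G g * Z := fun g => by
    have hY : ∀ f, Y (regRep (R M m hm) G g f) = regRep (R M m hm) G g (Y f) := fun f => by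
      have h : Γ' (regRep (R M m hm) G g f) = ρ g (Γ' f) :=
        Subtype.ext (LinearMap.congr_fun (hΓρ g) f).symm
      show ((x (Γ' (regRep (R M m hm) G g f)) : L) : G → R M m hm) = _
      rw [h, ← Module.End.mul_apply, hx, Module.End.mul_apply]
      rfl
    refine (Pi.basisFun ℂ G).ext fun b => ?_
    rw [Pi.basisFun_apply, Module.End.mul_apply, Module.End.mul_apply, hbasis, hιρ, hZY, hZY,
      map_smul, hY, hιρ]
  have hint : ∀ f : Polynomial (R M m hm), ∀ w : L,
      Polynomial.aeval Z (f.map (R M m hm).subtype) (ιC (w : G → R M m hm)) =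
        ιC (Polynomial.aeval x f w : G → R M m hm) := fun f => by
    induction f using Polynomial.induction_on with
    | C b =>
      intro w
      rw [Polynomial.map_C, Polynomial.aeval_C, Polynomial.aeval_C, Module.algebraMap_end_apply,
        Module.algebraMap_end_apply]
      funext a; simp [ιC]
    | add f₁ f₂ h₁ h₂ =>
      intro w
      rw [Polynomial.map_add, map_add, map_add, LinearMap.add_apply, LinearMap.add_apply, h₁, h₂]
      funext a; simp [ιC]
    | monomial n b ih =>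
      intro w
      rw [pow_succ, ← mul_assoc, Polynomial.map_mul, Polynomial.map_X, map_mul, Polynomial.aeval_X,
        map_mul _ (Polynomial.C b * Polynomial.X ^ n) Polynomial.X, Polynomial.aeval_X,
        Module.End.mul_apply, Module.End.mul_apply, hZL, ih]
  have hΓrange : ∀ f : G → ℂ, ∀ T : End ℂ (G → ℂ), (∀ w : L, T (ιC (w : G → R M m hm)) = 0) →
      T (ΓC f) = 0 := by
    intro f T hT
    have h : T ∘ₗ ΓC = 0 := (Pi.basisFun ℂ G).ext fun b => by
      rw [Pi.basisFun_apply, LinearMap.comp_apply, hbasis, ← hιΓ]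
      exact hT ⟨_, ⟨_, rfl⟩⟩
    exact LinearMap.congr_fun h f
  -- polynomial over the subfield
  set F := K' p M m hm with hF
  have hchi : ∀ g, (χ : G → ℂ) g ∈ F := fun g => by
    obtain ⟨n, rep, hrep⟩ := H12.isCharacter_of_isIrrCharacter χ.2
    obtain ⟨μ, h1, h2, -⟩ := H12.exists_char_eigenvalues rep g
    rw [← hrep]
    have hg1 : rep.character g = ∑ i, μ i := by simpa using h2 1
    rw [hg1]
    refine sum_mem fun i _ => root_mem_K' hpm ?_
    obtain ⟨c', hc'⟩ := (orderOf_dvd_natCard g).trans hdvd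
    rw [hc', pow_mul, h1 i, one_pow]
  set Pχ := H13.isoProj (regRep ℂ G) χ with hPχ
  have hPF : KerIn F Pχ := by
    rw [hPχ, isoProj_regRep]
    exact colOp_kerIn fun a x => mul_mem (mul_mem (hchi _) (inv_mem (natCast_mem F _))) (hchi _)
  have hR_F : ∀ r : R M m hm, (r : ℂ) ∈ F := fun r => R'_le_K' (R_le_R' r.2)
  have hZF : KerIn F Z := fun f hf a => by
    rw [hZ, LinearMap.smul_apply, Pi.smul_apply, smul_eq_mul]
    exact mul_mem (inv_mem (natCast_mem F _))
      (colOp_kerIn (F := F) (fun b e => hR_F (Y (Pi.single b 1) e)) f hf a)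
  obtain ⟨q0, hq00, hq0d, hq0⟩ := exists_poly_isotypic χ Z hZρ
  have hentry : ∀ (i : ℕ) (b a : G), (Z ^ i * Pχ) (Pi.single b 1) a ∈ F := fun i b a =>
    ((hZF.pow i).mul hPF) _ (fun e => by
      rw [Pi.single_apply]; split_ifs <;> simp [one_mem, zero_mem]) a
  obtain ⟨cF, hcF, hcF0⟩ := exists_relation_subfield F
    (ι := Fin (d + 1)) (J := G × G)
    (fun i ba => ⟨_, hentry i ba.1 ba.2⟩) (fun i => q0.coeff i)
    ⟨⟨q0.natDegree, by omega⟩, Polynomial.leadingCoeff_ne_zero.2 hq00⟩
    (fun ba => by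
      have h := congrFun (LinearMap.congr_fun hq0 (Pi.single ba.1 1)) ba.2
      rw [Polynomial.aeval_eq_sum_range' (n := d + 1) (by omega), Finset.sum_mul] at h
      simp only [smul_mul_assoc, LinearMap.sum_apply, LinearMap.smul_apply, Finset.sum_apply,
        Pi.smul_apply, smul_eq_mul, LinearMap.zero_apply, Pi.zero_apply] at h
      rw [Fin.sum_univ_eq_sum_range (fun i => q0.coeff i * (Z ^ i * Pχ) (Pi.single ba.1 1) ba.2)]
      exact h)
  let Kills : Polynomial F → Prop := fun f =>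
    Polynomial.aeval Z (f.map F.subtype) * Pχ = 0
  have hKmul : ∀ f g, Kills g → Kills (f * g) := fun f g hg => by
    show Polynomial.aeval Z ((f * g).map F.subtype) * Pχ = 0
    rw [Polynomial.map_mul, map_mul, mul_assoc, hg, mul_zero]
  obtain ⟨f1, hf10, hf1d, hf1k⟩ : ∃ f : Polynomial F, f ≠ 0 ∧ f.natDegree ≤ d ∧ Kills f := by
    refine ⟨∑ i : Fin (d + 1), Polynomial.monomial (i : ℕ) (cF i), fun h0 => ?_, ?_, ?_⟩
    · obtain ⟨i, hi⟩ := hcF
      refine hi ?_
      have := congrArg (fun f : Polynomial F => f.coeff i) h0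
      simpa [Polynomial.finset_sum_coeff, Polynomial.coeff_monomial, Fin.val_inj] using this
    · exact Polynomial.natDegree_sum_le_of_forall_le _ _ fun i _ =>
        (Polynomial.natDegree_monomial_le _).trans (by omega)
    · show Polynomial.aeval Z ((∑ i : Fin (d + 1), Polynomial.monomial (i : ℕ) (cF i)).map F.subtype) *
        Pχ = 0
      refine (Pi.basisFun ℂ G).ext fun b => funext fun e => ?_
      rw [Pi.basisFun_apply]
      simp only [Polynomial.map_sum, Polynomial.map_monomial, map_sum,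
        Polynomial.aeval_monomial, Finset.sum_mul, LinearMap.sum_apply, Finset.sum_apply,
        LinearMap.zero_apply, Pi.zero_apply]
      have h := congrArg Subtype.val (hcF0 (b, e))
      push_cast at h
      rw [← h]
      refine Finset.sum_congr rfl fun i _ => ?_
      rw [mul_assoc]
      simp
  have hex : ∃ n, ∃ f : Polynomial F, f.Monic ∧ f.natDegree = n ∧ Kills f :=
    ⟨_, f1 * Polynomial.C f1.leadingCoeff⁻¹, Polynomial.monic_mul_leadingCoeff_inv hf10, rfl,
      mul_comm (Polynomial.C f1.leadingCoeff⁻¹) f1 ▸ hKmul _ _ hf1k⟩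
  have hdegle : Nat.find hex ≤ d := by
    refine (Nat.find_min' hex ⟨f1 * Polynomial.C f1.leadingCoeff⁻¹,
      Polynomial.monic_mul_leadingCoeff_inv hf10, rfl,
      mul_comm (Polynomial.C f1.leadingCoeff⁻¹) f1 ▸ hKmul _ _ hf1k⟩).trans ?_
    exact (Polynomial.natDegree_mul_C_le _ _).trans hf1d
  obtain ⟨μ, hμmonic, hμdeg, hμk⟩ := Nat.find_spec hex
  have hμd : μ.natDegree ≤ d := hμdeg ▸ hdegle
  -- divisibility of the characteristic polynomial
  let iF : R M m hm →+* F := (R M m hm).subtype.codRestrict F fun r => hR_F r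
  set cP := LinearMap.charpoly x with hcP
  have hcPk : Kills (cP.map iF) := by
    show Polynomial.aeval Z ((cP.map iF).map F.subtype) * Pχ = 0
    rw [Polynomial.map_map, show F.subtype.comp iF = (R M m hm).subtype from rfl]
    refine LinearMap.ext fun f => ?_
    rw [Module.End.mul_apply, LinearMap.zero_apply]
    have hP : Pχ f = (Nat.card G : ℂ)⁻¹ • ΓC (Pχ f) := by
      rw [← Module.End.mul_apply ΓC, hproj χ hχS, LinearMap.smul_apply, smul_smul,
        inv_mul_cancel₀ (Nat.cast_ne_zero.2 Nat.card_pos.ne'), one_smul]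
    rw [hP, map_smul, hΓrange _ _ fun w => ?_, smul_zero]
    rw [hint, hcP, LinearMap.aeval_self_charpoly]
    funext e
    simp [ιC]
  have hdvdF : μ ∣ cP.map iF := by
    rw [← Polynomial.modByMonic_eq_zero_iff_dvd hμmonic]
    by_contra hr
    set r := cP.map iF %ₘ μ with hrdef
    have hrk : Kills r := by
      have e : r = cP.map iF - (cP.map iF /ₘ μ) * μ := by
        rw [hrdef, Polynomial.modByMonic_eq_sub_mul_div, mul_comm]
      show Polynomial.aeval Z (r.map F.subtype) * Pχ = 0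
      have h1 : Polynomial.aeval Z ((cP.map iF).map F.subtype) * Pχ = 0 := hcPk
      have h2 : Polynomial.aeval Z (((cP.map iF /ₘ μ) * μ).map F.subtype) * Pχ = 0 :=
        hKmul _ _ hμk
      rw [e, Polynomial.map_sub, map_sub, sub_mul, h1, h2, sub_zero]
    have h1 := Nat.find_min' hex ⟨r * Polynomial.C r.leadingCoeff⁻¹,
      Polynomial.monic_mul_leadingCoeff_inv hr, rfl,
      mul_comm (Polynomial.C r.leadingCoeff⁻¹) r ▸ hKmul _ _ hrk⟩
    rw [← hμdeg] at h1
    by_cases hμ1 : μ = 1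
    · exact hr (by rw [hrdef, hμ1, Polynomial.modByMonic_one])
    have h2 : r.natDegree < μ.natDegree := Polynomial.natDegree_modByMonic_lt _ hμmonic hμ1
    have h3 := Polynomial.natDegree_mul_C_le r r.leadingCoeff⁻¹
    omega
  letI : Algebra (R M m hm) F := iF.toAlgebra
  have hμint : ∀ i, IsIntegral (R M m hm) ((μ.coeff i : F) : ℂ) := by
    intro i
    have h1 := integralClosure.mem_lifts_of_monic_of_dvd_map F (LinearMap.charpoly_monic x) hμmonic
      hdvdF
    rw [Polynomial.lifts_iff_coeff_lifts] at h1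
    obtain ⟨y, hy⟩ := h1 i
    let φ : F →ₐ[R M m hm] ℂ := { F.subtype with commutes' := fun r => rfl }
    rw [← hy]
    exact y.2.map φ
  have hμR' : ∀ i, ((μ.coeff i : F) : ℂ) ∈ R' p M m hm := fun i =>
    mem_R'_of_isIntegral hM hpm (μ.coeff i).2 (hμint i)
  -- the product over the automorphisms
  set μC := μ.map F.subtype with hμC
  let μk : (ZMod p)ˣ → Polynomial ℂ := fun k => μC.map (sig M m hm hpm k : ℂ →+* ℂ)
  have hμkc : ∀ k i, (μk k).coeff i = sig M m hm hpm k ((μ.coeff i : F) : ℂ) := fun k i => by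
    simp [μk, μC]
  have hμkR' : ∀ k i, (μk k).coeff i ∈ R' p M m hm := fun k i => by
    rw [hμkc]; exact sig_mem_R' k (hμR' i)
  have hkill : ∀ ψ ∈ S, ∃ k, Polynomial.aeval Z (μk k) * H13.isoProj (regRep ℂ G) ψ = 0 := by
    intro ψ hψ
    obtain ⟨k, hk⟩ := horb ψ hψ
    refine ⟨k, ?_⟩
    set σ := sig M m hm hpm k with hσ
    have hcol : ∀ (c : G → G → ℂ) (f : G → ℂ), mapFun (σ : ℂ ≃+* ℂ) (colOp c f) =
        colOp (fun b e => σ (c b e)) (mapFun σ f) := fun c f => funext fun e => by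
      simp only [mapFun, colOp_apply, map_sum, map_mul]
    have hσZ : ∀ f, mapFun σ (Z f) = Z (mapFun σ f) := fun f => by
      have h1 : ∀ b e, σ ((Y (Pi.single b 1) e : R M m hm) : ℂ) = (Y (Pi.single b 1) e : ℂ) :=
        fun b e => sig_R k (Y (Pi.single b 1) e).2
      funext e
      rw [hZ, LinearMap.smul_apply, LinearMap.smul_apply, Pi.smul_apply]
      show σ ((Nat.card G : ℂ)⁻¹ • colOp _ f e) = _
      rw [smul_eq_mul, map_mul, map_inv₀, map_natCast, smul_eq_mul]
      congr 1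
      rw [show σ (colOp (fun b e => (Y (Pi.single b 1) e : ℂ)) f e) =
        mapFun σ (colOp (fun b e => (Y (Pi.single b 1) e : ℂ)) f) e from rfl, hcol]
      simp only [h1]
    have hσP : ∀ f, mapFun σ (Pχ f) = H13.isoProj (regRep ℂ G) ψ (mapFun σ f) := fun f => by
      rw [hPχ, isoProj_regRep, isoProj_regRep, hcol]
      congr 2
      funext b e
      rw [map_mul, map_mul, map_inv₀, map_natCast, ← hk, ← hk]
    have hσq : ∀ (q : Polynomial ℂ) f, mapFun σ (Polynomial.aeval Z q f) =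
        Polynomial.aeval Z (q.map (σ : ℂ →+* ℂ)) (mapFun σ f) := fun q => by
      induction q using Polynomial.induction_on with
      | C b =>
        intro f; funext e
        simp [mapFun]
      | add q₁ q₂ h₁ h₂ =>
        intro f
        rw [Polynomial.map_add, map_add, map_add, LinearMap.add_apply, LinearMap.add_apply, ← h₁,
          ← h₂]
        funext e
        simp [mapFun]
      | monomial n b ih =>
        intro f
        rw [pow_succ, ← mul_assoc, Polynomial.map_mul, Polynomial.map_X,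
          map_mul _ (Polynomial.C b * Polynomial.X ^ n) Polynomial.X,
          map_mul _ _ Polynomial.X, Polynomial.aeval_X,
          Module.End.mul_apply, Module.End.mul_apply, ih, hσZ]
    refine LinearMap.ext fun f => ?_
    have hf : f = mapFun σ (mapFun σ.symm f) := funext fun e => (σ.apply_symm_apply (f e)).symm
    rw [Module.End.mul_apply, LinearMap.zero_apply, hf, ← hσP, ← hσq]
    have h0 := LinearMap.congr_fun hμk (mapFun σ.symm f)
    rw [Module.End.mul_apply, LinearMap.zero_apply] at h0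
    rw [h0]
    funext e
    simp [mapFun]
  set qC := ∏ k, μk k with hqC
  have hqk : Polynomial.aeval Z qC * ΓC = 0 := by
    rw [hΓC', mul_smul_comm, Finset.mul_sum, Finset.sum_eq_zero fun ψ hψ => ?_, smul_zero]
    obtain ⟨k, hk⟩ := hkill ψ hψ
    rw [hqC, ← Finset.prod_erase_mul _ _ (Finset.mem_univ k), map_mul, mul_assoc, hk, mul_zero]
  have hqcoeff : ∀ i, qC.coeff i ∈ R' p M m hm := by
    refine Finset.prod_induction μk (fun q => ∀ i, q.coeff i ∈ R' p M m hm) ?_ ?_ fun k _ => hμkR' k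
    · intro q₁ q₂ h₁ h₂ i
      rw [Polynomial.coeff_mul]
      exact sum_mem fun e _ => mul_mem (h₁ e.1) (h₂ e.2)
    · intro i
      rw [Polynomial.coeff_one]
      split_ifs
      exacts [one_mem _, zero_mem _]
  have hqR : ∀ i, qC.coeff i ∈ R M m hm := fun i => by
    refine mem_R_of_fixed hM (hpm := hpm) (hqcoeff i) fun j => ?_
    have h : qC.map (sig M m hm hpm j : ℂ →+* ℂ) = qC := by
      rw [hqC, Polynomial.map_prod]
      refine Eq.trans (Finset.prod_congr rfl fun k _ => ?_) (Equiv.prod_comp (Equiv.mulLeft j) μk)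
      refine Polynomial.ext fun i => ?_
      rw [Polynomial.coeff_map, hμkc, hμkc]
      exact sig_comp j k (hμR' i)
    conv_rhs => rw [← h, Polynomial.coeff_map]
    rfl
  obtain ⟨qR, hqRmap⟩ : ∃ qR : Polynomial (R M m hm), qR.map (R M m hm).subtype = qC := by
    refine (Polynomial.mem_lifts _).1 ((Polynomial.lifts_iff_coeff_lifts _).2 fun i => ?_)
    exact ⟨⟨_, hqR i⟩, rfl⟩
  have hqx : Polynomial.aeval x qR = 0 := by
    refine LinearMap.ext fun w => Subtype.ext ?_
    have h1 := hint qR w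
    rw [hqRmap] at h1
    have h2 : ΓC (ιC (w : G → R M m hm)) = (Nat.card G : ℂ) • ιC (w : G → R M m hm) := by
      rw [← hιΓ, hΓL]
      funext e
      simp [ιC]
    have h3 := LinearMap.congr_fun hqk (ιC (w : G → R M m hm))
    rw [Module.End.mul_apply, LinearMap.zero_apply, h2, map_smul, smul_eq_zero, h1] at h3
    funext e
    exact Subtype.ext (congrFun (h3.resolve_left (Nat.cast_ne_zero.2 Nat.card_pos.ne')) e)
  -- counting roots modulo `M`
  let κ := H20.red M
  obtain ⟨μO, hμO⟩ : ∃ μO : Polynomial (H20.O M), μO.map (H20.O M).subtype = μC := by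
    refine (Polynomial.mem_lifts _).1 ((Polynomial.lifts_iff_coeff_lifts _).2 fun i => ?_)
    exact ⟨⟨_, H20.mem_O.2 (memRing_R' (hμR' i))⟩, by simp [μC]⟩
  choose μkO hμkO using fun k : (ZMod p)ˣ => (Polynomial.mem_lifts (μk k)).1
    ((Polynomial.lifts_iff_coeff_lifts (f := (H20.O M).subtype) _).2 fun i =>
      ⟨⟨_, H20.mem_O.2 (memRing_R' (hμkR' k i))⟩, rfl⟩)
  have hred : ∀ k, (μkO k).map κ = μO.map κ := fun k => Polynomial.ext fun i => by
    rw [Polynomial.coeff_map, Polynomial.coeff_map, H20.red_eq_red_iff]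
    have h1 : ((μkO k).coeff i : ℂ) = sig M m hm hpm k ((μ.coeff i : F) : ℂ) := by
      rw [← hμkc, ← hμkO k, Polynomial.coeff_map]; rfl
    have h2 : (μO.coeff i : ℂ) = ((μ.coeff i : F) : ℂ) := by
      have := congrArg (fun f : Polynomial ℂ => f.coeff i) hμO
      simpa [μC] using this
    rw [h1, h2]
    exact sig_congr_of_isIntegral hM k (μ.coeff i).2 (hμint i)
  have hμOmonic : μO.Monic := by
    refine Polynomial.monic_of_injective (f := (H20.O M).subtype) Subtype.val_injective ?_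
    rw [hμO]
    exact hμmonic.map _
  have hroot : ∀ j, (μO.map κ).eval
      (κ ⟨(c j : ℂ), H20.mem_O.2 (memRing_R (c j).2)⟩) = 0 := by
    intro j
    set cO : H20.O M := ⟨(c j : ℂ), H20.mem_O.2 (memRing_R (c j).2)⟩
    have h1 : MemLocalIdeal M ((qR.eval (c j) : R M m hm) : ℂ) :=
      (dvd_iff_memIdeal hM hpm).1 (hq qR hqx j)
    have h2 : (((∏ k, μkO k).eval cO : H20.O M) : ℂ) = ((qR.eval (c j) : R M m hm) : ℂ) := by
      have e1 : (∏ k, μkO k).map (H20.O M).subtype = qR.map (R M m hm).subtype := by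
        rw [hqRmap, Polynomial.map_prod, hqC]
        exact Finset.prod_congr rfl fun k _ => hμkO k
      have e2 := congrArg (Polynomial.eval (c j : ℂ)) e1
      rw [show (c j : ℂ) = (H20.O M).subtype cO from rfl, Polynomial.eval_map_apply,
        show (H20.O M).subtype cO = (R M m hm).subtype (c j) from rfl,
        Polynomial.eval_map_apply] at e2
      exact e2
    have h3 : κ ((∏ k, μkO k).eval cO) = 0 := by
      rw [H20.red_eq_zero_iff, h2]; exact h1
    rw [← Polynomial.eval_map_apply, Polynomial.map_prod, Finset.prod_congr rfl fun k _ => hred k,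
      Finset.prod_const, Polynomial.eval_pow] at h3
    exact pow_eq_zero_iff (Finset.card_ne_zero.2 Finset.univ_nonempty) |>.1 h3
  -- `d + 1` distinct roots
  let T : Finset (H20.k M) := Finset.univ.image fun i : Fin (d + 1) =>
    κ ⟨(c ⟨i, by omega⟩ : ℂ), H20.mem_O.2 (memRing_R (c ⟨i, by omega⟩).2)⟩
  have hTcard : T.card = d + 1 := by
    rw [Finset.card_image_of_injective, Finset.card_univ, Fintype.card_fin]
    intro i j hij
    rw [H20.red_eq_red_iff] at hij
    simp only [c, min_eq_left (show (i : ℕ) ≤ d by omega), min_eq_left (show (j : ℕ) ≤ d by omega),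
      SubmonoidClass.coe_pow] at hij
    have h1 := H20.eq_of_pow_eq_one hM hpm (z := θ ^ (i : ℕ)) (w := θ ^ (j : ℕ))
      (by rw [← pow_mul, mul_comm, pow_mul, hθ0.pow_eq_one, one_pow])
      (by rw [← pow_mul, mul_comm, pow_mul, hθ0.pow_eq_one, one_pow]) hij
    exact Fin.ext (hθ0.pow_inj (by omega) (by omega) h1)
  have hne : μO.map κ ≠ 0 := (hμOmonic.map κ).ne_zero
  have hsub : T.val ⊆ (μO.map κ).roots := by
    intro t ht
    obtain ⟨i, -, rfl⟩ := Finset.mem_image.1 (Finset.mem_def.2 ht)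
    exact (Polynomial.mem_roots hne).2 (hroot _)
  have h1 := Polynomial.card_le_degree_of_subset_roots hsub
  rw [hTcard, hμOmonic.natDegree_map] at h1
  have h2 : μO.natDegree = μ.natDegree := by
    rw [← Polynomial.natDegree_map_eq_of_injective (f := (H20.O M).subtype) Subtype.val_injective μO,
      hμO, Polynomial.natDegree_map_eq_of_injective Subtype.val_injective]
  omega

end H85.D1
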