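import Cfsg.Agent.H85.D1.Principal

/-!
Defect one (helper85): the principal block for a Sylow subgroup of order `p` consists of `e`
non-exceptional and `(p - 1) / e` exceptional characters.
-/

set_option autoImplicit false
set_option linter.style.haveILetI false
set_option linter.unusedSectionVars false

open Cfsg H20
open scoped ComplexConjugate

namespace H85.D1

universe u

variable {G : Type u} [Group G] [Fintype G] {p : ℕ} [hp : Fact p.Prime] {M : Ideal AlgInt}
  [hMp : M.IsPrime] {P : Sylow p G}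

theorem degree_modEq (hP : Nat.card P = p) {χ : IrrCharacter G} {u : G}
    (hu : Subgroup.zpowers u = (P : Subgroup G)) (huo : orderOf u = p) {z : ℤ}
    (hz : ∑ i ∈ Finset.Ico 1 p, (χ : G → ℂ) (u ^ i) = (z : ℂ)) :
    (charDegree (χ : G → ℂ) : ℤ) ≡ -z [ZMOD p] := by
  classical
  haveI : Fintype (P : Subgroup G) := Fintype.ofFinite _
  obtain ⟨k, hk⟩ := H12.IsCharacter.classInner_nat
    (H12.IsCharacter.res (H12.isCharacter_irr χ) (P : Subgroup G))
    (H12.isCharacter_monoidHom (1 : (P : Subgroup G) →* ℂˣ))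
  rw [H12.classInner_def] at hk
  have hsum : ∑ w : (P : Subgroup G), (χ : G → ℂ) w = ∑ i ∈ Finset.range p, (χ : G → ℂ) (u ^ i) := by
    symm
    refine Finset.sum_bij (fun i _ => (⟨u ^ i, by rw [← hu]; exact Subgroup.npow_mem_zpowers u i⟩ : (P : Subgroup G)))
      (fun i _ => Finset.mem_univ _) ?_ ?_ fun i _ => rfl
    · intro i hi j hj h
      exact pow_injOn_Iio_orderOf (by rw [Set.mem_Iio, huo]; exact Finset.mem_range.1 hi)
        (by rw [Set.mem_Iio, huo]; exact Finset.mem_range.1 hj) (congrArg Subtype.val h)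
    · rintro ⟨w, hw⟩ -
      rw [← hu, ← mem_powers_iff_mem_zpowers] at hw
      obtain ⟨i, hi⟩ := hw
      refine ⟨i % p, Finset.mem_range.2 (Nat.mod_lt _ hp.out.pos), Subtype.ext ?_⟩
      show u ^ (i % p) = w
      rw [← huo, pow_mod_orderOf]; exact hi
  simp only [MonoidHom.one_apply, Units.val_one, map_one, mul_one] at hk
  rw [show Nat.card (P : Subgroup G) = p from hP, inv_mul_eq_iff_eq_mul₀
    (Nat.cast_ne_zero.2 hp.out.ne_zero)] at hk
  rw [hsum, Finset.range_eq_Ico, Finset.sum_eq_sum_Ico_succ_bot hp.out.pos, pow_zero, hz,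
    H12.irr_apply_one] at hk
  have h1 : ((H12.degree (χ : G → ℂ) : ℤ) + z : ℤ) = (p : ℤ) * k := by exact_mod_cast hk
  rw [charDegree_eq_degree, Int.modEq_iff_dvd]
  exact ⟨-(k : ℤ), by linarith⟩

theorem finsum_mem_intCast {A : Set (IrrCharacter G)} (f : IrrCharacter G → ℤ) :
    ((∑ᶠ χ ∈ A, f χ : ℤ) : ℂ) = ∑ᶠ χ ∈ A, (f χ : ℂ) := by
  classical
  rw [finsum_mem_eq_toFinset_sum, finsum_mem_eq_toFinset_sum]
  push_cast
  rfl

/-- The structure of the principal block. -/
theorem principal_structure (hP : Nat.card P = p) (hM : IsPModular p M) (hodd : p ≠ 2)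
    {e : ℕ} (he : (Subgroup.centralizer ((P : Subgroup G) : Set G)).relIndex
      (Subgroup.normalizer ((P : Subgroup G) : Set G)) = e) :
    ∃ X Y : Set (IrrCharacter G), principalBlock M G = X ∪ Y ∧ Disjoint X Y ∧ Nat.card X = e ∧
      Nat.card Y = (p - 1) / e ∧ ∃ (εX : IrrCharacter G → ℤ) (ε : ℤ),
        (∀ χ ∈ X, (εX χ = 1 ∨ εX χ = -1) ∧
          (charDegree (χ : G → ℂ) : ℤ) ≡ εX χ [ZMOD p] ∧
          ∀ x : G, x ∈ (P : Subgroup G) → x ≠ 1 → ∀ y : G,
            y ∈ Subgroup.centralizer ((P : Subgroup G) : Set G) → ¬ p ∣ orderOf y →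
            (χ : G → ℂ) (x * y) = (εX χ : ℂ)) ∧
        (ε = 1 ∨ ε = -1) ∧
        (∀ θ ∈ Y, (charDegree (θ : G → ℂ) : ℤ) ≡ ε * (e : ℤ) [ZMOD p]) ∧
        (∀ θ ∈ Y, ∀ θ' ∈ Y, ∀ g : G, ¬ p ∣ orderOf g → (θ : G → ℂ) g = (θ' : G → ℂ) g) ∧
        ∀ θ ∈ Y, ∀ g : G, ¬ p ∣ orderOf g →
          (ε : ℂ) * (θ : G → ℂ) g = ∑ᶠ χ ∈ X, (εX χ : ℂ) * (χ : G → ℂ) g := by
  classical
  haveI : Fintype (P : Subgroup G) := Fintype.ofFinite _
  haveI : Fintype (autG (P : Subgroup G)) := Fintype.ofFinite _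
  have hfree := freeSylow_of_card hP
  obtain ⟨ND⟩ := exists_normData hP
  have hcard : Nat.card (P : Subgroup G) = p := hP
  have hp1 : 1 < Nat.card (P : Subgroup G) := by rw [hcard]; exact hp.out.one_lt
  have heA : Nat.card (autG (P : Subgroup G)) = e := (card_autG _).trans he
  -- values on the singular part of the centralizer
  have hshift : ∀ χ ∈ principalBlock M G, ∀ x : G, x ∈ (P : Subgroup G) → x ≠ 1 → ∀ y : G,
      y ∈ Subgroup.centralizer ((P : Subgroup G) : Set G) → ¬ p ∣ orderOf y →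
      (χ : G → ℂ) (x * y) = (χ : G → ℂ) x := by
    intro χ hχ x hx hx1 y hy hyo
    have hyC : y ∈ Subgroup.centralizer ({x} : Set G) :=
      Subgroup.mem_centralizer_singleton_iff.2 (hy x hx).symm
    exact hfree.apply_shift hM hχ hx hx1 ⟨y, hyC⟩ (by rwa [Subgroup.orderOf_mk])
  by_cases hr : e + 1 < p
  · -- at least two exceptional characters
    obtain ⟨D0⟩ := hfree.exists_freeData hM (by rw [heA, hcard]; exact hr)
    obtain ⟨D, hb⟩ : ∃ D : FreeData M (P : Subgroup G), ∀ η ∈ D.Y, D.b η = 0 := by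
      obtain ⟨ψ, hψ⟩ := exists_ne_one_of_one_lt
        (fun a b => Subtype.ext (hfree.comm a a.2 b b.2)) hp1
      rcases exceptional_const hP hM hodd D0 (by rw [heA]; exact hr) ⟨ψ, hψ, rfl⟩ with h | ⟨h2, h⟩
      · exact ⟨D0, fun η hη => (D0.b_eq_of_mem hη ⟨ψ, hψ, rfl⟩).trans h⟩
      · refine ⟨D0.flip h2, ?_⟩
        rintro η ⟨φ, hφ, rfl⟩
        have hmem : (D0.flip h2).ζ φ ∈ D0.Y := by
          have hex : ∃ c : IrrCharacter G × IrrCharacter G, c.1 ≠ c.2 ∧ D0.Y = {c.1, c.2} := by
            obtain ⟨a, b, hab, he⟩ := Set.ncard_eq_two.1 ((Nat.card_coe_set_eq D0.Y).symm.trans h2)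
            exact ⟨(a, b), hab, he⟩
          have hspec := hex.choose_spec.2
          have hm : D0.ζ φ ∈ ({hex.choose.1, hex.choose.2} : Set (IrrCharacter G)) :=
            hspec ▸ ⟨φ, hφ, rfl⟩
          show Equiv.swap hex.choose.1 hex.choose.2 (D0.ζ φ) ∈ D0.Y
          refine hspec.symm.subset ?_
          rcases hm with hm | hm
          · rw [hm, Equiv.swap_apply_left]; exact Or.inr rfl
          · rw [Set.mem_singleton_iff] at hm
            rw [hm, Equiv.swap_apply_right]; exact Or.inl rfl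
        show (if (D0.flip h2).ζ φ ∈ D0.Y then D0.b ((D0.flip h2).ζ φ) + D0.δ
          else D0.b ((D0.flip h2).ζ φ)) = 0
        rw [if_pos hmem, D0.b_eq_of_mem hmem ⟨ψ, hψ, rfl⟩, h]
        ring
    obtain ⟨ψ₀, hψ₀⟩ := exists_ne_one_of_one_lt
      (fun a b => Subtype.ext (hfree.comm a a.2 b b.2)) hp1
    have hη₀ : D.ζ ψ₀ ∈ D.Y := ⟨ψ₀, hψ₀, rfl⟩
    have hval : ∀ χ ∈ principalBlock M G \ D.Y, ∀ x : G, x ∈ (P : Subgroup G) → x ≠ 1 →
        (χ : G → ℂ) x = ((-D.b χ : ℤ) : ℂ) := by
      intro χ hχ x hx hx1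
      have := D.sum_vZ_of_notMem hfree hχ.1 hχ.2 (u := ⟨x, hx⟩)
        fun h => hx1 (congrArg Subtype.val h)
      push_cast
      exact this
    have habs : ∀ χ ∈ principalBlock M G \ D.Y, -D.b χ = 1 ∨ -D.b χ = -1 := by
      intro χ hχ
      exact (value_of_const hP hM hodd hχ.1 (hval χ hχ)).resolve_left
        fun h => D.b_ne_zero hfree hM hp1 hχ.1 hχ.2 (neg_eq_zero.1 h)
    have hcardY := D.card_Y hfree
    rw [heA, hcard] at hcardY
    have hnorm := D.norm_eq hfree hM hη₀
    rw [hb _ hη₀, heA] at hnorm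
    have hXcard : Nat.card ↑(principalBlock M G \ D.Y) = e := by
      have h1 : (∑ᶠ χ ∈ principalBlock M G \ D.Y, D.b χ ^ 2) =
          (Nat.card ↑(principalBlock M G \ D.Y) : ℤ) := by
        rw [finsum_mem_eq_toFinset_sum, Finset.sum_congr rfl (g := fun _ => (1 : ℤ)) fun χ hχ => by
          rcases habs χ (Set.mem_toFinset.1 hχ) with h | h <;>
            [rw [show D.b χ = -1 by omega]; rw [show D.b χ = 1 by omega]] <;> norm_num]
        rw [Finset.sum_const, nsmul_eq_mul, mul_one, Nat.card_eq_card_toFinset]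
      have h2 : ((0 : ℤ) + D.δ) ^ 2 = 1 := by rcases D.δ_eq with hd | hd <;> simp [hd]
      rw [h1, h2] at hnorm
      simp only [ne_eq, OfNat.ofNat_ne_zero, not_false_eq_true, zero_pow, mul_zero, add_zero] at hnorm
      omega
    refine ⟨principalBlock M G \ D.Y, D.Y, (Set.sdiff_union_of_subset D.Y_subset).symm,
      Set.disjoint_sdiff_left, hXcard, ?_, fun χ => -D.b χ, D.δ, fun χ hχ => ⟨habs χ hχ, ?_, ?_⟩,
      D.δ_eq, fun θ hθ => ?_, fun θ hθ θ' hθ' g hg => D.apply_regular hM hθ hθ' hg,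
      fun θ hθ g hg => ?_⟩
    · have he0 : 0 < e := heA ▸ Nat.card_pos
      have e1 : p - 1 = Nat.card D.Y * e := by omega
      rw [e1, Nat.mul_div_cancel _ he0]
    · have h1 := degree_modEq hP ND.zpowers_u ND.orderOf_u (χ := χ)
        (z := ((p - 1 : ℕ) : ℤ) * -D.b χ) (by
          rw [Finset.sum_congr rfl fun i hi => hval χ hχ _ (ND.pow_mem i) (ND.pow_ne_one hi),
            Finset.sum_const, Nat.card_Ico, nsmul_eq_mul]
          push_cast
          ring)
      refine h1.trans (Int.modEq_iff_dvd.2 ⟨-D.b χ, ?_⟩)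
      rw [Nat.cast_sub hp.out.one_le]
      push_cast
      ring
    · intro x hx hx1 y hy hyo
      rw [hshift χ hχ.1 x hx hx1 y hy hyo, hval χ hχ x hx hx1]
    · obtain ⟨φ, hφ, rfl⟩ := hθ
      let u' : (P : Subgroup G) := ⟨ND.u, by simpa using ND.pow_mem 1⟩
      have hu' : orderOf u' = p := by rw [Subgroup.orderOf_mk]; exact ND.orderOf_u
      have hgen : ∀ w, w ∈ Subgroup.zpowers u' := fun w => by
        have h1 : (w : G) ∈ Subgroup.zpowers ND.u := by rw [ND.zpowers_u]; exact w.2
        obtain ⟨k, hk⟩ := Subgroup.mem_zpowers_iff.1 h1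
        exact ⟨k, Subtype.ext (by rw [← hk]; rfl)⟩
      have h1 := degree_modEq hP ND.zpowers_u ND.orderOf_u (χ := D.ζ φ)
        (z := -(D.δ * (e : ℤ))) (by
          have hui : ∀ i ∈ Finset.Ico 1 p, (D.ζ φ : G → ℂ) (ND.u ^ i) =
              (D.δ : ℂ) * ∑ a : autG (P : Subgroup G), ((dualTw φ a (u' ^ i) : ℂˣ) : ℂ) := by
            intro i hi
            have hne : u' ^ i ≠ 1 := fun h => ND.pow_ne_one hi (congrArg Subtype.val h)
            have h2 := D.apply_ζ hfree hφ hne
            rw [hb _ ⟨φ, hφ, rfl⟩, Int.cast_zero, neg_zero, zero_add] at h2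
            exact h2
          rw [Finset.sum_congr rfl hui, ← Finset.mul_sum, Finset.sum_comm,
            Finset.sum_congr rfl fun a _ =>
              sum_lin_pow hu' hgen (φ := dualTw φ a) (fun h => hφ (dualTw_eq_one_iff.1 h)),
            Finset.sum_const, Finset.card_univ, ← Nat.card_eq_fintype_card, heA, nsmul_eq_mul]
          push_cast
          ring)
      rwa [neg_neg] at h1
    · have h1 := D.regular_relation hM hθ hg
      rw [hb _ hθ, Int.cast_zero, mul_zero, zero_add] at h1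
      rw [finsum_mem_eq_toFinset_sum] at h1 ⊢
      simp only [Int.cast_neg, neg_mul, Finset.sum_neg_distrib]
      linear_combination h1
  · -- a single class of nontrivial `p`-elements
    have hle : e + 1 ≤ p := by
      haveI : IsCyclic (P : Subgroup G) := isCyclic_of_prime_card hP
      have h1 : Nat.card (autG (P : Subgroup G)) ≤ Nat.card (MulAut (P : Subgroup G)) :=
        Nat.card_le_card_of_injective Subtype.val Subtype.val_injective
      rw [heA, IsCyclic.card_mulAut, hcard, Nat.totient_prime hp.out] at h1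
      have := hp.out.two_le
      omega
    have he1 : e + 1 = p := by omega
    let u' : (P : Subgroup G) := ⟨ND.u, by simpa using ND.pow_mem 1⟩
    have hu1 : u' ≠ 1 := fun h => by
      have h2 : ND.u = 1 := congrArg Subtype.val h
      have h3 := ND.orderOf_u
      rw [h2, orderOf_one] at h3
      exact hp.out.ne_one h3.symm
    have hconj : ∀ x ∈ (P : Subgroup G), x ≠ 1 → IsConj ND.u x := by
      intro x hx hx1
      let f : autG (P : Subgroup G) → {w : (P : Subgroup G) // w ≠ 1} := fun a =>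
        ⟨(a : MulAut (P : Subgroup G)) u', fun h => hu1 ((map_eq_one_iff _ (MulEquiv.injective _)).1 h)⟩
      have hf : Function.Injective f := fun a b h => hfree.eq_of_apply_eq hu1 (congrArg Subtype.val h)
      have hc : Nat.card {w : (P : Subgroup G) // w ≠ 1} = Nat.card (autG (P : Subgroup G)) := by
        rw [Nat.card_eq_fintype_card, Fintype.card_subtype_compl, Fintype.card_subtype_eq,
          ← Nat.card_eq_fintype_card, hcard, heA]
        omega
      haveI : Finite {w : (P : Subgroup G) // w ≠ 1} := inferInstance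
      obtain ⟨a, ha⟩ := ((Nat.bijective_iff_injective_and_card f).2 ⟨hf, hc.symm⟩).2
        ⟨⟨x, hx⟩, fun h => hx1 (congrArg Subtype.val h)⟩
      have h2 := isConj_autG a u'
      rw [show ((a : MulAut (P : Subgroup G)) u' : (P : Subgroup G)) = ⟨x, hx⟩ from
        congrArg Subtype.val ha] at h2
      exact h2
    have hconst : ∀ χ : IrrCharacter G, ∀ x ∈ (P : Subgroup G), x ≠ 1 →
        (χ : G → ℂ) x = (χ : G → ℂ) ND.u := fun χ x hx hx1 => by
      obtain ⟨g, hg⟩ := _root_.isConj_iff.1 (hconj x hx hx1)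
      rw [← hg, H12.irr_isClassFunction χ ND.u g]
    have hsumc : ∀ χ : IrrCharacter G, ∑ i ∈ Finset.Ico 1 p, (χ : G → ℂ) (ND.u ^ i) =
        (e : ℂ) * (χ : G → ℂ) ND.u := fun χ => by
      rw [Finset.sum_congr rfl fun i hi => hconst χ _ (ND.pow_mem i) (ND.pow_ne_one hi),
        Finset.sum_const, Nat.card_Ico, nsmul_eq_mul, show p - 1 = e by omega]
    have hint : ∀ χ : IrrCharacter G, ∃ c : ℤ, (χ : G → ℂ) ND.u = (c : ℂ) := by
      intro χ
      obtain ⟨k, hk⟩ := H12.IsCharacter.classInner_nat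
        (H12.IsCharacter.res (H12.isCharacter_irr χ) (P : Subgroup G))
        (H12.isCharacter_monoidHom (1 : (P : Subgroup G) →* ℂˣ))
      rw [H12.classInner_def, ← Finset.add_sum_erase _ _ (Finset.mem_univ (1 : (P : Subgroup G))),
        Finset.sum_congr rfl fun w hw => by
          rw [hconst χ (w : G) w.2 fun h => Finset.ne_of_mem_erase hw (Subtype.ext h)]] at hk
      simp only [MonoidHom.one_apply, Units.val_one, map_one, mul_one, OneMemClass.coe_one,
        Finset.sum_const, Finset.card_erase_of_mem (Finset.mem_univ _), Finset.card_univ,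
        nsmul_eq_mul, H12.irr_apply_one] at hk
      rw [← Nat.card_eq_fintype_card, hcard, inv_mul_eq_iff_eq_mul₀
        (Nat.cast_ne_zero.2 hp.out.ne_zero), show p - 1 = e by omega] at hk
      have he0 : (e : ℂ) ≠ 0 := by
        have := hp.out.two_le
        exact_mod_cast (show e ≠ 0 by omega)
      obtain ⟨c, hc⟩ := H12.exists_int_of_isIntegral_rat
        (q := (((p * k : ℕ) : ℚ) - H12.degree (χ : G → ℂ)) / e) (by
          have : (((((p * k : ℕ) : ℚ) - H12.degree (χ : G → ℂ)) / e : ℚ) : ℂ) = (χ : G → ℂ) ND.u := by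
            push_cast
            rw [div_eq_iff he0]
            linear_combination -hk
          rw [this]
          exact isIntegral_irr χ ND.u)
      refine ⟨c, ?_⟩
      rw [show (c : ℂ) = ((c : ℚ) : ℂ) by push_cast; rfl, hc]
      push_cast
      rw [eq_div_iff he0]
      linear_combination hk
    choose c hc using hint
    have hu0 : ND.u ∈ (P : Subgroup G) := by simpa using ND.pow_mem 1
    have hu01 : ND.u ≠ 1 := fun h => hu1 (Subtype.ext h)
    have hvalc : ∀ χ : IrrCharacter G, ∀ x ∈ (P : Subgroup G), x ≠ 1 → (χ : G → ℂ) x = (c χ : ℂ) :=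
      fun χ x hx hx1 => (hconst χ x hx hx1).trans (hc χ)
    have habs : ∀ χ ∈ principalBlock M G, c χ = 1 ∨ c χ = -1 := by
      intro χ hχ
      refine (value_of_const hP hM hodd hχ (hvalc χ)).resolve_left fun h => ?_
      obtain ⟨w, hw, hw1, hne⟩ := hfree.exists_apply_ne_zero hM hp1 hχ
      exact hne (by rw [hvalc χ w hw hw1, h, Int.cast_zero])
    have hBcard : Nat.card ↑(principalBlock M G) = p := by
      have h1 := hfree.column_self hM hu0 hu01
      rw [finsum_mem_eq_toFinset_sum, Finset.sum_congr rfl (g := fun _ => (1 : ℂ)) fun χ hχ => by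
        rw [hc χ, map_intCast]
        rcases habs χ (Set.mem_toFinset.1 hχ) with h | h <;> rw [h] <;> norm_num,
        Finset.sum_const, nsmul_eq_mul, mul_one, ← Nat.card_eq_card_toFinset, hcard] at h1
      exact_mod_cast h1
    obtain ⟨θ, hθ⟩ : ∃ θ, θ ∈ principalBlock M G :=
      ⟨H12.oneIrr G, H20.mem_blockOf_self (H12.oneIrr G)⟩
    refine ⟨principalBlock M G \ {θ}, {θ},
      (Set.sdiff_union_of_subset (Set.singleton_subset_iff.2 hθ)).symm, Set.disjoint_sdiff_left,
      ?_, ?_, c, -c θ, fun χ hχ => ⟨habs χ hχ.1, ?_, ?_⟩, ?_, ?_, ?_, ?_⟩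
    · rw [Nat.card_coe_set_eq, Set.ncard_sdiff_singleton_of_mem hθ, ← Nat.card_coe_set_eq, hBcard]
      omega
    · rw [Nat.card_coe_set_eq, Set.ncard_singleton, show p - 1 = e by omega,
        Nat.div_self (by have := hp.out.two_le; omega)]
    · have h1 := degree_modEq hP ND.zpowers_u ND.orderOf_u (χ := χ) (z := (e : ℤ) * c χ)
        (by rw [hsumc, hc]; push_cast; ring)
      refine h1.trans (Int.modEq_iff_dvd.2 ⟨c χ, ?_⟩)
      rw [← he1]; push_cast; ring
    · intro x hx hx1 y hy hyo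
      rw [hshift χ hχ.1 x hx hx1 y hy hyo, hvalc χ x hx hx1]
    · rcases habs θ hθ with h | h <;> rw [h] <;> norm_num
    · intro θ' hθ'
      rw [Set.mem_singleton_iff] at hθ'
      subst hθ'
      have h1 := degree_modEq hP ND.zpowers_u ND.orderOf_u (χ := θ') (z := (e : ℤ) * c θ')
        (by rw [hsumc, hc]; push_cast; ring)
      rwa [show -((e : ℤ) * c θ') = -c θ' * (e : ℤ) by ring] at h1
    · intro θ₁ h₁ θ₂ h₂ g _
      rw [Set.mem_singleton_iff] at h₁ h₂
      rw [h₁, h₂]
    · intro θ' hθ' g hg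
      rw [Set.mem_singleton_iff] at hθ'
      subst hθ'
      have h0 := weak_orthogonality hM (isPBlock_principalBlock (M := M) (G := G)) (x := g)
        (y := ND.u) hg (by rw [ND.orderOf_u])
      rw [finsum_mem_eq_toFinset_sum] at h0 ⊢
      rw [Set.toFinset_sdiff, Set.toFinset_singleton, Finset.sum_sdiff_eq_sub
        (Finset.singleton_subset_iff.2 (Set.mem_toFinset.2 hθ)), Finset.sum_singleton]
      have h2 : ∑ χ ∈ (principalBlock M G).toFinset, (c χ : ℂ) * (χ : G → ℂ) g = 0 := by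
        rw [← h0]
        exact Finset.sum_congr rfl fun χ _ => by rw [hc χ, map_intCast, mul_comm]
      rw [h2]
      push_cast
      ring

end H85.D1
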