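import Cfsg.Agent.H20.LocalRing
import Cfsg.Agent.H25.GaloisExtend
import Mathlib

/-!
Defect one (helper85): the unramified local ring `R` generated by roots of unity of order prime
to `p`, the totally ramified extension by a primitive `p`-th root of unity and its automorphisms.
-/

set_option autoImplicit false
set_option linter.style.haveILetI false
set_option linter.unusedSectionVars false

open Cfsg

namespace H85.D1

variable {p : ℕ} {M : Ideal AlgInt} [hMp : M.IsPrime]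

theorem not_memIdeal_mul {s t : ℂ} (hs : MemLocalRing M s) (hs' : ¬ MemLocalIdeal M s)
    (ht' : ¬ MemLocalIdeal M t) : ¬ MemLocalIdeal M (s * t) := fun h => by
  obtain ⟨h0, hi⟩ := H20.inv_memRing hs hs'
  have := H20.memIdeal_mul hi h
  rw [← mul_assoc, inv_mul_cancel₀ h0, one_mul] at this
  exact ht' this

/-- The ring generated by the `m`-th roots of unity. -/
def Z0 (m : ℕ) : Subring ℂ := Subring.closure {z | z ^ m = 1}

theorem isIntegral_Z0 {m : ℕ} (hm : 0 < m) {x : ℂ} (hx : x ∈ Z0 m) : IsIntegral ℤ x := by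
  have h : Z0 m ≤ (integralClosure ℤ ℂ).toSubring := Subring.closure_le.2 fun z hz =>
    IsIntegral.of_pow hm (by rw [show z ^ m = 1 from hz]; exact isIntegral_one)
  exact h hx

theorem memRing_Z0 {m : ℕ} (hm : 0 < m) {x : ℂ} (hx : x ∈ Z0 m) : MemLocalRing M x :=
  H20.memRing_of_isIntegral (isIntegral_Z0 hm hx)

/-- A power of Frobenius is the identity modulo `p`. -/
theorem exists_frobenius [Fact p.Prime] {m : ℕ} (hm : ¬ p ∣ m) :
    ∃ q : ℕ, 2 ≤ q ∧ ∀ x ∈ Z0 m, ∃ y ∈ Z0 m, x ^ q = x + (p : ℂ) * y := by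
  have hp : p.Prime := Fact.out
  have hm0 : 0 < m := Nat.pos_of_ne_zero fun h => hm (h ▸ dvd_zero p)
  obtain ⟨f, hf0, hf⟩ : ∃ f, 0 < f ∧ p ^ f ≡ 1 [MOD m] :=
    ⟨m.totient, Nat.totient_pos.2 hm0, Nat.ModEq.pow_totient ((hp.coprime_iff_not_dvd).2 hm)⟩
  have h2 : 2 ≤ p ^ f := le_trans hp.two_le (Nat.le_self_pow hf0.ne' p)
  refine ⟨p ^ f, h2, fun x hx => ?_⟩
  let S : Subring ℂ := Z0 m
  suffices h : ∃ y : S, (⟨x, hx⟩ : S) ^ (p ^ f) = ⟨x, hx⟩ + (p : S) * y by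
    obtain ⟨y, hy⟩ := h
    exact ⟨y, y.2, by simpa using congrArg Subtype.val hy⟩
  induction hx using Subring.closure_induction with
  | mem z hz =>
    refine ⟨0, Subtype.ext ?_⟩
    simp only [mul_zero, add_zero, SubmonoidClass.coe_pow]
    exact (pow_eq_pow_mod _ hz).trans ((show p ^ f % m = 1 % m from hf) ▸
      ((pow_eq_pow_mod 1 hz).symm.trans (pow_one z)))
  | zero => exact ⟨0, Subtype.ext (by simp [zero_pow (pow_ne_zero f hp.ne_zero)])⟩
  | one => exact ⟨0, Subtype.ext (by simp)⟩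
  | add a b ha hb iha ihb =>
    obtain ⟨u, hu⟩ := iha
    obtain ⟨v, hv⟩ := ihb
    obtain ⟨r, hr⟩ := exists_add_pow_prime_pow_eq hp (⟨a, ha⟩ : S) ⟨b, hb⟩ f
    rw [hu, hv] at hr
    exact ⟨u + v + (⟨a, ha⟩ : S) * ⟨b, hb⟩ * r, hr.trans (by ext; push_cast; ring)⟩
  | neg a ha iha =>
    obtain ⟨u, hu⟩ := iha
    obtain ⟨r, hr⟩ := exists_add_pow_prime_pow_eq hp (⟨a, ha⟩ : S) (-⟨a, ha⟩) f
    rw [add_neg_cancel, zero_pow (pow_ne_zero f hp.ne_zero), hu] at hr
    refine ⟨-u + (⟨a, ha⟩ : S) * ⟨a, ha⟩ * r, ?_⟩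
    change (-(⟨a, ha⟩ : S)) ^ p ^ f = -(⟨a, ha⟩ : S) + (p : S) * (-u + (⟨a, ha⟩ : S) * ⟨a, ha⟩ * r)
    linear_combination -hr
  | mul a b ha hb iha ihb =>
    obtain ⟨u, hu⟩ := iha
    obtain ⟨v, hv⟩ := ihb
    refine ⟨(⟨a, ha⟩ : S) * v + u * ⟨b, hb⟩ + (p : S) * (u * v), ?_⟩
    change ((⟨a, ha⟩ : S) * ⟨b, hb⟩) ^ p ^ f = (⟨a, ha⟩ : S) * ⟨b, hb⟩ + _
    rw [mul_pow, hu, hv]
    ring

variable (M) in
/-- The local ring at `M` of the ring generated by the `m`-th roots of unity. -/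
def R (m : ℕ) (hm : 0 < m) : Subring ℂ where
  carrier := {z | ∃ a ∈ Z0 m, ∃ s ∈ Z0 m, ¬ MemLocalIdeal M s ∧ z * s = a}
  zero_mem' := ⟨0, zero_mem _, 1, one_mem _, H20.not_memIdeal_one, by simp⟩
  one_mem' := ⟨1, one_mem _, 1, one_mem _, H20.not_memIdeal_one, by simp⟩
  add_mem' := by
    rintro x y ⟨a, ha, s, hs, hs', hx⟩ ⟨b, hb, t, ht, ht', hy⟩
    exact ⟨a * t + b * s, add_mem (mul_mem ha ht) (mul_mem hb hs), s * t, mul_mem hs ht,
      not_memIdeal_mul (memRing_Z0 hm hs) hs' ht', by rw [← hx, ← hy]; ring⟩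
  mul_mem' := by
    rintro x y ⟨a, ha, s, hs, hs', hx⟩ ⟨b, hb, t, ht, ht', hy⟩
    exact ⟨a * b, mul_mem ha hb, s * t, mul_mem hs ht,
      not_memIdeal_mul (memRing_Z0 hm hs) hs' ht', by rw [← hx, ← hy]; ring⟩
  neg_mem' := by
    rintro x ⟨a, ha, s, hs, hs', hx⟩
    exact ⟨-a, neg_mem ha, s, hs, hs', by rw [← hx, neg_mul]⟩

variable {m : ℕ} {hm : 0 < m}

theorem Z0_le_R : Z0 m ≤ R M m hm := fun a ha =>
  ⟨a, ha, 1, one_mem _, H20.not_memIdeal_one, mul_one a⟩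

theorem memRing_R {x : ℂ} (hx : x ∈ R M m hm) : MemLocalRing M x := by
  obtain ⟨a, ha, s, hs, hs', h⟩ := hx
  obtain ⟨h0, hi⟩ := H20.inv_memRing (memRing_Z0 hm hs) hs'
  have := H20.memRing_mul (memRing_Z0 hm ha) hi
  rwa [← h, mul_assoc, mul_inv_cancel₀ h0, mul_one] at this

theorem inv_mem_R {x : ℂ} (hx : x ∈ R M m hm) (hx' : ¬ MemLocalIdeal M x) : x⁻¹ ∈ R M m hm := by
  obtain ⟨h0, hi⟩ := H20.inv_memRing (memRing_R hx) hx'
  obtain ⟨a, ha, s, hs, hs', h⟩ := hx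
  have hs0 : s ≠ 0 := fun h' => hs' (h' ▸ H20.memIdeal_zero)
  refine ⟨s, hs, a, ha, ?_, ?_⟩
  · rw [← h]
    exact not_memIdeal_mul (memRing_R (hm := hm) ⟨a, ha, s, hs, hs', h⟩) hx' hs'
  · rw [← h, ← mul_assoc, inv_mul_cancel₀ h0, one_mul]

/-- The maximal ideal of `R` is generated by `p`. -/
theorem exists_eq_mul_of_memIdeal [Fact p.Prime] (hpm : ¬ p ∣ m) {x : ℂ} (hx : x ∈ R M m hm)
    (hxI : MemLocalIdeal M x) : ∃ y ∈ R M m hm, x = (p : ℂ) * y := by
  obtain ⟨q, hq, hfrob⟩ := exists_frobenius (p := p) hpm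
  obtain ⟨a, ha, s, hs, hs', h⟩ := hx
  have haI : MemLocalIdeal M a := by
    rw [← h, mul_comm]; exact H20.memIdeal_mul (memRing_Z0 hm hs) hxI
  obtain ⟨y, hy, hay⟩ := hfrob a ha
  set t := a ^ (q - 1) - 1 with ht
  have htI : ¬ MemLocalIdeal M t := by
    intro h'
    have h1 : MemLocalIdeal M (a ^ (q - 1)) := by
      obtain ⟨k, hk⟩ : ∃ k, q - 1 = k + 1 := ⟨q - 2, by omega⟩
      rw [hk, pow_succ]
      exact H20.memIdeal_mul (H20.mem_O.1 (pow_mem (H20.mem_O.2 (memRing_Z0 hm ha)) k)) haI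
    have h2 := H20.memIdeal_add h1 (H20.memIdeal_mul (H20.memRing_intCast (-1)) h')
    rw [ht] at h2
    exact H20.not_memIdeal_one (by push_cast at h2; convert h2 using 1; ring)
  have htZ : t ∈ Z0 m := sub_mem (pow_mem ha _) (one_mem _)
  have hat : a * t = (p : ℂ) * y := by
    rw [ht, mul_sub, ← pow_succ', Nat.sub_add_cancel (by omega : 1 ≤ q), hay]
    ring
  refine ⟨y / (t * s), ⟨y, hy, t * s, mul_mem htZ hs,
    not_memIdeal_mul (memRing_Z0 hm htZ) htI hs', ?_⟩, ?_⟩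
  · exact div_mul_cancel₀ _ fun h' =>
      not_memIdeal_mul (memRing_Z0 hm htZ) htI hs' (h' ▸ H20.memIdeal_zero)
  · have hts : t * s ≠ 0 := fun h' =>
      not_memIdeal_mul (memRing_Z0 hm htZ) htI hs' (h' ▸ H20.memIdeal_zero)
    rw [mul_div, ← hat, eq_div_iff hts, ← h]
    ring

/-- Every nonzero element of `R` is a power of `p` times a unit. -/
theorem exists_pow_mul [Fact p.Prime] (hM : IsPModular p M) (hpm : ¬ p ∣ m) {x : ℂ}
    (hx : x ∈ R M m hm) (hx0 : x ≠ 0) :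
    ∃ k : ℕ, ∃ u ∈ R M m hm, ¬ MemLocalIdeal M u ∧ x = (p : ℂ) ^ k * u := by
  classical
  let P : ℕ → Prop := fun k => ∃ y ∈ R M m hm, x = (p : ℂ) ^ k * y
  have h0 : P 0 := ⟨x, hx, by simp⟩
  obtain ⟨a, ha, s, hs, hs', h⟩ := id hx
  have ha0 : a ≠ 0 := fun h' => by
    rw [h', mul_eq_zero] at h
    exact h.elim hx0 fun h'' => hs' (h'' ▸ H20.memIdeal_zero)
  have hai := isIntegral_Z0 hm ha
  set g := minpoly ℤ a with hg
  set c := -(Polynomial.aeval a g.divX) with hc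
  have hcZ : c ∈ Z0 m := by
    refine neg_mem ?_
    rw [Polynomial.aeval_eq_sum_range]
    exact sum_mem fun i _ => zsmul_mem (pow_mem ha i) _
  have hac : a * c = (g.coeff 0 : ℂ) := by
    have h1 := minpoly.aeval ℤ a
    rw [← hg, ← Polynomial.X_mul_divX_add g, map_add, map_mul, Polynomial.aeval_X,
      Polynomial.aeval_C] at h1
    rw [hc]
    simp only [eq_intCast] at h1
    linear_combination -h1
  have hn0 : g.coeff 0 ≠ 0 := fun h0' => by
    rw [h0'] at hac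
    simp only [Int.cast_zero, mul_eq_zero, ha0, false_or] at hac
    have hd0 : Polynomial.aeval a g.divX = 0 := by rw [hc] at hac; simpa using hac
    have hg0 : g ≠ 0 := minpoly.ne_zero hai
    have hne : g.divX ≠ 0 := fun h' => hg0 (by
      rw [← Polynomial.X_mul_divX_add g, h', h0']; simp)
    have h1 := Polynomial.degree_le_of_dvd (minpoly.isIntegrallyClosed_dvd hai hd0) hne
    rw [← hg] at h1
    exact absurd h1 (not_le.2 (Polynomial.degree_divX_lt hg0))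
  have hfail : ∃ k, ¬ P (k + 1) := by
    refine ⟨(g.coeff 0).natAbs, fun ⟨y, hy, hxy⟩ => ?_⟩
    set K := (g.coeff 0).natAbs + 1
    have hmem : MemLocalRing M (((g.coeff 0).natAbs : ℂ) / (p : ℂ) ^ K) := by
      have h1 : MemLocalRing M ((g.coeff 0 : ℂ) / (p : ℂ) ^ K) := by
        have h2 := H20.memRing_mul (H20.memRing_mul (memRing_R hy) (memRing_Z0 hm hs))
          (memRing_Z0 (M := M) hm hcZ)
        rw [← hac, ← h, hxy]
        convert h2 using 1
        field_simp [hM.1.ne_zero]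
      rcases Int.natAbs_eq (g.coeff 0) with he | he <;> rw [he] at h1
      · rw [Int.cast_natCast] at h1
        exact h1
      · rw [Int.cast_neg, Int.cast_natCast] at h1
        have := H20.memRing_neg h1
        rwa [neg_div, neg_neg] at this
    have h3 := Nat.le_of_dvd (Int.natAbs_pos.2 hn0) (H20.pow_dvd_of_memRing hM hmem)
    have h4 : K < p ^ K := Nat.lt_pow_self hM.1.one_lt
    omega
  have hfind := Nat.find_spec hfail
  have hP : P (Nat.find hfail) := by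
    rcases Nat.eq_zero_or_pos (Nat.find hfail) with h' | h'
    · rw [h']; exact h0
    · have := Nat.find_min hfail (show Nat.find hfail - 1 < Nat.find hfail by omega)
      rwa [not_not, Nat.sub_add_cancel h'] at this
  obtain ⟨y, hy, hxy⟩ := hP
  refine ⟨_, y, hy, fun hyI => hfind ?_, hxy⟩
  obtain ⟨z, hz, hyz⟩ := exists_eq_mul_of_memIdeal hpm hy hyI
  exact ⟨z, hz, by rw [hxy, hyz, pow_succ, mul_assoc]⟩

theorem isUnit_R {x : R M m hm} (hx : ¬ MemLocalIdeal M (x : ℂ)) : IsUnit x :=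
  IsUnit.of_mul_eq_one ⟨_, inv_mem_R x.2 hx⟩ (Subtype.ext
    (mul_inv_cancel₀ (H20.inv_memRing (memRing_R x.2) hx).1))

theorem dvd_iff_memIdeal [Fact p.Prime] (hM : IsPModular p M) (hpm : ¬ p ∣ m) {x : R M m hm} :
    (p : R M m hm) ∣ x ↔ MemLocalIdeal M (x : ℂ) := by
  constructor
  · rintro ⟨y, rfl⟩
    push_cast
    rw [mul_comm]
    exact H20.memIdeal_mul (memRing_R y.2) (H20.memIdeal_p hM)
  · intro h
    obtain ⟨y, hy, hxy⟩ := exists_eq_mul_of_memIdeal hpm x.2 h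
    exact ⟨⟨y, hy⟩, Subtype.ext (by push_cast; exact hxy)⟩

theorem irreducible_p [Fact p.Prime] (hM : IsPModular p M) (hpm : ¬ p ∣ m) :
    Irreducible (p : R M m hm) := by
  refine ⟨fun hu => ?_, fun a b hab => ?_⟩
  · obtain ⟨v, hv⟩ := hu.exists_right_inv
    have := (dvd_iff_memIdeal (hm := hm) hM hpm).1 ⟨v, hv.symm⟩
    exact H20.not_memIdeal_one (by simpa using this)
  · by_cases ha : MemLocalIdeal M (a : ℂ)
    · obtain ⟨c, hc⟩ := (dvd_iff_memIdeal hM hpm).2 ha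
      right
      have hp0 : (p : R M m hm) ≠ 0 := fun h' => by
        have := congrArg Subtype.val h'
        push_cast at this
        exact hM.1.ne_zero (by exact_mod_cast this)
      exact IsUnit.of_mul_eq_one c (mul_left_cancel₀ hp0 (by rw [mul_one, mul_comm b c, ← mul_assoc, ← hc, ← hab]))
    · exact Or.inl (isUnit_R ha)

theorem isDVR [Fact p.Prime] (hM : IsPModular p M) (hpm : ¬ p ∣ m) :
    IsDiscreteValuationRing (R M m hm) := by
  refine IsDiscreteValuationRing.ofHasUnitMulPowIrreducibleFactorization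
    ⟨(p : R M m hm), irreducible_p hM hpm, fun {x} hx => ?_⟩
  obtain ⟨k, u, hu, hu', hxu⟩ := exists_pow_mul hM hpm x.2 (fun h' => hx (Subtype.ext h'))
  obtain ⟨v, hv⟩ := isUnit_R (x := ⟨u, hu⟩) hu'
  exact ⟨k, v, Subtype.ext (by push_cast; rw [hv]; exact hxu.symm)⟩

theorem intCast_div_mem (hM : IsPModular p M) {n : ℕ} (hn : ¬ p ∣ n) :
    (n : ℂ)⁻¹ ∈ R M m hm :=
  inv_mem_R (natCast_mem _ n) (mt (H20.natCast_memIdeal_iff hM n).1 hn)

/-! ### The ramified extension -/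

/-- The primitive `p`-th root of unity. -/
noncomputable def zeta (p : ℕ) : ℂ := Complex.exp (2 * Real.pi * Complex.I / p)

theorem isPrimitiveRoot_zeta [hp : Fact p.Prime] : IsPrimitiveRoot (zeta p) p :=
  Complex.isPrimitiveRoot_exp p hp.out.ne_zero

variable (M p) in
/-- The ring obtained by adjoining a primitive `p`-th root of unity to `R`. -/
def R' (m : ℕ) (hm : 0 < m) : Subring ℂ := Subring.closure ((R M m hm : Set ℂ) ∪ {zeta p})

variable (M p) in
/-- The field generated by `R` and a primitive `p`-th root of unity. -/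
noncomputable def K' (m : ℕ) (hm : 0 < m) : Subfield ℂ := Subfield.closure ((R M m hm : Set ℂ) ∪ {zeta p})

theorem R_le_R' : R M m hm ≤ R' p M m hm := fun _ h => Subring.subset_closure (Or.inl h)

theorem zeta_mem : zeta p ∈ R' p M m hm := Subring.subset_closure (Or.inr rfl)

theorem R'_le_K' {x : ℂ} (hx : x ∈ R' p M m hm) : x ∈ K' p M m hm := by
  refine (Subring.closure_le (t := (K' p M m hm).toSubring)).2 ?_ hx
  exact Subfield.subset_closure

theorem root_mem_K' [hp : Fact p.Prime] (hpm : ¬ p ∣ m) {z : ℂ} (hz : z ^ (m * p) = 1) :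
    z ∈ K' p M m hm := by
  have hzp : (z ^ p) ^ m = 1 := by rw [← pow_mul, mul_comm, hz]
  have hzm : (z ^ m) ^ p = 1 := by rw [← pow_mul, hz]
  have h1 : z ^ p ∈ K' p M m hm :=
    Subfield.subset_closure (Or.inl (Z0_le_R (Subring.subset_closure hzp)))
  obtain ⟨i, -, hi⟩ := (isPrimitiveRoot_zeta (p := p)).eq_pow_of_pow_eq_one hzm
  have h2 : z ^ m ∈ K' p M m hm :=
    hi ▸ pow_mem (show zeta p ∈ K' p M m hm from Subfield.subset_closure (Or.inr rfl)) i
  have hz0 : z ≠ 0 := fun h => by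
    rw [h, zero_pow (Nat.mul_ne_zero hm.ne' hp.out.ne_zero)] at hz
    exact zero_ne_one hz
  have hb : (1 : ℤ) = (m : ℤ) * Nat.gcdA m p + (p : ℤ) * Nat.gcdB m p := by
    have := Nat.gcd_eq_gcd_ab m p
    rw [Nat.Coprime.gcd_eq_one (Nat.Coprime.symm ((hp.out.coprime_iff_not_dvd).2 hpm))] at this
    exact_mod_cast this
  rw [← zpow_one z, hb, zpow_add₀ hz0, zpow_mul, zpow_mul, zpow_natCast, zpow_natCast]
  exact mul_mem (zpow_mem h2 _) (zpow_mem h1 _)

theorem exists_sigma [hp : Fact p.Prime] (hpm : ¬ p ∣ m) (hm : 0 < m) (k : ℕ) (hk : ¬ p ∣ k) :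
    ∃ σ : ℂ ≃+* ℂ, (∀ z ∈ R M m hm, σ z = z) ∧ σ (zeta p) = zeta p ^ k ∧
      ∀ g : ℕ, g ∣ m * p → ∃ l : ℕ, (∀ z : ℂ, z ^ g = 1 → σ z = z ^ l) ∧
        Nat.Coprime l g ∧ l ≡ k [MOD p] ∧ l ≡ 1 [MOD m] := by
  have hcop : m.Coprime p := Nat.Coprime.symm ((hp.out.coprime_iff_not_dvd).2 hpm)
  obtain ⟨l, hl1, hl2⟩ := Nat.chineseRemainder hcop 1 k
  have hlm : Nat.Coprime l m := by
    rw [Nat.Coprime, Nat.ModEq.gcd_eq hl1, Nat.gcd_one_left]
  have hlp : Nat.Coprime l p := by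
    rw [Nat.Coprime, Nat.ModEq.gcd_eq hl2]
    exact Nat.Coprime.symm ((hp.out.coprime_iff_not_dvd).2 hk)
  obtain ⟨σ, hσ⟩ := H25.exists_ringEquiv_pow_rootOfUnity (m * p) l
    (Nat.mul_pos hm hp.out.pos) (Nat.Coprime.mul_right hlm hlp)
  have hfix : ∀ z ∈ Z0 m, σ z = z := fun z hz => by
    induction hz using Subring.closure_induction with
    | mem z hz =>
      rw [hσ z (by rw [pow_mul, show z ^ m = 1 from hz, one_pow]), pow_eq_pow_mod l hz,
        show l % m = 1 % m from hl1, ← pow_eq_pow_mod 1 hz, pow_one]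
    | zero => simp
    | one => simp
    | add a b _ _ iha ihb => rw [map_add, iha, ihb]
    | neg a _ iha => rw [map_neg, iha]
    | mul a b _ _ iha ihb => rw [map_mul, iha, ihb]
  refine ⟨σ, fun z hz => ?_, ?_, fun g hg => ⟨l, fun z hz => hσ z ?_,
    (Nat.Coprime.mul_right hlm hlp).coprime_dvd_right hg, hl2, hl1⟩⟩
  · obtain ⟨a, ha, s, hs, hs', h⟩ := hz
    have hs0 : s ≠ 0 := fun h' => hs' (h' ▸ H20.memIdeal_zero)
    refine mul_right_cancel₀ hs0 ?_
    conv_lhs => rw [← hfix s hs, ← map_mul, h, hfix a ha]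
    rw [h]
  · have hz : zeta p ^ p = 1 := isPrimitiveRoot_zeta.pow_eq_one
    rw [hσ _ (by rw [mul_comm, pow_mul, hz, one_pow]), pow_eq_pow_mod l hz,
      show l % p = k % p from hl2, ← pow_eq_pow_mod k hz]
  · obtain ⟨c, hc⟩ := hg
    rw [hc, pow_mul, hz, one_pow]

end H85.D1
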