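import Cfsg.Agent.H85.D1.BlockShape
import Cfsg.Agent.H85.D1.Cyclo

/-!
Defect one (helper85): degrees and Galois action on a block of defect one.
-/

set_option autoImplicit false
set_option linter.style.haveILetI false
set_option linter.unusedSectionVars false

open Cfsg
open scoped ComplexConjugate

namespace H85.D1

universe u

theorem map_root_of_fixed {n : ℕ} (hn : 0 < n) {ζ : ℂ} (hζ : IsPrimitiveRoot ζ n)
    {σ : ℂ ≃+* ℂ} {k : ℕ} (hσ : σ ζ = ζ ^ k) {z : ℂ} (hz : z ^ n = 1) : σ z = z ^ k := by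
  haveI : NeZero n := ⟨hn.ne'⟩
  obtain ⟨i, -, rfl⟩ := hζ.eq_pow_of_pow_eq_one hz
  rw [map_pow, hσ, ← pow_mul, ← pow_mul, mul_comm]

theorem map_apply_of_fixed {A : Type*} [Group A] [Fintype A] {σ : ℂ ≃+* ℂ} {χ : A → ℂ}
    (hχ : IsCharacter A χ) {g : A} {m : ℕ} (hg : orderOf g ∣ m)
    (hσ : ∀ z : ℂ, z ^ m = 1 → σ z = z) : σ (χ g) = χ g := by
  obtain ⟨n, ρ, rfl⟩ := hχ
  obtain ⟨μ, h1, h2, -⟩ := H12.exists_char_eigenvalues ρ g
  have hg1 : ρ.character g = ∑ i, μ i := by simpa using h2 1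
  rw [hg1, map_sum]
  refine Finset.sum_congr rfl fun i _ => hσ _ ?_
  obtain ⟨c, hc⟩ := hg
  rw [hc, pow_mul, h1 i, one_pow]

variable {G : Type u} [Group G] [Fintype G] {p : ℕ} [hp : Fact p.Prime]
  {P : Sylow p G} {u a : G} {H : Subgroup G} [Fintype H]

local notation "CP" => Subgroup.centralizer ((P : Subgroup G) : Set G)
local notation "NP" => Subgroup.normalizer ((P : Subgroup G) : Set G)

namespace Setting

variable (D : Setting P u a H)
include D

theorem card_centralizer : Nat.card CP = p * Nat.card H := by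
  haveI : Fintype CP := Fintype.ofFinite _
  have h := D.frame.sum_eq hp.out (fun _ => (1 : ℕ))
  simpa [Nat.card_eq_fintype_card] using h

theorem card_stab (θ : IrrCharacter H) :
    Nat.card (D.stab θ) = Nat.card CP * Nat.card (D.aut θ) := by
  classical
  haveI : Fintype (D.stab θ) := Fintype.ofFinite _
  haveI : Fintype (D.aut θ) := Fintype.ofFinite _
  have h := D.sum_stab θ fun _ => (1 : ℂ)
  simp only [Finset.sum_const, Finset.card_univ, nsmul_eq_mul, mul_one] at h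
  rw [D.card_centralizer, Nat.card_eq_fintype_card, Nat.card_eq_fintype_card,
    Nat.card_eq_fintype_card]
  exact_mod_cast h

theorem card_orbit (θ : IrrCharacter H) :
    Nat.card (D.orbit θ) * Nat.card (D.stab θ) = Nat.card NP := by
  classical
  haveI : Fintype NP := Fintype.ofFinite _
  let f : NP → D.orbit θ := fun n => ⟨H12.irrCongr (D.conjH n n.2) θ, n, n.2, rfl⟩
  haveI : Fintype (D.orbit θ) := Fintype.ofFinite _
  have hfib : ∀ o : D.orbit θ, Nat.card {n : NP // f n = o} = Nat.card (D.stab θ) := by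
    rintro ⟨o, n₀, hn₀, rfl⟩
    refine Nat.card_congr
      { toFun := fun n => ⟨(n.1 : G) * n₀⁻¹, ?_⟩
        invFun := fun s => ⟨⟨(s : G) * n₀, mul_mem s.2.1 hn₀⟩, ?_⟩
        left_inv := fun n => Subtype.ext (Subtype.ext (by simp))
        right_inv := fun s => Subtype.ext (by simp) }
    · refine ⟨mul_mem n.1.2 (inv_mem hn₀), fun h h' he => ?_⟩
      have h1 := congrFun (congrArg Subtype.val (congrArg Subtype.val n.2))
        ⟨n₀⁻¹ * h * n₀, by simpa using D.conj_mem (inv_mem hn₀) h.2⟩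
      simp only [f, H12.irrCongr_apply] at h1
      refine Eq.trans ?_ (h1.trans ?_)
      · exact congrArg _ (Subtype.ext (by rw [conjH_apply, he]; group))
      · exact congrArg _ (Subtype.ext (by rw [conjH_apply]; group))
    · refine Subtype.ext (Subtype.ext (funext fun h => ?_))
      simp only [f, H12.irrCongr_apply]
      exact s.2.2 _ _ (by simp only [conjH_apply]; group)
  rw [← Nat.card_congr (Equiv.sigmaFiberEquiv f), Nat.card_sigma,
    Finset.sum_congr rfl fun o _ => hfib o, Finset.sum_const, smul_eq_mul, Finset.card_univ,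
    Nat.card_eq_fintype_card]

theorem relIndex_stab (θ : IrrCharacter H) : (CP).relIndex (D.stab θ) = Nat.card (D.aut θ) := by
  have h := Subgroup.card_mul_index ((CP).subgroupOf (D.stab θ))
  rw [Nat.card_congr (Subgroup.subgroupOfEquivOfLe (D.centralizer_le_stab θ)).toEquiv,
    D.card_stab θ] at h
  exact Nat.eq_of_mul_eq_mul_left Nat.card_pos h

theorem relIndex_normalizer (θ : IrrCharacter H) :
    (CP).relIndex NP = Nat.card (D.orbit θ) * Nat.card (D.aut θ) := by
  have h := Subgroup.card_mul_index ((CP).subgroupOf NP)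
  rw [Nat.card_congr (Subgroup.subgroupOfEquivOfLe (Subgroup.centralizer_le_normalizer _)).toEquiv,
    ← D.card_orbit θ, D.card_stab θ] at h
  exact Nat.eq_of_mul_eq_mul_left Nat.card_pos (h.trans (by ring))

variable {M : Ideal AlgInt} [hMp : M.IsPrime]

open Classical in
theorem apply_eq_sum_orbit (hM : IsPModular p M) {θ : IrrCharacter H} {χ : IrrCharacter G}
    (hχ : χ ∈ D.supp θ) {x : G} (hx : x ∈ (P : Subgroup G)) (hx1 : x ≠ 1) (h : H) :
    (χ : G → ℂ) (x * h) = ∑ φ ∈ (D.orbit θ).toFinset, D.col φ χ x * (φ : H → ℂ) h := by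
  rw [D.apply_eq_sum_col χ hx h]
  refine (Finset.sum_subset (Finset.subset_univ _) fun φ _ hφ => ?_).symm
  rw [D.col_eq_zero_of_notMem hM hχ (fun h' => hφ (Set.mem_toFinset.2 h')) hx hx1, zero_mul]

theorem conj_mem_P {n : G} (hn : n ∈ NP) {x : G} (hx : x ∈ (P : Subgroup G)) (hx1 : x ≠ 1) :
    n * x * n⁻¹ ∈ (P : Subgroup G) ∧ n * x * n⁻¹ ≠ 1 :=
  ⟨(Subgroup.mem_normalizer_iff.1 hn x).1 hx, fun h1 =>
    hx1 (mul_left_cancel ((mul_inv_eq_one.1 h1).trans (mul_one n).symm))⟩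

/-- Degrees modulo `p`. -/
theorem degree_modEq (hM : IsPModular p M) {θ : IrrCharacter H} {χ : IrrCharacter G}
    (hχ : χ ∈ D.supp θ) {c : ℤ}
    (hc : ∀ x ∈ (P : Subgroup G), x ≠ 1 → MemLocalIdeal M (D.col θ χ x - (c : ℂ))) :
    (H12.degree (χ : G → ℂ) : ℤ) ≡
      c * (Nat.card (D.orbit θ) * H12.degree (θ : H → ℂ) : ℕ) [ZMOD p] := by
  classical
  have hu1 : u ≠ 1 := fun h => hp.out.ne_one (by rw [← D.frame.orderOf_u, h, orderOf_one])
  refine H20.PrimeSylow.degree_modEq hM χ D.u_mem ?_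
  have h1 := D.apply_eq_sum_orbit hM hχ D.u_mem hu1 (1 : H)
  rw [Subgroup.coe_one, mul_one] at h1
  have hcard : Nat.card (D.orbit θ) = (D.orbit θ).toFinset.card := Nat.card_eq_card_toFinset _
  rw [h1, show ((c * (Nat.card (D.orbit θ) * H12.degree (θ : H → ℂ) : ℕ) : ℤ) : ℂ) =
      ∑ φ ∈ (D.orbit θ).toFinset, (c : ℂ) * (H12.degree (θ : H → ℂ) : ℂ) by
    rw [Finset.sum_const, ← hcard, nsmul_eq_mul]; push_cast; ring, ← Finset.sum_sub_distrib]
  refine Finset.sum_induction _ (MemLocalIdeal M) (fun _ _ => H20.memIdeal_add) H20.memIdeal_zero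
    fun φ hφ => ?_
  obtain ⟨n, hn, rfl⟩ := Set.mem_toFinset.1 hφ
  obtain ⟨hx, hx1⟩ := D.conj_mem_P hn D.u_mem hu1
  rw [D.col_conj θ χ hn, H12.irrCongr_apply, map_one, H12.irr_apply_one, ← sub_mul, mul_comm]
  exact H20.memIdeal_mul (H20.memRing_natCast _) (hc _ hx hx1)

/-- Characters of the block are determined by the regular values and one column. -/
theorem eq_of_col (hM : IsPModular p M) {θ : IrrCharacter H} {χ η : IrrCharacter G}
    (hχ : χ ∈ D.supp θ) (hη : η ∈ D.supp θ)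
    (hreg : ∀ g : G, ¬ p ∣ orderOf g → (χ : G → ℂ) g = (η : G → ℂ) g)
    (hcol : ∀ x ∈ (P : Subgroup G), x ≠ 1 → D.col θ χ x = D.col θ η x) : χ = η := by
  classical
  refine Subtype.ext (funext fun g => ?_)
  by_cases hg : p ∣ orderOf g
  · obtain ⟨x, hx, hx1, h, hh, hconj⟩ := D.exists_isConj_singular hg
    rw [H12.IsClassFunction.of_isConj (H12.irr_isClassFunction χ) hconj,
      H12.IsClassFunction.of_isConj (H12.irr_isClassFunction η) hconj,
      D.apply_eq_sum_orbit hM hχ hx hx1 ⟨h, hh⟩, D.apply_eq_sum_orbit hM hη hx hx1 ⟨h, hh⟩]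
    refine Finset.sum_congr rfl fun φ hφ => ?_
    obtain ⟨n, hn, rfl⟩ := Set.mem_toFinset.1 hφ
    obtain ⟨hx', hx1'⟩ := D.conj_mem_P hn hx hx1
    rw [D.col_conj θ χ hn, D.col_conj θ η hn, hcol _ hx' hx1']
  · exact hreg g hg

theorem dvd_div_of_regular {g : G} (hg : ¬ p ∣ orderOf g) : orderOf g ∣ Nat.card G / p := by
  have hpG : p ∣ Nat.card G := by
    rw [← D.hP]; exact Subgroup.card_subgroup_dvd_card _
  refine (Nat.Coprime.dvd_mul_right ?_).1
    (show orderOf g ∣ Nat.card G / p * p by rw [Nat.div_mul_cancel hpG]; exact orderOf_dvd_natCard g)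
  exact (hp.out.coprime_iff_not_dvd.2 hg).symm

/-- A field automorphism fixing the `p'`-roots of unity acts on the columns. -/
theorem col_map (θ : IrrCharacter H) {χ η : IrrCharacter G} {σ : ℂ ≃+* ℂ}
    (hσ : ∀ z : ℂ, z ^ (Nat.card G / p) = 1 → σ z = z)
    (hη : (η : G → ℂ) = fun g => σ ((χ : G → ℂ) g)) (x : G) :
    D.col θ η x = σ (D.col θ χ x) := by
  rw [Setting.col, Setting.col, map_mul, map_inv₀, map_natCast, map_sum, hη]
  congr 1
  refine Finset.sum_congr rfl fun h _ => ?_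
  have hfix : σ (conj ((θ : H → ℂ) h)) = conj ((θ : H → ℂ) h) := by
    rw [← H12.irr_inv]
    refine map_apply_of_fixed (H12.isCharacter_irr θ) ?_ hσ
    rw [← Subgroup.orderOf_coe]
    exact D.dvd_div_of_regular (D.not_dvd_orderOf (h⁻¹).2)
  rw [map_mul, hfix]

theorem map_regular {σ : ℂ ≃+* ℂ} (hσ : ∀ z : ℂ, z ^ (Nat.card G / p) = 1 → σ z = z)
    (χ : IrrCharacter G) {g : G} (hg : ¬ p ∣ orderOf g) : σ ((χ : G → ℂ) g) = (χ : G → ℂ) g :=
  map_apply_of_fixed (H12.isCharacter_irr χ) (D.dvd_div_of_regular hg) hσ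

theorem exists_shape (hM : IsPModular p M) (θ : IrrCharacter H) [Fintype (P : Subgroup G)]
    [Fintype (D.aut θ)] :
    Nonempty (Shape p (D.aut θ) (fun (χ : IrrCharacter G) (x : (P : Subgroup G)) => D.col θ χ x)
      (fun (χ : IrrCharacter G) (g : {g : G // ¬ p ∣ orderOf g}) => (χ : G → ℂ) g)) :=
  (D.cols θ).exists_shape (D.bounded hM θ)

theorem union_eq_supp {θ : IrrCharacter H} [Fintype (P : Subgroup G)] [Fintype (D.aut θ)]
    (S : Shape p (D.aut θ) (fun (χ : IrrCharacter G) (x : (P : Subgroup G)) => D.col θ χ x)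
      (fun (χ : IrrCharacter G) (g : {g : G // ¬ p ∣ orderOf g}) => (χ : G → ℂ) g)) :
    S.X ∪ S.Y = D.supp θ :=
  Set.ext fun χ => S.supp χ

end Setting

/-- The field automorphism on an exceptional column. -/
theorem map_colY {A : Type*} [Group A] {T : Subgroup (MulAut A)} [Fintype T]
    {σ : ℂ ≃+* ℂ} {k : ℕ} (hσ : ∀ z : ℂ, z ^ p = 1 → σ z = z ^ k) (hA : Nat.card A = p) (ε : ℤ)
    (ψ : A →* ℂˣ) (x : A) :
    σ ((ε : ℂ) * ∑ a : T, (ψ ((a : MulAut A) x) : ℂ)) =
      (ε : ℂ) * ∑ a : T, ((ψ ^ k) ((a : MulAut A) x) : ℂ) := by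
  rw [map_mul, map_intCast, map_sum]
  congr 1
  refine Finset.sum_congr rfl fun a _ => ?_
  rw [hσ _ (by rw [← Units.val_pow_eq_pow_val, ← map_pow, ← hA, pow_card_eq_one', map_one,
    Units.val_one]), MonoidHom.pow_apply, Units.val_pow_eq_pow_val]

end H85.D1
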