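import Cfsg.Agent.H85.D1.LocalBlock
import Cfsg.Agent.H20.CharacterTwisted
import Cfsg.Agent.H25.ValueCongr

/-!
Defect one (helper85): the block determined by a character of the `p'`-part of the centralizer of
a Sylow subgroup of order `p`, its size and the shape of its characters.
-/

set_option autoImplicit false
set_option linter.style.haveILetI false
set_option linter.unusedSectionVars false

open Cfsg
open scoped ComplexConjugate

namespace H85.D1

universe u

variable {G : Type u} [Group G] [Fintype G] {p : ℕ} [hp : Fact p.Prime]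
  {P : Sylow p G} {u a : G} {H : Subgroup G} [Fintype H]

local notation "CP" => Subgroup.centralizer ((P : Subgroup G) : Set G)
local notation "NP" => Subgroup.normalizer ((P : Subgroup G) : Set G)

namespace Setting

variable (D : Setting P u a H)
include D

theorem centralizer_eq {x : G} (hx : x ∈ (P : Subgroup G)) (hx1 : x ≠ 1) {c : G}
    (hc : Commute c x) : c ∈ CP := by
  intro w hw
  have hw' : w ∈ Subgroup.zpowers x := by
    rw [H20.PrimeSylow.zpowers_eq D.hP hx hx1]; exact hw
  obtain ⟨i, rfl⟩ := Subgroup.mem_zpowers_iff.1 hw'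
  exact (hc.zpow_right i).eq.symm

theorem exists_isConj_singular {g : G} (hg : p ∣ orderOf g) :
    ∃ x ∈ (P : Subgroup G), x ≠ 1 ∧ ∃ h ∈ H, IsConj g (x * h) := by
  obtain ⟨x, hx, hc, hx1⟩ := H20.PrimeSylow.isConj_pPart (p := p) (P := P) g
  have hx1' : x ≠ 1 := hx1 fun h => (H20.pPart_eq_one_iff.1 h) hg
  obtain ⟨c, hc⟩ := isConj_iff.1 hc
  set h := c * H20.qPart p g * c⁻¹ with hh
  have hcomm : Commute h x := by
    rw [hh, ← hc]
    calc c * H20.qPart p g * c⁻¹ * (c * H20.pPart p g * c⁻¹)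
        = c * (H20.qPart p g * H20.pPart p g) * c⁻¹ := by group
      _ = c * (H20.pPart p g * H20.qPart p g) * c⁻¹ := by rw [(H20.commute_pPart_qPart g).eq]
      _ = _ := by group
  refine ⟨x, hx, hx1', h, D.mem_H (D.centralizer_eq hx hx1' hcomm) ?_, isConj_iff.2 ⟨c, ?_⟩⟩
  · rw [hh, H20.orderOf_conj']; exact H20.not_dvd_orderOf_qPart g
  · rw [hh, ← hc]
    conv_lhs => rw [← H20.pPart_mul_qPart (p := p) g]
    group

theorem factorization_card : (Nat.card G).factorization p = 1 :=
  (Nat.pow_right_injective hp.out.two_le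
    (show p ^ (Nat.card G).factorization p = p ^ 1 by rw [pow_one, ← P.card_eq_multiplicity, D.hP]))

variable {M : Ideal AlgInt} [hMp : M.IsPrime]

theorem blockDefect_le (B : Set (IrrCharacter G)) : blockDefect p B ≤ 1 :=
  (Nat.sub_le _ _).trans D.factorization_card.le

theorem blockDefect_of_mem_supp (hM : IsPModular p M) {φ : IrrCharacter H} {χ : IrrCharacter G}
    (hχ : χ ∈ D.supp φ) : blockDefect p (blockOf M (χ : G → ℂ)) = 1 := by
  refine le_antisymm (D.blockDefect_le _) (Nat.one_le_iff_ne_zero.2 fun h0 => ?_)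
  have hB := H20.singleton_of_defect_zero hM (H20.isPBlock_blockOf χ) h0 (H20.mem_blockOf_self χ)
  obtain ⟨x, hx, hne⟩ := hχ
  apply hne
  rw [Setting.col, Finset.sum_eq_zero fun h _ => ?_, mul_zero]
  rw [H20.vanish_of_singleton_block hM hB
    (D.dvd_orderOf_mul x.2 (fun h1 => hx (Subtype.ext h1)) h.2), zero_mul]

theorem exists_isConj_of_cenExp {g : G} (hg : ¬ p ∣ orderOf g)
    (hc : (Nat.card (Subgroup.centralizer ({g} : Set G))).factorization p = 1) :
    ∃ y : H, IsConj g y := by
  set C := Subgroup.centralizer ({g} : Set G)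
  have hd : p ∣ Nat.card C := Nat.dvd_of_factorization_pos (by rw [hc]; omega)
  obtain ⟨z, hz⟩ := exists_prime_orderOf_dvd_card' p hd
  have hzG : orderOf (z : G) = p := by rw [Subgroup.orderOf_coe, hz]
  obtain ⟨x, hx, hconj⟩ := H20.FreeSylow.exists_isConj_mem (P := P) (y := (z : G))
    ⟨1, by rw [hzG, pow_one]⟩
  obtain ⟨c, hc'⟩ := isConj_iff.1 hconj
  have hx1 : x ≠ 1 := fun h1 => by
    rw [← hc', mul_inv_eq_one] at h1
    have h2 : (z : G) = 1 := mul_left_cancel (h1.trans (mul_one c).symm)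
    rw [h2, orderOf_one] at hzG
    exact hp.out.ne_one hzG.symm
  have hcomm : Commute (c * g * c⁻¹) x := by
    have h1 : Commute (z : G) g := Subgroup.mem_centralizer_singleton_iff.1 z.2
    rw [← hc']
    calc c * g * c⁻¹ * (c * z * c⁻¹) = c * (g * z) * c⁻¹ := by group
      _ = c * (z * g) * c⁻¹ := by rw [h1.eq]
      _ = _ := by group
  exact ⟨⟨c * g * c⁻¹, D.mem_H (D.centralizer_eq hx hx1 hcomm)
    (by rw [H20.orderOf_conj']; exact hg)⟩, isConj_iff.2 ⟨c, rfl⟩⟩

theorem centralChar_of_isConj (χ : IrrCharacter G) {x y : G} (h : IsConj x y) :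
    centralChar (χ : G → ℂ) x = centralChar (χ : G → ℂ) y := by
  rw [← H20.omega_clSum, ← H20.omega_clSum]
  congr 1
  classical
  ext z
  rw [H20.coeff_clSum, H20.coeff_clSum]
  by_cases h' : IsConj x z
  · rw [if_pos h', if_pos (h.symm.trans h')]
  · rw [if_neg h', if_neg fun h'' => h' (h.trans h'')]

/-- Characters with nonzero column lie in one block. -/
theorem sameBlock_of_mem_supp (hM : IsPModular p M) {φ : IrrCharacter H} {χ η : IrrCharacter G}
    (hχ : χ ∈ D.supp φ) (hη : η ∈ D.supp φ) : SameBlock M (χ : G → ℂ) (η : G → ℂ) := by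
  refine H22.sameBlock_of_agree hM (D.blockDefect_of_mem_supp hM hχ)
    (D.blockDefect_of_mem_supp hM hη) fun g hg hgd => ?_
  obtain ⟨y, hy⟩ := D.exists_isConj_of_cenExp hg hgd
  rw [D.centralChar_of_isConj χ hy, D.centralChar_of_isConj η hy]
  have h := H20.memIdeal_add (D.centralChar_congr hM φ hχ y)
    (H20.memIdeal_mul (H20.memRing_neg (H20.O M).one_mem) (D.centralChar_congr hM φ hη y))
  ring_nf at h ⊢
  exact h

/-- The orbit of a character under the normalizer. -/
def orbit (φ : IrrCharacter H) : Set (IrrCharacter H) :=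
  {ψ | ∃ n, ∃ hn : n ∈ NP, H12.irrCongr (D.conjH n hn) φ = ψ}

theorem mem_orbit_self (φ : IrrCharacter H) : φ ∈ D.orbit φ :=
  ⟨1, one_mem _, (D.irrCongr_eq_iff φ (one_mem _)).2 (one_mem _)⟩

theorem orbit_congr (φ : IrrCharacter H) {n : G} (hn : n ∈ NP) (ψ : IrrCharacter H) :
    H12.irrCongr (D.conjH n hn) ψ ∈ D.orbit φ ↔ ψ ∈ D.orbit φ := by
  have key : ∀ {m : G} (hm : m ∈ NP) (θ : IrrCharacter H), θ ∈ D.orbit φ →
      H12.irrCongr (D.conjH m hm) θ ∈ D.orbit φ := by
    rintro m hm θ ⟨k, hk, rfl⟩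
    refine ⟨k * m, mul_mem hk hm, Subtype.ext (funext fun h => ?_)⟩
    simp only [H12.irrCongr_apply]
    refine congrArg _ (Subtype.ext ?_)
    simp only [conjH_apply]
    group
  refine ⟨fun h => ?_, key hn ψ⟩
  have h2 := key (inv_mem hn) _ h
  convert h2 using 1
  refine Subtype.ext (funext fun h => ?_)
  simp only [H12.irrCongr_apply]
  refine congrArg _ (Subtype.ext ?_)
  simp only [conjH_apply]
  group

theorem supp_congr (φ : IrrCharacter H) {n : G} (hn : n ∈ NP) :
    D.supp (H12.irrCongr (D.conjH n hn) φ) = D.supp φ := by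
  ext χ
  constructor
  · rintro ⟨x, hx, hne⟩
    refine ⟨⟨n * x * n⁻¹, (Subgroup.mem_normalizer_iff.1 hn x).1 x.2⟩, fun h1 => hx ?_, ?_⟩
    · have h2 : n * (x : G) * n⁻¹ = 1 := congrArg Subtype.val h1
      exact Subtype.ext (mul_left_cancel ((mul_inv_eq_one.1 h2).trans (mul_one n).symm))
    · rwa [← D.col_conj φ χ hn]
  · rintro ⟨x, hx, hne⟩
    refine ⟨⟨n⁻¹ * x * n, (Subgroup.mem_normalizer_iff''.1 hn x).1 x.2⟩, fun h1 => hx ?_, ?_⟩
    · have h2 : n⁻¹ * (x : G) * n = 1 := congrArg Subtype.val h1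
      rw [mul_assoc, inv_mul_eq_one] at h2
      exact Subtype.ext (mul_right_cancel (h2.symm.trans (one_mul n).symm))
    · rw [D.col_conj φ χ hn]
      simpa [mul_assoc] using hne

/-- Characters of `H` with congruent induced central characters are conjugate. -/
theorem mem_orbit_of_congr (hM : IsPModular p M) {φ θ : IrrCharacter H}
    (h : ∀ y : H, MemLocalIdeal M
      (H20.omega (φ : H → ℂ) (D.clH y) - H20.omega (θ : H → ℂ) (D.clH y))) :
    φ ∈ D.orbit θ := by
  classical
  by_contra hne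
  haveI : Fintype (ConjClasses G) := Fintype.ofFinite _
  set O := D.orbit θ with hO
  set e := H20.eIdem O with he
  have heinv : ∀ (n : G) (hn : n ∈ NP) (k : H), e.coeff (D.conjH n hn k) = e.coeff k := by
    intro n hn k
    rw [he, H20.eIdem, H20.coeff_ofFun, H20.coeff_ofFun, H20.blockCoeff_eq_sum,
      H20.blockCoeff_eq_sum]
    congr 1
    refine Fintype.sum_equiv (H12.irrCongr (D.conjH n hn)) _ _ fun ψ => ?_
    rw [if_congr (D.orbit_congr θ hn ψ).symm rfl rfl]
    simp only [H12.irrCongr_apply, map_one, hO]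
  let c : ConjClasses G → ℂ := fun C =>
    if hC : ∃ k : H, ConjClasses.mk (k : G) = C then e.coeff hC.choose else 0
  have hc : ∀ C, MemLocalRing M (c C) := by
    intro C
    simp only [c]
    split_ifs
    · rw [he, H20.eIdem, H20.coeff_ofFun, H20.blockCoeff_eq_sum]
      refine H20.memRing_mul ?_ (H20.memRing_sum _ _ fun ψ _ => ?_)
      · exact H20.inv_natCast_memRing hM D.frame.card_H
      · split_ifs
        · exact H20.memRing_mul (H20.memRing_of_isIntegral (D.isIntegral_irr ψ _))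
            (H20.memRing_of_isIntegral (H20.isIntegral_conj (D.isIntegral_irr ψ _)))
        · exact (H20.O M).zero_mem
    · exact (H20.O M).zero_mem
  have hsum : e = ∑ C : ConjClasses G, c C • D.clH C.out := by
    ext k
    simp only [MonoidAlgebra.coeff_sum, Finsupp.coe_finset_sum, Finset.sum_apply,
      MonoidAlgebra.coeff_smul, Finsupp.smul_apply, D.coeff_clH, smul_eq_mul, mul_ite, mul_one,
      mul_zero]
    rw [Finset.sum_eq_single (ConjClasses.mk (k : G))]
    · rw [if_pos (ConjClasses.mk_eq_mk_iff_isConj.1 (Quotient.out_eq _))]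
      have hC : ∃ l : H, ConjClasses.mk (l : G) = ConjClasses.mk (k : G) := ⟨k, rfl⟩
      simp only [c, dif_pos hC]
      obtain ⟨n, hn, hnk⟩ := D.fusion (ConjClasses.mk_eq_mk_iff_isConj.1 hC.choose_spec)
      rw [← heinv n hn hC.choose]
      congr 1
      exact Subtype.ext hnk.symm
    · intro C _ hC
      rw [if_neg]
      intro h'
      exact hC (by rw [← ConjClasses.mk_eq_mk_iff_isConj.2 h']; exact (Quotient.out_eq C).symm)
    · simp
  have hω : ∀ ψ : IrrCharacter H, H20.omega (ψ : H → ℂ) e =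
      ∑ C : ConjClasses G, c C * H20.omega (ψ : H → ℂ) (D.clH C.out) := fun ψ => by
    rw [hsum, H20.omega_sum]
    simp only [H20.omega_smul]
  have h0 : MemLocalIdeal M (H20.omega (φ : H → ℂ) e - H20.omega (θ : H → ℂ) e) := by
    rw [hω, hω, ← Finset.sum_sub_distrib]
    refine Finset.sum_induction _ (MemLocalIdeal M) (fun _ _ => H20.memIdeal_add) H20.memIdeal_zero
      fun C _ => ?_
    by_cases hC : ∃ k : H, ConjClasses.mk (k : G) = C
    · obtain ⟨k, hk⟩ := hC
      rw [← mul_sub]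
      refine H20.memIdeal_mul (hc C) ?_
      have hcl : D.clH C.out = D.clH k := by
        ext l
        rw [D.coeff_clH, D.coeff_clH]
        have : IsConj C.out (k : G) :=
          ConjClasses.mk_eq_mk_iff_isConj.1 ((Quotient.out_eq C).trans hk.symm)
        exact if_congr ⟨fun h' => this.symm.trans h', fun h' => this.trans h'⟩ rfl rfl
      rw [hcl]
      exact h k
    · have : c C = 0 := dif_neg hC
      rw [this, zero_mul, zero_mul, sub_self]
      exact H20.memIdeal_zero
  rw [he, H20.omega_eIdem, H20.omega_eIdem, if_neg hne, if_pos (D.mem_orbit_self θ), zero_sub] at h0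
  have := H20.memIdeal_mul (H20.memRing_neg (H20.O M).one_mem) h0
  rw [neg_one_mul, neg_neg] at this
  exact H20.not_memIdeal_one this

theorem orbit_of_mem_supp (hM : IsPModular p M) {φ θ : IrrCharacter H} {χ : IrrCharacter G}
    (hφ : χ ∈ D.supp φ) (hθ : χ ∈ D.supp θ) : φ ∈ D.orbit θ :=
  D.mem_orbit_of_congr hM fun y => by
    have h := H20.memIdeal_add (D.centralChar_congr hM θ hθ y)
      (H20.memIdeal_mul (H20.memRing_neg (H20.O M).one_mem) (D.centralChar_congr hM φ hφ y))
    ring_nf at h ⊢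
    exact h

theorem col_eq_zero_of_notMem (hM : IsPModular p M) {φ θ : IrrCharacter H} {χ : IrrCharacter G}
    (hθ : χ ∈ D.supp θ) (hφ : φ ∉ D.orbit θ) {x : G} (hx : x ∈ (P : Subgroup G)) (hx1 : x ≠ 1) :
    D.col φ χ x = 0 := by
  by_contra hne
  exact hφ (D.orbit_of_mem_supp hM ⟨⟨x, hx⟩, fun h => hx1 (congrArg Subtype.val h), hne⟩ hθ)

theorem exists_mem_supp (hM : IsPModular p M) {χ : IrrCharacter G}
    (hd : 0 < blockDefect p (blockOf M (χ : G → ℂ))) : ∃ φ, χ ∈ D.supp φ := by
  classical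
  by_contra hall
  simp only [not_exists] at hall
  haveI : Fintype (P : Subgroup G) := Fintype.ofFinite _
  have hvan : ∀ x : (P : Subgroup G), x ≠ 1 → (χ : G → ℂ) x = 0 := by
    intro x hx
    have h1 := D.apply_eq_sum_col χ x.2 (1 : H)
    rw [Subgroup.coe_one, mul_one] at h1
    rw [h1]
    refine Finset.sum_eq_zero fun φ _ => ?_
    have : D.col φ χ x = 0 := by
      by_contra hne
      exact hall φ ⟨x, hx, hne⟩
    rw [this, zero_mul]
  obtain ⟨m, hm⟩ := H12.IsCharacter.classInner_nat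
    (H12.IsCharacter.res (H12.isCharacter_irr χ) (P : Subgroup G))
    (H12.isCharacter_monoidHom (1 : (P : Subgroup G) →* ℂˣ))
  rw [H12.classInner_def, Finset.sum_eq_single (1 : (P : Subgroup G))
    (fun x _ hx => by rw [hvan x hx, zero_mul]) (by simp)] at hm
  simp only [OneMemClass.coe_one, Units.val_one, map_one, mul_one, H12.irr_apply_one, D.hP] at hm
  have hdiv : p ∣ H12.degree (χ : G → ℂ) := by
    refine ⟨m, ?_⟩
    have h1 : (H12.degree (χ : G → ℂ) : ℂ) = (p : ℂ) * m := by
      rw [← hm, ← mul_assoc, mul_inv_cancel₀ (Nat.cast_ne_zero.2 hp.out.ne_zero), one_mul]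
    exact_mod_cast h1
  have hsing : blockOf M (χ : G → ℂ) = {χ} := by
    refine (H20.blockOf_eq_singleton_iff hM χ).1 fun hd' => ?_
    rw [H20.charDegree_eq_degree] at hd'
    have h1 : p ^ 2 ∣ Nat.card G := by
      rw [pow_two]
      exact (mul_dvd_mul hdiv dvd_rfl).trans
        (Nat.mul_dvd_of_dvd_div (H12.irr_degree_dvd_card χ) hd')
    rw [hp.out.pow_dvd_iff_le_factorization Nat.card_pos.ne', D.factorization_card] at h1
    omega
  rw [blockDefect, hsing, Set.image_singleton, csInf_singleton, D.factorization_card,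
    H20.charDegree_eq_degree] at hd
  have := Nat.Prime.factorization_pos_of_dvd hp.out (H12.irr_degree_pos χ).ne' hdiv
  omega

/-- The block of a character with nonzero column. -/
theorem block_eq_supp (hM : IsPModular p M) {B : Set (IrrCharacter G)} (hB : IsPBlock M B)
    {θ : IrrCharacter H} {χ₀ : IrrCharacter G} (h₀ : χ₀ ∈ B) (h₀' : χ₀ ∈ D.supp θ) :
    B = D.supp θ := by
  have hsub : ∀ χ, χ ∈ D.supp θ → χ ∈ B := fun χ hχ =>
    (H20.mem_block_iff hB h₀ χ).2 (D.sameBlock_of_mem_supp hM h₀' hχ)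
  refine Set.Subset.antisymm (fun χ hχ => ?_) hsub
  have hd : blockDefect p B = 1 := by
    rw [H20.block_eq_blockOf hB h₀]; exact D.blockDefect_of_mem_supp hM h₀'
  obtain ⟨φ, hφ⟩ := D.exists_mem_supp hM (χ := χ) (by rw [← H20.block_eq_blockOf hB hχ, hd]; omega)
  obtain ⟨n, hn, rfl⟩ : φ ∈ D.orbit θ := D.mem_orbit_of_congr hM fun y => by
    have hs : MemLocalIdeal M (centralChar (χ₀ : G → ℂ) y - centralChar (χ : G → ℂ) y) :=
      (H20.mem_block_iff hB h₀ χ).1 hχ y
    have h := H20.memIdeal_add (H20.memIdeal_add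
      (H20.memIdeal_mul (H20.memRing_neg (H20.O M).one_mem) hs) (D.centralChar_congr hM θ h₀' y))
      (H20.memIdeal_mul (H20.memRing_neg (H20.O M).one_mem) (D.centralChar_congr hM φ hφ y))
    ring_nf at h ⊢
    exact h
  rwa [D.supp_congr θ hn] at hφ

theorem bounded (hM : IsPModular p M) (θ : IrrCharacter H) :
    Bounded p (fun (χ : IrrCharacter G) (x : (P : Subgroup G)) => D.col θ χ x)
      (fun (χ : IrrCharacter G) (g : {g : G // ¬ p ∣ orderOf g}) => (χ : G → ℂ) g) := by
  classical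
  intro S hS0 hSp hsupp hreg s hs
  have hregv : ∀ χ ∈ S, ∀ η ∈ S, ∀ g : G, ¬ p ∣ orderOf g → (χ : G → ℂ) g = (η : G → ℂ) g :=
    fun χ hχ η hη g hg => congrFun (hreg χ hχ η hη) ⟨g, hg⟩
  obtain ⟨χ₀, hχ₀⟩ := id hS0
  -- the frame of the stabilizer
  haveI : IsCyclic (P : Subgroup G) := isCyclic_of_prime_card D.hP
  haveI : IsCyclic (MulAut (P : Subgroup G)) := by
    haveI : NeZero (Nat.card (P : Subgroup G)) := ⟨Nat.card_pos.ne'⟩
    haveI : IsCyclic (ZMod (Nat.card (P : Subgroup G)))ˣ := by rw [D.hP]; infer_instance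
    exact isCyclic_of_surjective _
      (IsCyclic.mulAutMulEquiv (P : Subgroup G)).symm.surjective
  obtain ⟨gen, hgen⟩ := IsCyclic.exists_generator (α := D.aut θ)
  obtain ⟨⟨t, htN⟩, ht, hta⟩ := gen.2
  have hcardA : Nat.card (MulAut (P : Subgroup G)) = p - 1 := by
    rw [Nat.card_congr (IsCyclic.mulAutMulEquiv (P : Subgroup G)).toEquiv, D.hP,
      Nat.card_eq_fintype_card, ZMod.card_units]
  have hker : ∀ n : NP, (P : Subgroup G).normalizerMonoidHom n = 1 → (n : G) ∈ CP := fun n hn => by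
    have h1 : n ∈ (P : Subgroup G).normalizerMonoidHom.ker := hn
    rw [Subgroup.normalizerMonoidHom_ker] at h1
    exact h1
  have hu1 : u ≠ 1 := fun h => hp.out.ne_one (by rw [← D.frame.orderOf_u, h, orderOf_one])
  have hTF : H20.Stable.TFrame p u t CP (D.stab θ) NP :=
    { orderOf_u := D.frame.orderOf_u
      mem_N := fun g => by
        rw [D.zpowers_u]
        refine ⟨fun hg => (Subgroup.mem_normalizer_iff''.1 hg u).1 D.u_mem, fun hg => ?_⟩
        have h1 : g⁻¹ ∈ NP := D.mem_normalizer D.u_mem hu1 hg (by rw [inv_inv])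
        simpa using inv_mem h1
      u_mem := D.P_le D.u_mem
      C_le := D.centralizer_le_stab θ
      T_le := fun n hn => hn.1
      a_mem := ht
      a_pow := by
        have h1 : (P : Subgroup G).normalizerMonoidHom (⟨t, htN⟩ ^ (p - 1)) = 1 := by
          rw [map_pow, ← hcardA, pow_card_eq_one']
        exact hker _ h1
      gen := fun n hn => by
        obtain ⟨i, hi⟩ := (isOfFinOrder_of_finite gen).mem_powers_iff_mem_zpowers.2
          (hgen ⟨(P : Subgroup G).normalizerMonoidHom ⟨n, hn.1⟩, ⟨⟨n, hn.1⟩, hn, rfl⟩⟩)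
        refine ⟨i, (t ^ i)⁻¹ * n, ?_, by group⟩
        have h1 : (P : Subgroup G).normalizerMonoidHom ⟨t, htN⟩ ^ i =
            (P : Subgroup G).normalizerMonoidHom ⟨n, hn.1⟩ := by
          rw [hta]; exact congrArg Subtype.val hi
        have := hker ((⟨t, htN⟩ ^ i)⁻¹ * ⟨n, hn.1⟩)
          (by rw [map_mul, map_inv, map_pow, h1, inv_mul_cancel])
        simpa using this
      index := by
        rw [D.zpowers_u]
        intro hd
        exact P.not_dvd_index (hd.trans (Dvd.intro _
          (Subgroup.relIndex_mul_index ((D.P_le).trans (D.centralizer_le_stab θ))))) }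
  have hsingval : ∀ χ ∈ S, ∀ x ∈ (P : Subgroup G), x ≠ 1 → ∀ h : H, (χ : G → ℂ) (x * h) =
      ∑ φ ∈ (D.orbit θ).toFinset, D.col φ χ x * (φ : H → ℂ) h := by
    intro χ hχ x hx hx1 h
    rw [D.apply_eq_sum_col χ hx h]
    refine (Finset.sum_subset (Finset.subset_univ _) fun φ _ hφ => ?_).symm
    rw [D.col_eq_zero_of_notMem hM (hsupp χ hχ) (fun h' => hφ (Set.mem_toFinset.2 h')) hx hx1,
      zero_mul]
  refine H20.Twisted.character_bound hM hTF D.frame.card_H D.frame.comm D.frame.decomp
    (fun g hg h hh => D.conj_mem hg hh) θ (fun g hg h => hg.2 h _ rfl) (fun g hg hgT => ?_) S hS0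
    hSp (d := H12.degree (χ₀ : G → ℂ)) (fun χ hχ => ?_) (fun χ hχ η hη g => ?_) (fun g => ?_) s
    (fun j hj => ?_)
  · by_contra hall
    simp only [not_exists, not_not] at hall
    exact hgT ⟨hg, fun h h' he => by
      rw [show h' = H20.Twisted.conjH (fun g hg h hh => D.conj_mem hg hh) hg h from Subtype.ext he]
      exact hall h⟩
  · have h1 := hregv χ hχ χ₀ hχ₀ 1 (by simp [hp.out.ne_one])
    rw [H12.irr_apply_one, H12.irr_apply_one] at h1
    exact_mod_cast h1
  · have h2 := H20.memIdeal_add (H25.memIdeal_apply_sub_qPart hM (H12.isCharacter_irr χ) g)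
      (H20.memIdeal_mul (H20.memRing_neg (H20.O M).one_mem)
        (H25.memIdeal_apply_sub_qPart hM (H12.isCharacter_irr η) g))
    rw [hregv χ hχ η hη _ (H20.not_dvd_orderOf_qPart g)] at h2
    ring_nf at h2 ⊢
    exact h2
  · by_cases hg : p ∣ orderOf g
    · obtain ⟨x, hx, hx1, h, hh, hconj⟩ := D.exists_isConj_singular hg
      rw [Finset.sum_congr rfl (g := fun χ : IrrCharacter G =>
        ∑ φ ∈ (D.orbit θ).toFinset, D.col φ χ x * (φ : H → ℂ) ⟨h, hh⟩) fun χ hχ => by
          rw [H12.IsClassFunction.of_isConj (H12.irr_isClassFunction χ) hconj,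
            ← hsingval χ hχ x hx hx1 ⟨h, hh⟩], Finset.sum_comm]
      refine (H20.Rr p).sum_mem fun φ hφ => ?_
      obtain ⟨n, hn, rfl⟩ := Set.mem_toFinset.1 hφ
      have hx' : n * x * n⁻¹ ∈ (P : Subgroup G) := (Subgroup.mem_normalizer_iff.1 hn x).1 hx
      have hsn := hs ⟨_, hx'⟩ fun h1 => hx1 (by
        have h2 : n * x * n⁻¹ = 1 := congrArg Subtype.val h1
        exact mul_left_cancel ((mul_inv_eq_one.1 h2).trans (mul_one n).symm))
      rw [← Finset.sum_mul, Finset.sum_congr rfl fun χ _ => D.col_conj θ χ hn x]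
      rw [show ∑ χ ∈ S, D.col θ χ (n * x * n⁻¹) = (s : ℂ) from hsn]
      exact mul_mem (intCast_mem _ _)
        (H20.PrimeSylow.apply_mem_Rr _ (by
          rw [← Subgroup.orderOf_coe]; exact D.not_dvd_orderOf hh))
    · exact (H20.Rr p).sum_mem fun χ _ => H20.PrimeSylow.apply_mem_Rr χ hg
  · have hne : u ^ j ≠ 1 := fun h1 =>
      hj (by rw [← D.frame.orderOf_u]; exact orderOf_dvd_of_pow_eq_one h1)
    have hsn := hs ⟨u ^ j, (P : Subgroup G).pow_mem D.u_mem j⟩
      fun h1 => hne (congrArg Subtype.val h1)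
    rw [← hsn, Finset.mul_sum]
    simp only [Setting.col, Finset.mul_sum]
    rw [Finset.sum_comm]
    refine Finset.sum_congr rfl fun χ _ => Finset.sum_congr rfl fun h _ => ?_
    rw [← H20.conj_irr_eq, Nat.card_eq_fintype_card,
      mul_inv_cancel_left₀ (Nat.cast_ne_zero.2 Fintype.card_ne_zero)]
    ring

end Setting

end H85.D1
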