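import Cfsg.Agent.H85.D1.BlockMain

/-!
Defect one (helper85): translation to characters of the centralizer and to blocks.
-/

set_option autoImplicit false
set_option linter.style.haveILetI false
set_option linter.unusedSectionVars false

open Cfsg
open scoped ComplexConjugate

namespace H85.D1

universe u

variable {G : Type u} [Group G] [Fintype G] {p : ℕ} [hp : Fact p.Prime]
  {P : Sylow p G} {u a : G} {H : Subgroup G} [Fintype H]

local notation "CP" => Subgroup.centralizer ((P : Subgroup G) : Set G)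
local notation "NP" => Subgroup.normalizer ((P : Subgroup G) : Set G)

namespace Setting

variable (D : Setting P u a H)
include D

/-- The inclusion of `H` in the centralizer. -/
theorem exists_restrict (θ : IrrCharacter CP)
    (hθP : ∀ x : CP, (x : G) ∈ (P : Subgroup G) → (θ : CP → ℂ) x = (θ : CP → ℂ) 1) :
    ∃ φ : IrrCharacter H,
      (∀ h : H, (φ : H → ℂ) h = (θ : CP → ℂ) (Subgroup.inclusion D.frame.H_le h)) ∧
      (∀ (x : G) (hx : x ∈ (P : Subgroup G)) (h : H) (hxh : x * h ∈ CP),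
        (θ : CP → ℂ) ⟨x * h, hxh⟩ = (φ : H → ℂ) h) := by
  classical
  haveI : Fintype CP := Fintype.ofFinite _
  set f : H → ℂ := fun h => (θ : CP → ℂ) (Subgroup.inclusion D.frame.H_le h) with hf
  have hker : ∀ (x : G) (hx : x ∈ (P : Subgroup G)) (h : H) (hxh : x * h ∈ CP),
      (θ : CP → ℂ) ⟨x * h, hxh⟩ = f h := fun x hx h hxh =>
    H12.IsCharacter.mul_left_of_eq_degree (H12.isCharacter_irr θ)
      (hθP ⟨x, D.P_le hx⟩ hx) (Subgroup.inclusion D.frame.H_le h)
  have hfc : IsCharacter H f :=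
    H12.IsCharacter.comp (H12.isCharacter_irr θ) (Subgroup.inclusion D.frame.H_le)
  have hnorm : classInner f f = 1 := by
    have h1 := H12.classInner_irr_self θ
    have hcard := D.card_centralizer
    rw [H12.classInner_def] at h1 ⊢
    rw [hcard] at h1
    let F : G → ℂ := fun g =>
      if hg : g ∈ CP then (θ : CP → ℂ) ⟨g, hg⟩ * conj ((θ : CP → ℂ) ⟨g, hg⟩) else 0
    have h2 : ∑ c : CP, (θ : CP → ℂ) c * conj ((θ : CP → ℂ) c) =
        (p : ℂ) * ∑ h : H, f h * conj (f h) := by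
      rw [Finset.sum_congr rfl (g := fun c : CP => F c) (fun c _ => by
        simp only [F]; rw [dif_pos c.2]), D.frame.sum_eq hp.out F,
        Finset.sum_congr rfl (g := fun _ => ∑ h : H, f h * conj (f h)) fun j _ =>
          Finset.sum_congr rfl fun h _ => by
            have hmem : u ^ j * (h : G) ∈ CP :=
              (CP).mul_mem (D.P_le ((P : Subgroup G).pow_mem D.u_mem j)) (D.frame.H_le h.2)
            simp only [F]
            rw [dif_pos hmem, hker _ ((P : Subgroup G).pow_mem D.u_mem j) h hmem],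
        Finset.sum_const, Finset.card_range, nsmul_eq_mul]
    rw [h2, Nat.cast_mul, mul_inv, mul_assoc, mul_left_comm (Nat.card H : ℂ)⁻¹, ← mul_assoc,
      inv_mul_cancel₀ (Nat.cast_ne_zero.2 hp.out.ne_zero), one_mul] at h1
    exact h1
  exact ⟨⟨f, H12.isIrrCharacter_of_classInner_self_eq_one hfc hnorm⟩, fun h => rfl, hker⟩

theorem stab_iff (θ : IrrCharacter CP) {φ : IrrCharacter H}
    (hφ : ∀ (x : G) (hx : x ∈ (P : Subgroup G)) (h : H) (hxh : x * h ∈ CP),
        (θ : CP → ℂ) ⟨x * h, hxh⟩ = (φ : H → ℂ) h) (g : G) :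
    g ∈ D.stab φ ↔ g ∈ NP ∧ ∀ c c' : CP, (c' : G) = g * c * g⁻¹ →
      (θ : CP → ℂ) c' = (θ : CP → ℂ) c := by
  constructor
  · intro hg
    refine ⟨hg.1, fun c c' he => ?_⟩
    obtain ⟨x, hx, h, hh, hc⟩ := D.exists_mul c.2
    have hx' : g * x * g⁻¹ ∈ (P : Subgroup G) := (Subgroup.mem_normalizer_iff.1 hg.1 x).1 hx
    have hc' : (c' : G) = (g * x * g⁻¹) * (⟨_, D.conj_mem hg.1 hh⟩ : H) := by
      rw [he, hc]; group
    rw [show c = ⟨x * (⟨h, hh⟩ : H), hc ▸ c.2⟩ from Subtype.ext hc, hφ x hx,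
      show c' = ⟨_, hc' ▸ c'.2⟩ from Subtype.ext hc', hφ _ hx']
    exact hg.2 _ _ rfl
  · rintro ⟨hgN, hg⟩
    refine ⟨hgN, fun h h' he => ?_⟩
    have hm : ∀ k : H, (1 : G) * (k : G) ∈ CP := fun k => by rw [one_mul]; exact D.frame.H_le k.2
    rw [← hφ 1 (one_mem _) h (hm h), ← hφ 1 (one_mem _) h' (hm h')]
    exact hg _ _ (by simp [he])

variable {M : Ideal AlgInt} [hMp : M.IsPrime]

theorem inducedCentralChar_eq (θ : IrrCharacter CP) {φ : IrrCharacter H}
    (hφ : ∀ h : H, (φ : H → ℂ) h = (θ : CP → ℂ) (Subgroup.inclusion D.frame.H_le h)) (y : H) :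
    inducedCentralChar CP (θ : CP → ℂ) (y : G) = H20.omega (φ : H → ℂ) (D.clH y) := by
  classical
  haveI : Fintype CP := Fintype.ofFinite _
  rw [inducedCentralChar, D.omega_clH, Finset.sum_div, finsum_mem_eq_toFinset_sum,
    ← Finset.sum_filter_ne_zero (s := (Finset.univ : Finset H)),
    Finset.sum_filter_ne_zero (s := (Finset.univ : Finset H))]
  rw [show ∑ k : H, (if IsConj (y : G) (k : G) then (φ : H → ℂ) k else 0) / (φ : H → ℂ) 1 =
    ∑ k ∈ Finset.univ.filter (fun k : H => IsConj (y : G) (k : G)),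
      (φ : H → ℂ) k / (φ : H → ℂ) 1 by
      rw [Finset.sum_filter]; exact Finset.sum_congr rfl fun k _ => by split_ifs <;> simp]
  have hreg : ∀ c : CP, IsConj (y : G) (c : G) → (c : G) ∈ H := fun c hc => by
    refine D.mem_H c.2 ?_
    obtain ⟨t, ht⟩ := isConj_iff.1 hc
    rw [← ht, H20.orderOf_conj']
    exact D.not_dvd_orderOf y.2
  symm
  refine Finset.sum_bij (fun k _ => Subgroup.inclusion D.frame.H_le k) ?_ ?_ ?_ ?_
  · intro k hk
    rw [Set.mem_toFinset]
    exact (Finset.mem_filter.1 hk).2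
  · intro k _ l _ hkl
    exact Subgroup.inclusion_injective D.frame.H_le hkl
  · intro c hc
    rw [Set.mem_toFinset] at hc
    exact ⟨⟨c, hreg c hc⟩, Finset.mem_filter.2 ⟨Finset.mem_univ _, hc⟩, rfl⟩
  · intro k _
    rw [hφ, hφ, map_one]

theorem blockDefect_pos (hM : IsPModular p M) {B : Set (IrrCharacter G)} (hB : IsPBlock M B)
    (hBP : Cfsg.IsDefectGroup p M B P) : 0 < blockDefect p B := by
  obtain ⟨g, hg, Q, hQ⟩ := hBP
  rw [H20.blockDefect_eq hM hB hg]
  by_contra h0
  have h1 : Nat.card (P : Subgroup G) = 1 := by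
    rw [hQ, Subgroup.card_map_of_injective (Subgroup.subtype_injective _), Q.card_eq_multiplicity,
      Nat.eq_zero_of_not_pos h0, pow_zero]
  exact hp.out.ne_one (D.hP.symm.trans h1)

/-- The block of a character of the centralizer. -/
theorem block_eq_supp_of_induced (hM : IsPModular p M) {B : Set (IrrCharacter G)}
    (hB : IsPBlock M B) (hd : 0 < blockDefect p B) {b : Set (IrrCharacter CP)}
    (hind : IsInducedBlock M CP b B) {θ : IrrCharacter CP} (hθ : θ ∈ b) {φ : IrrCharacter H}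
    (hφ : ∀ h : H, (φ : H → ℂ) h = (θ : CP → ℂ) (Subgroup.inclusion D.frame.H_le h)) :
    B = D.supp φ := by
  obtain ⟨χ, hχ⟩ := H20.block_nonempty hB
  obtain ⟨ψ, hψ⟩ := D.exists_mem_supp hM (χ := χ) (by rwa [← H20.block_eq_blockOf hB hχ])
  obtain ⟨n, hn, rfl⟩ : ψ ∈ D.orbit φ := D.mem_orbit_of_congr hM fun y => by
    have h1 := hind.2.2 θ hθ χ hχ (y : G)
    rw [D.inducedCentralChar_eq θ hφ y] at h1
    have h := H20.memIdeal_add h1 (D.centralChar_congr hM ψ hψ y)
    have := H20.memIdeal_mul (H20.memRing_neg (H20.O M).one_mem) h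
    ring_nf at this ⊢
    exact this
  rw [D.supp_congr φ hn] at hψ
  exact D.block_eq_supp hM hB hχ hψ

end Setting

end H85.D1
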