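import Cfsg.Agent.H85.D1.Column
import Cfsg.Agent.H20.PrincipalPrime
import Cfsg.Agent.H22.BlockClasses
import Cfsg.Agent.H20.CoprimePart

/-!
Defect one (helper85): a character of the `p'`-part of the centralizer of a Sylow subgroup of
order `p`, its columns, and the characters of the block it determines.
-/

set_option autoImplicit false
set_option linter.style.haveILetI false
set_option linter.unusedSectionVars false

open Cfsg
open scoped ComplexConjugate

namespace H85.D1

universe u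

variable {G : Type u} [Group G] [Fintype G] {p : ℕ} [hp : Fact p.Prime]

/-- The column sum as a count of conjugating elements. -/
theorem sum_irr_conj [DecidableEq G] (g g' : G) :
    ∑ χ : IrrCharacter G, (χ : G → ℂ) g * conj ((χ : G → ℂ) g') =
      ∑ t : G, if t * g * t⁻¹ = g' then (1 : ℂ) else 0 := by
  classical
  rw [H12.column_orthogonality, Finset.sum_boole]
  split_ifs with h
  · obtain ⟨t₀, ht₀⟩ := isConj_iff.1 h
    congr 1
    rw [Nat.subtype_card (p := fun t => t * g * t⁻¹ = g')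
      (Finset.univ.filter fun t => t * g * t⁻¹ = g') (by simp) |>.symm]
    refine Nat.card_congr ((Equiv.mulLeft t₀).subtypeEquiv fun t => ?_)
    rw [Subgroup.mem_centralizer_singleton_iff, Equiv.coe_mulLeft, ← ht₀]
    constructor
    · intro h'
      calc t₀ * t * g * (t₀ * t)⁻¹ = t₀ * (t * g) * t⁻¹ * t₀⁻¹ := by group
        _ = t₀ * g * t₀⁻¹ := by rw [h']; group
    · intro h'
      have h'' : t * g * t⁻¹ = g := by
        have := congrArg (fun z => t₀⁻¹ * z * t₀) h'
        simpa [mul_assoc, mul_inv_rev] using this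
      exact mul_inv_eq_iff_eq_mul.1 h''
  · rw [Finset.filter_eq_empty_iff.2 fun t _ ht => h (isConj_iff.2 ⟨t, ht⟩)]
    simp

/-- A sum over a set on which a group of order `p` acts without fixed points. -/
theorem exists_sum_eq_prime_mul {Q X : Type*} [Group Q] [MulAction Q X] [Fintype X]
    (hQ : Nat.card Q = p) (F : X → ℂ) (hF : ∀ (q : Q) x, F (q • x) = F x)
    (hint : ∀ x, IsIntegral ℤ (F x)) (hfix : ∀ x, (∀ q : Q, q • x = x) → F x = 0) :
    ∃ z : ℂ, IsIntegral ℤ z ∧ ∑ x, F x = (p : ℂ) * z := by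
  classical
  haveI : Finite Q := Nat.finite_of_card_ne_zero (hQ ▸ hp.out.ne_zero)
  let π : X → Quotient (MulAction.orbitRel Q X) := Quotient.mk _
  haveI : Fintype (Quotient (MulAction.orbitRel Q X)) := Fintype.ofFinite _
  refine ⟨∑ o : Quotient (MulAction.orbitRel Q X), F o.out,
    IsIntegral.sum _ fun o _ => hint _, ?_⟩
  rw [← Finset.sum_fiberwise Finset.univ π F, Finset.mul_sum]
  refine Finset.sum_congr rfl fun o _ => ?_
  have hval : ∀ x, π x = o → F x = F o.out := fun x hx => by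
    obtain ⟨q, hq⟩ : x ∈ MulAction.orbit Q o.out := Quotient.exact (hx.trans (Quotient.out_eq o).symm)
    rw [← hq]
    exact hF q _
  rw [Finset.sum_congr rfl fun x hx => hval x (Finset.mem_filter.1 hx).2, Finset.sum_const,
    nsmul_eq_mul]
  by_cases hz : ∀ q : Q, q • o.out = o.out
  · rw [hfix _ hz, mul_zero, mul_zero]
  congr 2
  have h1 : Nat.card (MulAction.orbit Q o.out) = p := by
    have h2 := Nat.card_congr (MulAction.orbitEquivQuotientStabilizer Q o.out)
    rw [← Subgroup.index_eq_card] at h2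
    have h3 := (MulAction.stabilizer Q o.out).index_dvd_card
    rw [hQ] at h3
    rcases (Nat.dvd_prime hp.out).1 h3 with h4 | h4
    · exfalso
      refine hz fun q => ?_
      have : q ∈ MulAction.stabilizer Q o.out := by rw [Subgroup.index_eq_one.1 h4]; trivial
      exact this
    · rw [h2, h4]
  conv_rhs => rw [← h1]
  refine (Nat.subtype_card _ fun x => ?_).symm
  rw [Finset.mem_filter]
  simp only [Finset.mem_univ, true_and]
  exact ⟨fun hx => Quotient.exact (hx.trans (Quotient.out_eq o).symm),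
    fun hx => (Quotient.sound hx).trans (Quotient.out_eq o)⟩

variable {P : Sylow p G} {u a : G} {H : Subgroup G}

local notation "CP" => Subgroup.centralizer ((P : Subgroup G) : Set G)
local notation "NP" => Subgroup.normalizer ((P : Subgroup G) : Set G)

/-- The data: a Sylow subgroup of order `p` and the `p'`-part of its centralizer. -/
structure Setting (P : Sylow p G) (u a : G) (H : Subgroup G) : Prop where
  hP : Nat.card P = p
  u_mem : u ∈ (P : Subgroup G)
  frame : H20.Stable.Frame p u a H (Subgroup.centralizer ((P : Subgroup G) : Set G))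
    (Subgroup.normalizer ((P : Subgroup G) : Set G))

theorem exists_setting (hP : Nat.card P = p) : ∃ u a H, Setting P u a H := by
  obtain ⟨u, a, H, hu, -, hF⟩ := H20.PrimeSylow.exists_frame hP
  exact ⟨u, a, H, hP, hu, hF⟩

namespace Setting

variable (D : Setting P u a H)
include D

theorem P_le : (P : Subgroup G) ≤ CP := by
  intro x hx y hy
  haveI : IsCyclic (P : Subgroup G) := isCyclic_of_prime_card D.hP
  exact congrArg Subtype.val
    (IsCyclic.commGroup.mul_comm (⟨y, hy⟩ : (P : Subgroup G)) ⟨x, hx⟩)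

theorem comm {x h : G} (hx : x ∈ (P : Subgroup G)) (hh : h ∈ H) : Commute x h :=
  D.frame.H_le hh x hx

theorem not_dvd_orderOf {h : G} (hh : h ∈ H) : ¬ p ∣ orderOf h := fun hd =>
  D.frame.card_H (hd.trans (H.orderOf_dvd_natCard hh))

theorem zpowers_u : Subgroup.zpowers u = (P : Subgroup G) :=
  H20.PrimeSylow.zpowers_eq D.hP D.u_mem fun h => by
    have := D.frame.orderOf_u
    rw [h, orderOf_one] at this
    exact hp.out.ne_one this.symm

theorem orderOf_eq {x : G} (hx : x ∈ (P : Subgroup G)) (hx1 : x ≠ 1) : orderOf x = p := by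
  rw [← Nat.card_zpowers, H20.PrimeSylow.zpowers_eq D.hP hx hx1, D.hP]

theorem exists_mul {c : G} (hc : c ∈ CP) :
    ∃ x ∈ (P : Subgroup G), ∃ h ∈ H, c = x * h := by
  obtain ⟨j, h, hh, rfl⟩ := D.frame.decomp c hc
  exact ⟨u ^ j, (P : Subgroup G).pow_mem D.u_mem j, h, hh, rfl⟩

theorem dvd_orderOf_mul {x h : G} (hx : x ∈ (P : Subgroup G)) (hx1 : x ≠ 1) (hh : h ∈ H) :
    p ∣ orderOf (x * h) := by
  rw [(D.comm hx hh).orderOf_mul_eq_mul_orderOf_of_coprime (by
    rw [D.orderOf_eq hx hx1]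
    exact hp.out.coprime_iff_not_dvd.2 (D.not_dvd_orderOf hh)), D.orderOf_eq hx hx1]
  exact dvd_mul_right _ _

theorem mem_H {c : G} (hc : c ∈ CP) (hco : ¬ p ∣ orderOf c) : c ∈ H := by
  obtain ⟨x, hx, h, hh, rfl⟩ := D.exists_mul hc
  by_cases hx1 : x = 1
  · rwa [hx1, one_mul]
  · exact absurd (D.dvd_orderOf_mul hx hx1 hh) hco

theorem conj_mem {n h : G} (hn : n ∈ NP) (hh : h ∈ H) : n * h * n⁻¹ ∈ H :=
  D.mem_H (D.frame.normal n hn h (D.frame.H_le hh))
    (by rw [H20.orderOf_conj']; exact D.not_dvd_orderOf hh)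

theorem pPart_mul {x h : G} (hx : x ∈ (P : Subgroup G)) (hh : h ∈ H) :
    H20.pPart p (x * h) = x := by
  have hC : h ∈ Subgroup.centralizer ({x} : Set G) :=
    Subgroup.mem_centralizer_singleton_iff.2 (D.comm hx hh).eq.symm
  exact H20.centralizer_le_of_pPart x ⟨h, hC⟩ (H20.FreeSylow.orderOf_eq_pow hx)
    (by rw [Subgroup.orderOf_mk]; exact D.not_dvd_orderOf hh)

theorem mem_normalizer {t x z : G} (hx : x ∈ (P : Subgroup G)) (hx1 : x ≠ 1)
    (hz : z ∈ (P : Subgroup G)) (he : t * x * t⁻¹ = z) : t ∈ NP := by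
  have hz1 : z ≠ 1 := fun h => hx1 (by
    rw [h, mul_inv_eq_one] at he
    exact mul_left_cancel (he.trans (mul_one t).symm))
  have hmap : (Subgroup.zpowers x).map (MulAut.conj t).toMonoidHom = Subgroup.zpowers z := by
    rw [MonoidHom.map_zpowers]
    congr 1
  rw [H20.PrimeSylow.zpowers_eq D.hP hx hx1, H20.PrimeSylow.zpowers_eq D.hP hz hz1] at hmap
  rw [Subgroup.mem_normalizer_iff]
  intro y
  constructor
  · intro hy
    rw [← hmap]
    exact ⟨y, hy, by simp⟩
  · intro hy
    rw [← hmap] at hy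
    obtain ⟨w, hw, hwy⟩ := hy
    have : w = y := (MulAut.conj t).injective (by simpa using hwy)
    rwa [← this]

theorem fusion {k k' : H} (h : IsConj (k : G) (k' : G)) :
    ∃ n ∈ NP, n * (k : G) * n⁻¹ = k' := by
  obtain ⟨g, hg⟩ := isConj_iff.1 h
  obtain ⟨n, hn, hn'⟩ := P.conj_eq_normalizer_conj_of_mem_centralizer (k : G) g⁻¹
    (D.frame.H_le k.2) (by rw [inv_inv, hg]; exact D.frame.H_le k'.2)
  rw [inv_inv, hg] at hn'
  exact ⟨n⁻¹, inv_mem hn, by rw [hn', inv_inv]⟩

/-- Conjugation on `H` by an element of the normalizer. -/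
noncomputable def conjH (n : G) (hn : n ∈ NP) : H ≃* H where
  toFun h := ⟨n * h * n⁻¹, D.conj_mem hn h.2⟩
  invFun h := ⟨n⁻¹ * h * n, by simpa using D.conj_mem (inv_mem hn) h.2⟩
  left_inv h := Subtype.ext (by simp [mul_assoc])
  right_inv h := Subtype.ext (by simp [mul_assoc])
  map_mul' h h' := Subtype.ext (by simp [mul_assoc])

theorem conjH_apply (n : G) (hn : n ∈ NP) (h : H) : (D.conjH n hn h : G) = n * h * n⁻¹ := rfl

/-- The stabilizer of a character of `H` in the normalizer. -/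
def stab (φ : IrrCharacter H) : Subgroup G where
  carrier := {n | n ∈ NP ∧ ∀ h h' : H, (h' : G) = n * h * n⁻¹ → (φ : H → ℂ) h' = (φ : H → ℂ) h}
  one_mem' := ⟨one_mem _, fun h h' he => by
    rw [show h' = h from Subtype.ext (by simpa using he)]⟩
  mul_mem' {n m} hn hm := ⟨mul_mem hn.1 hm.1, fun h h' he => by
    rw [hn.2 ⟨m * h * m⁻¹, D.conj_mem hm.1 h.2⟩ h' (by rw [he]; group),
      hm.2 h ⟨m * h * m⁻¹, D.conj_mem hm.1 h.2⟩ rfl]⟩
  inv_mem' {n} hn := ⟨inv_mem hn.1, fun h h' he => (hn.2 h' h (by rw [he]; group)).symm⟩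

theorem mem_stab {φ : IrrCharacter H} {n : G} : n ∈ D.stab φ ↔
    n ∈ NP ∧ ∀ h h' : H, (h' : G) = n * h * n⁻¹ → (φ : H → ℂ) h' = (φ : H → ℂ) h := Iff.rfl

theorem centralizer_le_stab (φ : IrrCharacter H) : CP ≤ D.stab φ := by
  intro c hc
  refine ⟨Subgroup.centralizer_le_normalizer _ hc, fun h h' he => ?_⟩
  obtain ⟨x, hx, k, hk, rfl⟩ := D.exists_mul hc
  rw [show h' = (⟨k, hk⟩ : H) * h * (⟨k, hk⟩ : H)⁻¹ from Subtype.ext (by
    rw [he]
    push_cast
    have hc' : x * (k * h * k⁻¹) = (k * h * k⁻¹) * x :=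
      (D.comm hx (H.mul_mem (H.mul_mem hk h.2) (H.inv_mem hk))).eq
    calc x * k * h * (x * k)⁻¹ = x * (k * h * k⁻¹) * x⁻¹ := by group
      _ = k * h * k⁻¹ := by rw [hc', mul_inv_cancel_right])]
  exact H12.irr_isClassFunction φ h ⟨k, hk⟩

/-- The automorphisms of `P` induced by the stabilizer. -/
noncomputable def aut (φ : IrrCharacter H) : Subgroup (MulAut (P : Subgroup G)) :=
  ((D.stab φ).subgroupOf NP).map (P : Subgroup G).normalizerMonoidHom

theorem mem_aut_iff {φ : IrrCharacter H} {α : MulAut (P : Subgroup G)} :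
    α ∈ D.aut φ ↔ ∃ t ∈ D.stab φ, ∀ x : (P : Subgroup G), (α x : G) = t * x * t⁻¹ := by
  constructor
  · rintro ⟨⟨t, htN⟩, ht, rfl⟩
    exact ⟨t, ht, fun x => rfl⟩
  · rintro ⟨t, ht, hα⟩
    exact ⟨⟨t, ht.1⟩, ht, MulEquiv.ext fun x => Subtype.ext (hα x).symm⟩

variable [Fintype H]

/-- Sums over the stabilizer. -/
theorem sum_stab (φ : IrrCharacter H) [Fintype (D.stab φ)] [Fintype (D.aut φ)]
    (F : MulAut (P : Subgroup G) → ℂ) :
    ∑ t : D.stab φ, F ((P : Subgroup G).normalizerMonoidHom ⟨t, t.2.1⟩) =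
      (p : ℂ) * Fintype.card H * ∑ α : D.aut φ, F α := by
  classical
  let f : D.stab φ →* D.aut φ :=
    { toFun := fun t => ⟨(P : Subgroup G).normalizerMonoidHom ⟨t, t.2.1⟩, ⟨⟨t, t.2.1⟩, t.2, rfl⟩⟩
      map_one' := Subtype.ext (map_one _)
      map_mul' := fun s t => Subtype.ext (map_mul (P : Subgroup G).normalizerMonoidHom
        ⟨s, s.2.1⟩ ⟨t, t.2.1⟩) }
  have hfs : Function.Surjective f := by
    rintro ⟨α, ⟨t, htN⟩, ht, rfl⟩
    exact ⟨⟨t, ht⟩, rfl⟩
  have hker : f.ker = (CP).subgroupOf (D.stab φ) := by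
    ext t
    rw [MonoidHom.mem_ker, Subgroup.mem_subgroupOf]
    constructor
    · intro h1
      have h2 : (⟨t, t.2.1⟩ : NP) ∈ (P : Subgroup G).normalizerMonoidHom.ker :=
        congrArg Subtype.val h1
      rw [Subgroup.normalizerMonoidHom_ker] at h2
      exact h2
    · intro h1
      apply Subtype.ext
      show (P : Subgroup G).normalizerMonoidHom ⟨t, t.2.1⟩ = 1
      rw [← MonoidHom.mem_ker, Subgroup.normalizerMonoidHom_ker]
      exact h1
  have hcard : Nat.card f.ker = p * Fintype.card H := by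
    rw [hker, Nat.card_congr (Subgroup.subgroupOfEquivOfLe (D.centralizer_le_stab φ)).toEquiv]
    haveI : Fintype CP := Fintype.ofFinite _
    have h := D.frame.sum_eq hp.out (fun _ => (1 : ℕ))
    simpa [Nat.card_eq_fintype_card] using h
  rw [← Finset.sum_fiberwise Finset.univ f, Finset.mul_sum]
  refine Finset.sum_congr rfl fun α _ => ?_
  rw [Finset.sum_congr rfl (g := fun _ => F α) (fun t ht => by
    rw [← (Finset.mem_filter.1 ht).2]; rfl), Finset.sum_const, nsmul_eq_mul]
  congr 1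
  obtain ⟨t₀, ht₀⟩ := hfs α
  rw [← Nat.cast_mul, ← hcard, ← Nat.subtype_card (p := fun t => f t = α) _ (by simp)]
  congr 1
  refine (Nat.card_congr ((Equiv.mulLeft t₀).subtypeEquiv fun t => ?_)).symm
  rw [MonoidHom.mem_ker, Equiv.coe_mulLeft, map_mul, ht₀, mul_eq_left]

/-- The coefficient of `φ` in `h ↦ χ (x h)`. -/
noncomputable def col (_D : Setting P u a H) (φ : IrrCharacter H) (χ : IrrCharacter G) (x : G) :
    ℂ :=
  (Fintype.card H : ℂ)⁻¹ * ∑ h : H, (χ : G → ℂ) (x * h) * conj ((φ : H → ℂ) h)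

theorem isClassFunction_shiftH (χ : IrrCharacter G) {x : G} (hx : x ∈ (P : Subgroup G)) :
    IsClassFunction H (fun h => (χ : G → ℂ) (x * h)) := fun g c => by
  have hc : x * (c : G) = c * x := (D.comm hx c.2).eq
  show (χ : G → ℂ) (x * ((c : G) * g * (c : G)⁻¹)) = _
  rw [show x * ((c : G) * g * (c : G)⁻¹) = c * (x * g) * (c : G)⁻¹ by
    rw [← mul_assoc, ← mul_assoc x, hc]; group]
  exact H12.irr_isClassFunction χ (x * g) c

theorem classInner_shift (φ : IrrCharacter H) (χ : IrrCharacter G) (x : G) :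
    classInner (fun h : H => (χ : G → ℂ) (x * h)) (φ : H → ℂ) = D.col φ χ x := by
  rw [H12.classInner_def, col, Nat.card_eq_fintype_card]

theorem apply_eq_sum_col (χ : IrrCharacter G) {x : G} (hx : x ∈ (P : Subgroup G)) (h : H) :
    (χ : G → ℂ) (x * h) = ∑ φ : IrrCharacter H, D.col φ χ x * (φ : H → ℂ) h := by
  rw [H12.classFunction_apply_eq_sum (D.isClassFunction_shiftH χ hx) h]
  simp only [D.classInner_shift]

/-- Conjugate characters have conjugate columns. -/
theorem col_conj (φ : IrrCharacter H) (χ : IrrCharacter G) {n : G} (hn : n ∈ NP) (x : G) :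
    D.col (H12.irrCongr (D.conjH n hn) φ) χ x = D.col φ χ (n * x * n⁻¹) := by
  simp only [col]
  congr 1
  refine Fintype.sum_equiv (D.conjH n hn).toEquiv _ _ fun h => ?_
  show _ = (χ : G → ℂ) (n * x * n⁻¹ * (n * h * n⁻¹)) * conj ((φ : H → ℂ) (D.conjH n hn h))
  rw [show n * x * n⁻¹ * (n * h * n⁻¹) = n * (x * h) * n⁻¹ by group,
    H12.irr_isClassFunction χ (x * h) n]
  rfl

theorem irrCongr_eq_iff (φ : IrrCharacter H) {n : G} (hn : n ∈ NP) :
    H12.irrCongr (D.conjH n hn) φ = φ ↔ n ∈ D.stab φ := by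
  constructor
  · intro he
    refine ⟨hn, fun h h' hh => ?_⟩
    have := congrFun (congrArg Subtype.val he) h
    rw [H12.irrCongr_apply] at this
    rwa [show h' = D.conjH n hn h from Subtype.ext hh]
  · intro he
    exact Subtype.ext (funext fun h => he.2 h _ rfl)

theorem col_inv (φ : IrrCharacter H) (χ : IrrCharacter G) (α : D.aut φ) (x : (P : Subgroup G)) :
    D.col φ χ (((α : MulAut (P : Subgroup G)) x : (P : Subgroup G)) : G) = D.col φ χ x := by
  obtain ⟨t, ht, hα⟩ := D.mem_aut_iff.1 α.2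
  rw [hα, ← D.col_conj φ χ ht.1, (D.irrCongr_eq_iff φ ht.1).2 ht]

theorem col_orth (φ : IrrCharacter H) [Fintype (D.aut φ)] [DecidableEq (P : Subgroup G)]
    (x z : (P : Subgroup G)) (hx : x ≠ 1) :
    ∑ χ, D.col φ χ x * conj (D.col φ χ z) = (Nat.card (P : Subgroup G) : ℂ) *
      ∑ α : D.aut φ, if (α : MulAut (P : Subgroup G)) x = z then 1 else 0 := by
  classical
  haveI : Fintype (D.stab φ) := Fintype.ofFinite _
  have hx' : (x : G) ≠ 1 := fun h => hx (Subtype.ext h)
  have hcardH : (Fintype.card H : ℂ) ≠ 0 := Nat.cast_ne_zero.2 Fintype.card_ne_zero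
  simp only [col, map_mul, map_inv₀, Complex.conj_natCast, map_sum, Complex.conj_conj,
    mul_mul_mul_comm, Finset.sum_mul_sum, ← Finset.mul_sum]
  rw [Finset.sum_comm]
  have hstep : ∀ h : H, ∑ χ : IrrCharacter G, ∑ h' : H,
      ((χ : G → ℂ) (x * h) * conj ((φ : H → ℂ) h)) *
        (conj ((χ : G → ℂ) (z * h')) * (φ : H → ℂ) h') =
      ∑ t : G, if t * (x : G) * t⁻¹ = z then
        (if ht : t ∈ NP then (φ : H → ℂ) (D.conjH t ht h) * conj ((φ : H → ℂ) h) else 0) else 0 := by
    intro h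
    rw [Finset.sum_comm, Finset.sum_congr rfl (g := fun h' : H => ∑ t : G,
      if t * (x * (h : G)) * t⁻¹ = z * h' then (φ : H → ℂ) h' * conj ((φ : H → ℂ) h) else 0)]
    · rw [Finset.sum_comm]
      refine Finset.sum_congr rfl fun t _ => ?_
      by_cases hsplit : t * (x : G) * t⁻¹ = z
      · rw [if_pos hsplit]
        have htN := D.mem_normalizer x.2 hx' z.2 hsplit
        rw [dif_pos htN, Finset.sum_eq_single (D.conjH t htN h)]
        · rw [if_pos]
          rw [conjH_apply, ← hsplit]; group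
        · intro h' _ hne
          rw [if_neg]
          intro he
          apply hne
          apply Subtype.ext
          rw [conjH_apply, ← mul_right_inj (z : G), ← he, ← hsplit]
          group
        · simp
      · rw [if_neg hsplit]
        refine Finset.sum_eq_zero fun h' _ => if_neg fun he => hsplit ?_
        have h1 := congrArg (H20.pPart p) he
        rwa [H20.pPart_conj, D.pPart_mul x.2 h.2, D.pPart_mul z.2 h'.2] at h1
    · intro h' _
      rw [Finset.sum_congr rfl (g := fun χ : IrrCharacter G => ((φ : H → ℂ) h' * conj ((φ : H → ℂ) h)) *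
        ((χ : G → ℂ) (x * h) * conj ((χ : G → ℂ) (z * h')))) (fun χ _ => by ring),
        ← Finset.mul_sum, sum_irr_conj, Finset.mul_sum]
      exact Finset.sum_congr rfl fun t _ => by split_ifs <;> simp
  rw [Finset.sum_congr rfl fun h _ =>
    (Finset.sum_congr rfl fun χ _ => Finset.mul_sum _ _ _).trans (hstep h), Finset.sum_comm]
  have hstep2 : ∀ t : G, (∑ h : H, if t * (x : G) * t⁻¹ = z then
      (if ht : t ∈ NP then (φ : H → ℂ) (D.conjH t ht h) * conj ((φ : H → ℂ) h) else 0) else 0) =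
      if t ∈ D.stab φ ∧ t * (x : G) * t⁻¹ = z then (Fintype.card H : ℂ) else 0 := by
    intro t
    by_cases hsplit : t * (x : G) * t⁻¹ = z
    · have htN := D.mem_normalizer x.2 hx' z.2 hsplit
      simp only [if_pos hsplit, dif_pos htN]
      rw [show (∑ h : H, (φ : H → ℂ) (D.conjH t htN h) * conj ((φ : H → ℂ) h)) =
        ∑ h : H, (H12.irrCongr (D.conjH t htN) φ : H → ℂ) h * conj ((φ : H → ℂ) h) from rfl,
        H12.sum_mul_conj_eq_card_mul, H12.classInner_irr, Nat.card_eq_fintype_card]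
      by_cases hst : t ∈ D.stab φ
      · rw [if_pos ((D.irrCongr_eq_iff φ htN).2 hst), mul_one, if_pos ⟨hst, hsplit⟩]
      · rw [if_neg (mt (D.irrCongr_eq_iff φ htN).1 hst), mul_zero, if_neg fun h => hst h.1]
    · simp [hsplit]
  rw [Finset.sum_congr rfl fun t _ => hstep2 t]
  have hstep3 : (∑ t : G, if t ∈ D.stab φ ∧ t * (x : G) * t⁻¹ = z then (Fintype.card H : ℂ) else 0) =
      (Fintype.card H : ℂ) * ∑ t : D.stab φ, if (P : Subgroup G).normalizerMonoidHom ⟨t, t.2.1⟩ x = z
        then 1 else 0 := by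
    rw [Finset.mul_sum]
    have hiff : ∀ t : D.stab φ, (P : Subgroup G).normalizerMonoidHom ⟨t, t.2.1⟩ x = z ↔
        (t : G) * (x : G) * (t : G)⁻¹ = z := fun t => ⟨fun h => congrArg Subtype.val h,
      fun h => Subtype.ext h⟩
    simp only [ite_and, mul_ite, mul_one, mul_zero, hiff]
    rw [← Finset.sum_filter]
    exact Finset.sum_subtype _ (fun t => by simp) _
  rw [hstep3, D.sum_stab φ fun α => if α x = z then 1 else 0, D.hP]
  field_simp

theorem col_reg (φ : IrrCharacter H) {x : G} (hx : x ∈ (P : Subgroup G)) (hx1 : x ≠ 1) {g : G}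
    (hg : ¬ p ∣ orderOf g) : ∑ χ, D.col φ χ x * (χ : G → ℂ) g = 0 := by
  classical
  simp only [col, mul_assoc, ← Finset.mul_sum, Finset.sum_mul]
  rw [Finset.sum_comm, Finset.sum_eq_zero fun h _ => ?_, mul_zero]
  rw [Finset.sum_congr rfl (g := fun χ : IrrCharacter G => conj ((φ : H → ℂ) h) *
    ((χ : G → ℂ) (x * h) * conj ((χ : G → ℂ) g⁻¹))) (fun χ _ => by
      rw [H20.conj_irr_eq χ g⁻¹, inv_inv]; ring),
    ← Finset.mul_sum, H12.column_orthogonality, if_neg, mul_zero]
  intro hc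
  obtain ⟨t, ht⟩ := isConj_iff.1 hc
  apply hg
  rw [← orderOf_inv, ← ht, H20.orderOf_conj']
  exact D.dvd_orderOf_mul hx hx1 h.2

theorem col_int (φ : IrrCharacter H) [Fintype (P : Subgroup G)] (χ : IrrCharacter G)
    (ψ : (P : Subgroup G) →* ℂˣ) : ∃ n : ℤ, (Nat.card (P : Subgroup G) : ℂ)⁻¹ *
      ∑ x : (P : Subgroup G), D.col φ χ x * (conj (ψ x : ℂ) - 1) = n := by
  let ι : ↥(P : Subgroup G) × ↥H →* G :=
    MonoidHom.noncommCoprod (P : Subgroup G).subtype H.subtype fun x h => D.comm x.2 h.2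
  have hres : IsCharacter (↥(P : Subgroup G) × ↥H) ((χ : G → ℂ) ∘ ι) :=
    H12.IsCharacter.comp (H12.isCharacter_irr χ) ι
  have hlam : ∀ ψ : (P : Subgroup G) →* ℂˣ, IsCharacter (↥(P : Subgroup G) × ↥H)
      (fun y => (ψ y.1 : ℂ) * (φ : H → ℂ) y.2) := fun ψ =>
    have c1 := H12.IsCharacter.comp (H12.isCharacter_monoidHom ψ)
      (MonoidHom.fst ↥(P : Subgroup G) ↥H)
    have c2 := H12.IsCharacter.comp (H12.isCharacter_irr φ) (MonoidHom.snd ↥(P : Subgroup G) ↥H)
    H12.IsCharacter.mul c1 c2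
  have key : ∀ ψ : (P : Subgroup G) →* ℂˣ, classInner ((χ : G → ℂ) ∘ ι)
      (fun y => (ψ y.1 : ℂ) * (φ : H → ℂ) y.2) =
        (Nat.card (P : Subgroup G) : ℂ)⁻¹ * ∑ x : (P : Subgroup G), D.col φ χ x * conj (ψ x : ℂ) := by
    intro ψ
    rw [H12.classInner_def, Nat.card_prod, Nat.card_eq_fintype_card (α := H), Fintype.sum_prod_type]
    simp only [col, mul_assoc, Finset.sum_mul, ← Finset.mul_sum, map_mul]
    push_cast
    rw [mul_inv, mul_assoc]
    congr 2
    refine Finset.sum_congr rfl fun x _ => ?_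
    refine Finset.sum_congr rfl fun h _ => ?_
    show (χ : G → ℂ) ((x : G) * h) * _ = _
    ring
  obtain ⟨m, hm⟩ := H12.IsCharacter.classInner_nat hres (hlam ψ)
  obtain ⟨m₀, hm₀⟩ := H12.IsCharacter.classInner_nat hres (hlam 1)
  refine ⟨(m : ℤ) - m₀, ?_⟩
  push_cast
  rw [← hm, ← hm₀, key, key, ← mul_sub, ← Finset.sum_sub_distrib]
  congr 1
  exact Finset.sum_congr rfl fun x _ => by simp [mul_sub]

theorem cols (φ : IrrCharacter H) [Fintype (P : Subgroup G)] [Fintype (D.aut φ)] :
    Cols p (D.aut φ) (fun (χ : IrrCharacter G) (x : (P : Subgroup G)) => D.col φ χ x)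
      (fun (χ : IrrCharacter G) (g : {g : G // ¬ p ∣ orderOf g}) => (χ : G → ℂ) g) where
  card := D.hP
  int := D.col_int φ
  inv := fun χ α x => D.col_inv φ χ α x
  orth := fun x z hx _ => D.col_orth φ x z hx
  reg := fun x hx g => D.col_reg φ x.2 (fun h => hx (Subtype.ext h)) g.2
  pos := ⟨⟨1, by simp [hp.out.ne_one]⟩, fun χ =>
    ⟨H12.degree (χ : G → ℂ), H12.irr_degree_pos χ, H12.irr_apply_one χ⟩⟩

/-- The characters with a nonzero column. -/
def supp (φ : IrrCharacter H) : Set (IrrCharacter G) :=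
  {χ | ∃ x : (P : Subgroup G), x ≠ 1 ∧ D.col φ χ x ≠ 0}

/-- The part in `H` of the class sum of `y`. -/
noncomputable def clH (_D : Setting P u a H) (y : G) : MonoidAlgebra ℂ H := by
  classical exact H20.ofFun fun k : H => if IsConj y (k : G) then 1 else 0

theorem coeff_clH [DecidableRel (IsConj : G → G → Prop)] (y : G) (k : H) :
    (D.clH y).coeff k = if IsConj y (k : G) then 1 else 0 := by
  simp only [clH, H20.coeff_ofFun]
  congr 1

theorem isCl_clH (y : G) : H20.IsCl (D.clH y) :=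
  H20.isCl_of_forall_isConj fun k l hkl => by
    classical
    rw [D.coeff_clH, D.coeff_clH]
    obtain ⟨c, hc⟩ := isConj_iff.1 hkl
    have h : IsConj (k : G) (l : G) := isConj_iff.2 ⟨c, by rw [← hc]; rfl⟩
    exact if_congr ⟨fun h' => h'.trans h, fun h' => h'.trans h.symm⟩ rfl rfl

theorem omega_clH [DecidableRel (IsConj : G → G → Prop)] (φ : IrrCharacter H) (y : G) :
    H20.omega (φ : H → ℂ) (D.clH y) =
      (∑ k : H, if IsConj y (k : G) then (φ : H → ℂ) k else 0) / (φ : H → ℂ) 1 := by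
  rw [H20.omega]
  congr 1
  exact Finset.sum_congr rfl fun k _ => by rw [D.coeff_clH]; split_ifs <;> simp

theorem sum_clH_mul (φ : IrrCharacter H) (y : G) (h : H) :
    ∑ k : H, (D.clH y).coeff k * (φ : H → ℂ) (k * h) =
      H20.omega (φ : H → ℂ) (D.clH y) * (φ : H → ℂ) h := by
  classical
  have h1 := H20.omega_mul φ (D.isCl_clH y) (MonoidAlgebra.single h (1 : ℂ))
  have h2 : H20.omega (φ : H → ℂ) (MonoidAlgebra.single h (1 : ℂ)) =
      (φ : H → ℂ) h / (φ : H → ℂ) 1 := by
    rw [H20.omega, Finset.sum_eq_single h (fun g _ hg => by simp [Ne.symm hg]) (by simp)]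
    simp
  have h3 : H20.omega (φ : H → ℂ) (D.clH y * MonoidAlgebra.single h (1 : ℂ)) =
      (∑ k : H, (D.clH y).coeff k * (φ : H → ℂ) (k * h)) / (φ : H → ℂ) 1 := by
    rw [H20.omega]
    congr 1
    symm
    refine Fintype.sum_equiv (Equiv.mulRight h) _ _ fun k => ?_
    rw [Equiv.coe_mulRight, H20.coeff_mul_single_one, mul_inv_cancel_right]
  rw [h3, h2, ← mul_div_assoc, div_eq_div_iff (H12.irr_apply_one_ne_zero φ)
    (H12.irr_apply_one_ne_zero φ)] at h1
  exact mul_right_cancel₀ (H12.irr_apply_one_ne_zero φ) h1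

variable {M : Ideal AlgInt} [hMp : M.IsPrime]

theorem isIntegral_irr {A : Type*} [Group A] [Fintype A] (φ : IrrCharacter A) (x : A) :
    IsIntegral ℤ ((φ : A → ℂ) x) := by
  obtain ⟨n, ρ, h⟩ := H12.isCharacter_irr φ
  rw [← h]
  exact H12.isIntegral_character ρ x

theorem memRing_col (hM : IsPModular p M) (φ : IrrCharacter H) (χ : IrrCharacter G) (x : G) :
    MemLocalRing M (D.col φ χ x) := by
  rw [col]
  refine H20.memRing_mul ?_ (H20.memRing_sum _ _ fun h _ => H20.memRing_mul
    (H20.memRing_of_isIntegral (D.isIntegral_irr χ _))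
    (H20.memRing_of_isIntegral (H20.isIntegral_conj (D.isIntegral_irr φ _))))
  rw [← Nat.card_eq_fintype_card]
  exact H20.inv_natCast_memRing hM D.frame.card_H

/-- The action of the part in `H` of a class sum on the expansion of a shifted character. -/
theorem sum_clH_shift (φ : IrrCharacter H) (χ : IrrCharacter G) {x : G}
    (hx : x ∈ (P : Subgroup G)) (y : G) :
    ∑ h : H, (∑ k : H, (D.clH y).coeff k * (χ : G → ℂ) (x * ((k * h : H) : G))) *
      conj ((φ : H → ℂ) h) =
      (Fintype.card H : ℂ) * (H20.omega (φ : H → ℂ) (D.clH y) * D.col φ χ x) := by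
  classical
  have h1 : ∀ h : H, (∑ k : H, (D.clH y).coeff k * (χ : G → ℂ) (x * ((k * h : H) : G))) =
      ∑ ψ : IrrCharacter H, D.col ψ χ x * (H20.omega (ψ : H → ℂ) (D.clH y) * (ψ : H → ℂ) h) := by
    intro h
    simp only [← D.sum_clH_mul, Finset.mul_sum]
    rw [Finset.sum_comm]
    refine Finset.sum_congr rfl fun k _ => ?_
    rw [D.apply_eq_sum_col χ hx (k * h), Finset.mul_sum]
    exact Finset.sum_congr rfl fun ψ _ => mul_left_comm _ _ _
  rw [Finset.sum_congr rfl fun h _ => by rw [h1 h, Finset.sum_mul]]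
  rw [Finset.sum_comm, Finset.sum_eq_single φ]
  · rw [Finset.sum_congr rfl fun h _ => (show D.col φ χ x * (H20.omega (φ : H → ℂ) (D.clH y) *
      (φ : H → ℂ) h) * conj ((φ : H → ℂ) h) = (D.col φ χ x * H20.omega (φ : H → ℂ) (D.clH y)) *
        ((φ : H → ℂ) h * conj ((φ : H → ℂ) h)) by ring), ← Finset.mul_sum,
      H12.sum_mul_conj_eq_card_mul, H12.classInner_irr_self, Nat.card_eq_fintype_card]
    ring
  · intro ψ _ hψ
    rw [Finset.sum_congr rfl fun h _ => (show D.col ψ χ x * (H20.omega (ψ : H → ℂ) (D.clH y) *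
      (ψ : H → ℂ) h) * conj ((φ : H → ℂ) h) = (D.col ψ χ x * H20.omega (ψ : H → ℂ) (D.clH y)) *
        ((ψ : H → ℂ) h * conj ((φ : H → ℂ) h)) by ring), ← Finset.mul_sum,
      H12.sum_mul_conj_eq_card_mul, H12.classInner_irr_ne hψ, mul_zero, mul_zero]
  · simp

/-- The central character modulo `p`, columnwise. -/
theorem col_congr (hM : IsPModular p M) (φ : IrrCharacter H) (χ : IrrCharacter G) {x : G}
    (hx : x ∈ (P : Subgroup G)) (hx1 : x ≠ 1) (y : H) :
    ∃ z : ℂ, MemLocalRing M z ∧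
      (centralChar (χ : G → ℂ) y - H20.omega (φ : H → ℂ) (D.clH y)) * D.col φ χ x = (p : ℂ) * z := by
  classical
  have hzero : ∀ h : H, ∃ z : ℂ, IsIntegral ℤ z ∧
      centralChar (χ : G → ℂ) y * (χ : G → ℂ) (x * h) -
        ∑ k : H, (D.clH y).coeff k * (χ : G → ℂ) (x * ((k * h : H) : G)) = (p : ℂ) * z := by
    intro h
    have h1 := H20.omega_mul χ (H20.isCl_clSum ℂ (y : G)) (MonoidAlgebra.single (x * (h : G)) (1 : ℂ))
    have h2 : H20.omega (χ : G → ℂ) (MonoidAlgebra.single (x * (h : G)) (1 : ℂ)) =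
        (χ : G → ℂ) (x * h) / (χ : G → ℂ) 1 := by
      rw [H20.omega, Finset.sum_eq_single (x * (h : G)) (fun g _ hg => by simp [Ne.symm hg]) (by simp)]
      simp
    have h3 : H20.omega (χ : G → ℂ) (H20.clSum ℂ (y : G) * MonoidAlgebra.single (x * (h : G)) (1 : ℂ)) =
        (∑ g : G, if IsConj (y : G) g then (χ : G → ℂ) (g * (x * h)) else 0) / (χ : G → ℂ) 1 := by
      rw [H20.omega]
      congr 1
      symm
      refine Fintype.sum_equiv (Equiv.mulRight (x * (h : G))) _ _ fun g => ?_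
      rw [Equiv.coe_mulRight, H20.coeff_mul_single_one, mul_inv_cancel_right, H20.coeff_clSum]
      split_ifs <;> simp
    rw [h3, H20.omega_clSum, h2, ← mul_div_assoc, div_eq_div_iff (H12.irr_apply_one_ne_zero χ)
      (H12.irr_apply_one_ne_zero χ)] at h1
    have h4 := mul_right_cancel₀ (H12.irr_apply_one_ne_zero χ) h1
    rw [← h4]
    set F : G → ℂ := fun g => if IsConj (y : G) g then (χ : G → ℂ) (g * (x * h)) else 0 with hF
    set F' : G → ℂ := fun g => if g ∈ CP then 0 else F g with hF'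
    letI : MulAction (P : Subgroup G) G := MulAction.compHom G
      ((MulAut.conj : G →* MulAut G).comp (P : Subgroup G).subtype)
    have hsmul : ∀ (q : (P : Subgroup G)) (g : G), q • g = (q : G) * g * (q : G)⁻¹ := fun q g => rfl
    have hCq : ∀ (q : (P : Subgroup G)) (g : G), q • g ∈ CP ↔ g ∈ CP := by
      intro q g
      rw [hsmul]
      rw [(CP).mul_mem_cancel_right ((CP).inv_mem (D.P_le q.2)), (CP).mul_mem_cancel_left (D.P_le q.2)]
    obtain ⟨z, hz, hzsum⟩ := exists_sum_eq_prime_mul (Q := (P : Subgroup G)) D.hP F'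
      (fun q g => by
        show (if q • g ∈ CP then (0 : ℂ) else F (q • g)) = if g ∈ CP then 0 else F g
        by_cases hg : g ∈ CP
        · rw [if_pos ((hCq q g).2 hg), if_pos hg]
        rw [if_neg fun h' => hg ((hCq q g).1 h'), if_neg hg, hsmul]
        have hc : IsConj g ((q : G) * g * (q : G)⁻¹) := isConj_iff.2 ⟨q, rfl⟩
        have hq : (q : G) * (x * h) * (q : G)⁻¹ = x * h := by
          have h5 : Commute (q : G) (x * h) :=
            (show Commute (q : G) x from D.P_le hx q q.2).mul_right (D.comm q.2 h.2)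
          rw [h5.eq, mul_inv_cancel_right]
        simp only [hF]
        by_cases hy : IsConj (y : G) g
        · rw [if_pos hy, if_pos (hy.trans hc),
            ← H12.irr_isClassFunction χ (g * (x * h)) (q : G)]
          refine congrArg _ ?_
          calc (q : G) * g * (q : G)⁻¹ * (x * h)
              = (q : G) * g * (q : G)⁻¹ * ((q : G) * (x * h) * (q : G)⁻¹) := by rw [hq]
            _ = _ := by group
        · rw [if_neg hy, if_neg fun h' => hy (h'.trans hc.symm)])
      (fun g => by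
        simp only [hF', hF]
        split_ifs
        exacts [isIntegral_zero, D.isIntegral_irr χ _, isIntegral_zero])
      (fun g hg => by
        show (if g ∈ CP then (0 : ℂ) else F g) = 0
        rw [if_pos]
        intro w hw
        have := hg ⟨w, hw⟩
        rw [hsmul] at this
        exact mul_inv_eq_iff_eq_mul.1 this)
    refine ⟨z, hz, ?_⟩
    rw [← hzsum, sub_eq_iff_eq_add, ← Finset.sum_filter_add_sum_filter_not Finset.univ
      (fun g => g ∈ CP), add_comm]
    congr 1
    · rw [Finset.sum_filter]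
      refine Finset.sum_congr rfl fun g _ => ?_
      show (if ¬ g ∈ CP then F g else 0) = if g ∈ CP then 0 else F g
      by_cases hg : g ∈ CP
      · rw [if_pos hg, if_neg (not_not.2 hg)]
      · rw [if_neg hg, if_pos hg]
    · have hsupp : ∀ g ∈ Finset.univ.filter (fun g => g ∈ CP), g ∉ H → F g = 0 := by
        intro g hg hgH
        simp only [hF]
        rw [if_neg]
        intro hy
        refine hgH (D.mem_H (Finset.mem_filter.1 hg).2 ?_)
        obtain ⟨c, hc⟩ := isConj_iff.1 hy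
        rw [← hc, H20.orderOf_conj']
        exact D.not_dvd_orderOf y.2
      rw [← Finset.sum_filter_add_sum_filter_not (Finset.univ.filter fun g => g ∈ CP)
        (fun g => g ∈ H), Finset.sum_eq_zero (s := Finset.filter (fun g => ¬ g ∈ H) _)
          (fun g hg => hsupp g (Finset.mem_filter.1 hg).1 (Finset.mem_filter.1 hg).2), add_zero,
        Finset.filter_filter]
      rw [Finset.sum_subtype (p := fun g => g ∈ H) _ (fun g => by
        simpa using fun hg => D.frame.H_le hg)]
      refine Finset.sum_congr rfl fun k _ => ?_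
      rw [D.coeff_clH]
      split_ifs
      · rw [one_mul, Subgroup.coe_mul, ← mul_assoc, ← (D.comm hx k.2).eq, mul_assoc]
      · rw [zero_mul]
  choose z hz hzeq using hzero
  refine ⟨(Fintype.card H : ℂ)⁻¹ * ∑ h : H, z h * conj ((φ : H → ℂ) h), ?_, ?_⟩
  · refine H20.memRing_mul ?_ (H20.memRing_sum _ _ fun h _ => H20.memRing_mul
      (H20.memRing_of_isIntegral (hz h))
      (H20.memRing_of_isIntegral (H20.isIntegral_conj (D.isIntegral_irr φ _))))
    rw [← Nat.card_eq_fintype_card]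
    exact H20.inv_natCast_memRing hM D.frame.card_H
  have hmain := D.sum_clH_shift φ χ hx y
  have hcardH : (Fintype.card H : ℂ) ≠ 0 := Nat.cast_ne_zero.2 Fintype.card_ne_zero
  rw [mul_left_comm, Finset.mul_sum]
  simp only [← mul_assoc, ← hzeq, sub_mul, Finset.sum_sub_distrib, hmain, mul_sub]
  rw [show ∑ h : H, centralChar (χ : G → ℂ) y * (χ : G → ℂ) (x * h) * conj ((φ : H → ℂ) h) =
    centralChar (χ : G → ℂ) y * ∑ h : H, (χ : G → ℂ) (x * h) * conj ((φ : H → ℂ) h) by
      rw [Finset.mul_sum]; simp only [mul_assoc]]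
  rw [col]
  field_simp

/-- A character with a nonzero column has the induced central character modulo `M`. -/
theorem centralChar_congr (hM : IsPModular p M) (φ : IrrCharacter H) {χ : IrrCharacter G}
    (hχ : χ ∈ D.supp φ) (y : H) :
    MemLocalIdeal M (centralChar (χ : G → ℂ) y - H20.omega (φ : H → ℂ) (D.clH y)) := by
  classical
  by_contra hne
  haveI : Fintype (P : Subgroup G) := Fintype.ofFinite _
  haveI : Fintype (D.aut φ) := Fintype.ofFinite _
  haveI : Finite ((P : Subgroup G) →* ℂˣ) := H20.finite_dual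
  haveI : Fintype ((P : Subgroup G) →* ℂˣ) := Fintype.ofFinite _
  set Dc := D.cols φ
  set w := centralChar (χ : G → ℂ) y - H20.omega (φ : H → ℂ) (D.clH y) with hw
  have hwR : MemLocalRing M w := by
    rw [hw, sub_eq_add_neg]
    refine H20.memRing_add (H20.memRing_of_isIntegral (H20.isIntegral_centralChar χ _))
      (H20.memRing_neg (H20.memRing_of_isIntegral ?_))
    obtain ⟨k, hk⟩ : ∃ z, z = H20.omega (φ : H → ℂ) (D.clH y) := ⟨_, rfl⟩
    rw [H20.omega_eq_sum_centralChar φ (D.isCl_clH y)]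
    refine IsIntegral.sum _ fun C _ => ?_
    rw [D.coeff_clH]
    split_ifs
    · rw [one_mul]; exact H20.isIntegral_centralChar φ _
    · rw [zero_mul]; exact isIntegral_zero
  obtain ⟨hw0, hwi⟩ := H20.inv_memRing hwR hne
  have hdiv : ∀ x : (P : Subgroup G), x ≠ 1 → ∃ z : ℂ, MemLocalRing M z ∧
      D.col φ χ x = (p : ℂ) * z := by
    intro x hx
    obtain ⟨z, hz, he⟩ := D.col_congr hM φ χ x.2 (fun h => hx (Subtype.ext h)) y
    exact ⟨w⁻¹ * z, H20.memRing_mul hwi hz, by
      rw [mul_left_comm, ← he, ← hw, inv_mul_cancel_left₀ hw0]⟩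
  choose! z hz hze using hdiv
  have hpv : ∀ ψ, (p : ℤ) ∣ Dc.coef χ ψ := by
    intro ψ
    rw [← H20.intCast_memIdeal_iff hM, Dc.coef_spec]
    have h1 : (Nat.card (P : Subgroup G) : ℂ)⁻¹ *
        ∑ x : (P : Subgroup G), D.col φ χ x * (conj (ψ x : ℂ) - 1) =
        ∑ x : (P : Subgroup G), if x = 1 then 0 else z x * (conj (ψ x : ℂ) - 1) := by
      rw [Finset.mul_sum]
      refine Finset.sum_congr rfl fun x _ => ?_
      split_ifs with hx
      · subst hx; simp
      · rw [hze x hx, D.hP, ← mul_assoc, ← mul_assoc,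
          inv_mul_cancel₀ (Nat.cast_ne_zero.2 hp.out.ne_zero), one_mul]
    rw [h1]
    refine Finset.sum_induction _ (MemLocalIdeal M) (fun _ _ => H20.memIdeal_add) H20.memIdeal_zero
      fun x _ => ?_
    split_ifs with hx
    · exact H20.memIdeal_zero
    refine H20.memIdeal_mul (hz x hx) ?_
    rw [H20.conj_lin]
    obtain ⟨k, hk⟩ := IsPGroup.iff_orderOf.1 P.isPGroup' x⁻¹
    have hval : (ψ x⁻¹ : ℂ) ^ p ^ k = 1 := by
      rw [← Units.val_pow_eq_pow_val, ← map_pow, ← hk, pow_orderOf_eq_one, map_one, Units.val_one]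
    let ww : H20.O M := ⟨(ψ x⁻¹ : ℂ), H20.memRing_of_pow_eq_one (pow_pos hp.out.pos k) hval⟩
    have := H20.red_eq_one_of_pow_p_pow hM (w := ww) (Subtype.ext hval)
    rwa [← map_one (H20.red M), H20.red_eq_red_iff] at this
  obtain ⟨x₀, hx₀, hne₀⟩ := hχ
  apply hne₀
  rw [Dc.apply_eq_sum χ hx₀]
  refine Finset.sum_eq_zero fun ψ _ => ?_
  by_cases hψ : ψ = 1
  · rw [hψ, Dc.coef_one]; simp
  suffices h0 : Dc.coef χ ψ = 0 by rw [h0]; simp
  by_contra hne'
  have hle : Dc.coef χ ψ * Dc.coef χ ψ ≤ ∑ i, Dc.coef i ψ * Dc.coef i ψ :=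
    Finset.single_le_sum (fun i _ => mul_self_nonneg (Dc.coef i ψ)) (Finset.mem_univ χ)
  rw [Dc.gram hψ hψ, Finset.sum_add_distrib] at hle
  simp only [Finset.sum_const, Finset.card_univ, nsmul_one] at hle
  have h1 : ∑ a : D.aut φ, (if twist ψ a = ψ then (1 : ℤ) else 0) ≤ 1 := by
    rw [Finset.sum_eq_single (1 : D.aut φ) (fun a _ ha => if_neg fun h1 =>
      ha (twist_injective D.hP hψ (h1.trans rfl))) (by simp)]
    split_ifs <;> norm_num
  have h2 : Fintype.card (D.aut φ) + 1 ≤ p := by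
    have h3 := Fintype.card_le_of_injective (fun a : D.aut φ =>
      (⟨twist ψ a, mt twist_eq_one_iff.1 hψ⟩ : {θ : (P : Subgroup G) →* ℂˣ // θ ≠ 1}))
      (fun a b h => twist_injective D.hP hψ (congrArg Subtype.val h))
    rw [Fintype.card_subtype_compl, Fintype.card_subtype_eq] at h3
    have h4 : Fintype.card ((P : Subgroup G) →* ℂˣ) = p :=
      (by exact_mod_cast H20.card_dual (commOf (A := (P : Subgroup G)) D.hP) :
        Fintype.card ((P : Subgroup G) →* ℂˣ) = Nat.card (P : Subgroup G)).trans D.hP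
    have := hp.out.pos
    omega
  obtain ⟨c, hc⟩ := hpv ψ
  have hc0 : c ≠ 0 := fun h0 => hne' (by rw [hc, h0, mul_zero])
  have h5 : (1 : ℤ) ≤ c * c := by nlinarith [mul_self_nonneg c, mul_self_pos.2 hc0]
  have h6 : (p : ℤ) * p ≤ (p : ℤ) := by
    calc (p : ℤ) * p ≤ (p : ℤ) * p * (c * c) := le_mul_of_one_le_right (by positivity) h5
      _ = Dc.coef χ ψ * Dc.coef χ ψ := by rw [hc]; ring
      _ ≤ p := by
        refine hle.trans ?_
        have : (Fintype.card (D.aut φ) : ℤ) + 1 ≤ p := by exact_mod_cast h2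
        linarith
  have := hp.out.two_le
  nlinarith

end Setting

end H85.D1
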