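import Cfsg.Agent.H85.D1.Setup

/-!
Defect one (helper85): the principal block for a Sylow subgroup of order `p`.
-/

set_option autoImplicit false
set_option linter.style.haveILetI false
set_option linter.unusedSectionVars false

open Cfsg H20
open scoped ComplexConjugate

namespace H85.D1

universe u

variable {G : Type u} [Group G] [Fintype G] {p : ℕ} [hp : Fact p.Prime] {M : Ideal AlgInt}
  [hMp : M.IsPrime] {P : Sylow p G}

theorem le_two_of_sub_one_mul {c : ℤ} (hp3 : 3 ≤ p) (h : |((p - 1 : ℕ) : ℤ) * c| ≤ p) :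
    c = 0 ∨ c = 1 ∨ c = -1 := by
  rw [abs_mul, abs_of_nonneg (Int.natCast_nonneg _), Nat.cast_sub (by omega), Nat.cast_one] at h
  have h2 : |c| ≤ 1 := by
    by_contra h'
    have h3 : (2 : ℤ) ≤ |c| := by omega
    have h4 : ((p : ℤ) - 1) * 2 ≤ ((p : ℤ) - 1) * |c| :=
      mul_le_mul_of_nonneg_left h3 (by omega)
    omega
  obtain ⟨h5, h6⟩ := abs_le.1 h2
  omega

theorem coe_mem_R_regular (hP : Nat.card P = p) (χ : IrrCharacter G) {g : G} (hg : ¬ p ∣ orderOf g) :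
    (χ : G → ℂ) g ∈ R M (mOf G p) mOf_pos := by
  obtain ⟨n, rep, hrep⟩ := H12.isCharacter_of_isIrrCharacter χ.2
  obtain ⟨μ, h1, h2, -⟩ := H12.exists_char_eigenvalues rep g
  rw [← hrep]
  have hg1 : rep.character g = ∑ i, μ i := by simpa using h2 1
  rw [hg1]
  refine sum_mem fun i _ => Z0_le_R (Subring.subset_closure ?_)
  have hdvd : orderOf g ∣ mOf G p :=
    (Nat.Coprime.dvd_of_dvd_mul_right (Nat.Coprime.symm ((hp.out.coprime_iff_not_dvd).2 hg))
      ((orderOf_dvd_natCard g).trans (card_dvd_mOf hP)))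
  obtain ⟨c, hc⟩ := hdvd
  show μ i ^ mOf G p = 1
  rw [hc, pow_mul, h1 i, one_pow]

/-- A singular element takes the value of its `p`-part in `P`. -/
theorem exists_value_singular (hP : Nat.card P = p) (hM : IsPModular p M) {g : G}
    (hg : p ∣ orderOf g) : ∃ y ∈ (P : Subgroup G), y ≠ 1 ∧
      ∀ χ ∈ principalBlock M G, (χ : G → ℂ) g = (χ : G → ℂ) y := by
  obtain ⟨y, hy, hconj⟩ := FreeSylow.exists_isConj_mem (P := P) (exists_orderOf_pPart (p := p) g)
  have h1 : pPart p g ≠ 1 := fun h => pPart_eq_one_iff.1 h hg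
  refine ⟨y, hy, fun h => h1 ?_, fun χ hχ => ?_⟩
  · obtain ⟨x, hx⟩ := _root_.isConj_iff.1 hconj
    rw [h] at hx
    exact conj_eq_one_iff.1 hx
  · rw [(freeSylow_of_card hP).apply_pPart hM hχ (isPPart_pPart g) h1]
    obtain ⟨x, hx⟩ := _root_.isConj_iff.1 hconj
    rw [← hx, H12.irr_isClassFunction χ (pPart p g) x]

theorem NormData.pow_ne_one (D : NormData P) {i : ℕ} (hi : i ∈ Finset.Ico 1 p) : D.u ^ i ≠ 1 := by
  rw [Finset.mem_Ico] at hi
  exact pow_ne_one_of_lt_orderOf (by omega) (by rw [D.orderOf_u]; exact hi.2)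

theorem NormData.pow_mem (D : NormData P) (i : ℕ) : D.u ^ i ∈ (P : Subgroup G) :=
  D.zpowers_u ▸ Subgroup.npow_mem_zpowers D.u i

theorem NormData.apply_mul (D : NormData P) (hP : Nat.card P = p) (hM : IsPModular p M)
    {χ : IrrCharacter G} (hχ : χ ∈ principalBlock M G) {i : ℕ} (hi : i ∈ Finset.Ico 1 p)
    {y : G} (hy : y ∈ D.K) : (χ : G → ℂ) (D.u ^ i * y) = (χ : G → ℂ) (D.u ^ i) := by
  have hyC : y ∈ Subgroup.centralizer ({D.u ^ i} : Set G) :=
    Subgroup.mem_centralizer_singleton_iff.2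
      ((show Commute y D.u from D.comm y hy).pow_right i).eq
  refine (freeSylow_of_card hP).apply_shift hM hχ (D.pow_mem i) (D.pow_ne_one hi) ⟨y, hyC⟩ ?_
  rw [Subgroup.orderOf_mk]
  exact fun h => D.not_dvd_card (h.trans
    (by rw [← Subgroup.orderOf_mk y hy]; exact orderOf_dvd_natCard _))

/-- The inequality for an orbit in the principal block. -/
theorem abs_le_of_orbit_principal (hP : Nat.card P = p) (hM : IsPModular p M) (hodd : p ≠ 2)
    (D : NormData P) (S : Finset (IrrCharacter G)) (hSB : ∀ ψ ∈ S, ψ ∈ principalBlock M G)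
    (χ : IrrCharacter G) (hχS : χ ∈ S)
    (horb : ∀ ψ ∈ S, ∃ k : (ZMod p)ˣ, ∀ g,
      (ψ : G → ℂ) g = sig M (mOf G p) mOf_pos not_dvd_mOf k ((χ : G → ℂ) g))
    (hrat : ∀ g, ∑ ψ ∈ S, (ψ : G → ℂ) g ∈ R M (mOf G p) mOf_pos) {z : ℤ}
    (hz : ∑ ψ ∈ S, ∑ i ∈ Finset.Ico 1 p, (ψ : G → ℂ) (D.u ^ i) = (z : ℂ)) :
    |z| ≤ p := by
  classical
  haveI : Fintype D.K := Fintype.ofFinite _
  refine abs_le_of_orbit (hpm := not_dvd_mOf) hM (card_dvd_mOf hP) sub_one_dvd_mOf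
    (card_lt_mOf hP hodd) P D.zpowers_u D.orderOf_u D.not_dvd_a D.conj_u D.K D.not_dvd_card D.comm
    D.conj_mem D.n0_pow D.gen S χ hχS horb hrat ?_
  rw [← hz, Finset.mul_sum]
  refine Finset.sum_congr rfl fun ψ hψ => ?_
  rw [Finset.mul_sum]
  refine Finset.sum_congr rfl fun i hi => ?_
  rw [Finset.sum_congr rfl fun (y : D.K) _ => D.apply_mul hP hM (hSB ψ hψ) hi y.2, Finset.sum_const,
    Finset.card_univ, nsmul_eq_mul]

/-- A character of the principal block with constant integral value on `P#` has value in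
`{-1, 0, 1}` there. -/
theorem value_of_const (hP : Nat.card P = p) (hM : IsPModular p M) (hodd : p ≠ 2)
    {χ : IrrCharacter G} (hχ : χ ∈ principalBlock M G) {c : ℤ}
    (hc : ∀ y ∈ (P : Subgroup G), y ≠ 1 → (χ : G → ℂ) y = (c : ℂ)) : c = 0 ∨ c = 1 ∨ c = -1 := by
  classical
  obtain ⟨D⟩ := exists_normData hP
  have hval : ∀ g, (χ : G → ℂ) g ∈ R M (mOf G p) mOf_pos := by
    intro g
    by_cases hg : p ∣ orderOf g
    · obtain ⟨y, hy, hy1, hval⟩ := exists_value_singular hP hM hg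
      rw [hval χ hχ, hc y hy hy1]
      exact intCast_mem _ c
    · exact coe_mem_R_regular hP χ hg
  have h := abs_le_of_orbit_principal hP hM hodd D {χ}
    (fun ψ hψ => by rwa [Finset.mem_singleton.1 hψ]) χ (Finset.mem_singleton_self χ)
    (fun ψ hψ => ⟨1, fun g => by
      rw [Finset.mem_singleton.1 hψ, sig_R 1 (hval g)]⟩)
    (fun g => by rw [Finset.sum_singleton]; exact hval g) (z := ((p - 1 : ℕ) : ℤ) * c)
    (by
      rw [Finset.sum_singleton, Finset.sum_congr rfl fun i hi => hc _ (D.pow_mem i) (D.pow_ne_one hi),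
        Finset.sum_const, Nat.card_Ico, nsmul_eq_mul]
      push_cast
      ring)
  exact le_two_of_sub_one_mul (by have := hp.out.two_le; omega) h

theorem sum_lin_pow {u : (P : Subgroup G)} (hu : orderOf u = p) (hgen : ∀ w, w ∈ Subgroup.zpowers u)
    {φ : (P : Subgroup G) →* ℂˣ} (hφ : φ ≠ 1) :
    ∑ i ∈ Finset.Ico 1 p, ((φ (u ^ i) : ℂˣ) : ℂ) = -1 := by
  have hw : ((φ u : ℂˣ) : ℂ) ≠ 1 := fun h => hφ (MonoidHom.ext fun w => by
    obtain ⟨k, rfl⟩ := Subgroup.mem_zpowers_iff.1 (hgen w)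
    rw [map_zpow, show φ u = 1 from Units.ext h, one_zpow, MonoidHom.one_apply])
  have hwp : ((φ u : ℂˣ) : ℂ) ^ p = 1 := by
    have h1 := pow_orderOf_eq_one u
    rw [hu] at h1
    rw [← Units.val_pow_eq_pow_val, ← map_pow, h1, map_one, Units.val_one]
  simp only [map_pow, Units.val_pow_eq_pow_val]
  rw [Finset.sum_Ico_eq_sub _ hp.out.one_le, geom_sum_eq hw, hwp]
  simp

/-- With at least two exceptional characters their constant vanishes, or there are two and the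
roles may be interchanged. -/
theorem exceptional_const (hP : Nat.card P = p) (hM : IsPModular p M) (hodd : p ≠ 2)
    [Fintype (P : Subgroup G)] (D : FreeData M (P : Subgroup G))
    (hr : Nat.card (autG (P : Subgroup G)) + 1 < p) {η : IrrCharacter G} (hη : η ∈ D.Y) :
    D.b η = 0 ∨ (Nat.card D.Y = 2 ∧ D.b η = -D.δ) := by
  classical
  have hfree := freeSylow_of_card hP
  have hcardY := D.card_Y hfree
  rw [show Nat.card (P : Subgroup G) = p from hP] at hcardY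
  haveI : Fintype (autG (P : Subgroup G)) := Fintype.ofFinite _
  obtain ⟨ND⟩ := exists_normData hP
  let u' : (P : Subgroup G) := ⟨ND.u, by simpa using ND.pow_mem 1⟩
  have hu' : orderOf u' = p := by rw [Subgroup.orderOf_mk]; exact ND.orderOf_u
  have hgen : ∀ w, w ∈ Subgroup.zpowers u' := fun w => by
    have h1 : (w : G) ∈ Subgroup.zpowers ND.u := by rw [ND.zpowers_u]; exact w.2
    obtain ⟨k, hk⟩ := Subgroup.mem_zpowers_iff.1 h1
    exact ⟨k, Subtype.ext (by rw [← hk]; rfl)⟩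
  obtain ⟨ψ, hψ, rfl⟩ := hη
  set m := mOf G p with hm
  let σ : (ZMod p)ˣ → ℂ ≃+* ℂ := fun k => sig M m mOf_pos not_dvd_mOf k
  have hψp : ∀ (φ : (P : Subgroup G) →* ℂˣ) (w : (P : Subgroup G)), ((φ w : ℂˣ) : ℂ) ^ p = 1 :=
    fun φ w => by
      rw [← Units.val_pow_eq_pow_val, ← map_pow]
      have hw : w ^ p = 1 := by
        have := pow_card_eq_one' (x := w)
        rwa [show Nat.card (P : Subgroup G) = p from hP] at this
      rw [hw, map_one, Units.val_one]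
  have hσw : ∀ (k : (ZMod p)ˣ) (z : ℂ), z ^ p = 1 → σ k z = z ^ (k : ZMod p).val := by
    intro k z hz
    obtain ⟨l, hl, -, hlp, -⟩ := sig_pow (M := M) (hm := mOf_pos) (hpm := not_dvd_mOf) k
      (g := p) (dvd_mul_left p m)
    rw [show σ k z = z ^ l from hl z hz, pow_eq_pow_mod l hz, pow_eq_pow_mod (k : ZMod p).val hz, hlp]
  -- Galois action on the family
  have hval : ∀ (k : (ZMod p)ˣ) (φ φ' : (P : Subgroup G) →* ℂˣ), φ ≠ 1 → φ' ≠ 1 →
      (∀ w, ((φ' w : ℂˣ) : ℂ) = ((φ w : ℂˣ) : ℂ) ^ (k : ZMod p).val) →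
      ∀ g, (D.ζ φ' : G → ℂ) g = σ k ((D.ζ φ : G → ℂ) g) := by
    intro k φ φ' hφ hφ' hpow g
    by_cases hg : p ∣ orderOf g
    · obtain ⟨y, hy, hy1, hv⟩ := exists_value_singular hP hM hg
      have hy1' : (⟨y, hy⟩ : (P : Subgroup G)) ≠ 1 := fun h => hy1 (congrArg Subtype.val h)
      rw [hv _ (D.ζ_mem φ' hφ'), hv _ (D.ζ_mem φ hφ),
        show (D.ζ φ' : G → ℂ) y = _ from D.apply_ζ hfree hφ' hy1',
        show (D.ζ φ : G → ℂ) y = _ from D.apply_ζ hfree hφ hy1',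
        map_add, map_neg, map_intCast, map_mul, map_intCast, map_sum, D.b_ζ φ' φ hφ' hφ]
      refine congrArg₂ (· + ·) rfl (congrArg ((D.δ : ℂ) * ·) ?_)
      refine Finset.sum_congr rfl fun a _ => ?_
      rw [dualTw_apply, dualTw_apply, hσw k _ (hψp φ _), hpow]
    · rw [D.apply_regular hM ⟨φ', hφ', rfl⟩ ⟨φ, hφ, rfl⟩ hg]
      exact (sig_R k (coe_mem_R_regular hP _ hg)).symm
  have hgal : ∀ φ : (P : Subgroup G) →* ℂˣ, φ ≠ 1 → ∀ k : (ZMod p)ˣ, ∃ φ' : (P : Subgroup G) →* ℂˣ, φ' ≠ 1 ∧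
      ∀ w, ((φ' w : ℂˣ) : ℂ) = ((φ w : ℂˣ) : ℂ) ^ (k : ZMod p).val := by
    intro φ hφ k
    refine ⟨φ ^ (k : ZMod p).val, fun h => hφ (MonoidHom.ext fun w => Units.ext ?_), fun w => by
      simp⟩
    have h1 := congrArg (fun f : (P : Subgroup G) →* ℂˣ => ((f w : ℂˣ) : ℂ)) h
    simp only [MonoidHom.one_apply, Units.val_one, MonoidHom.pow_apply,
      Units.val_pow_eq_pow_val] at h1
    obtain ⟨l, hl⟩ := exists_pow_eq_self_of_coprime (x := ((φ w : ℂˣ) : ℂ))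
      (n := (k : ZMod p).val) (Nat.Coprime.coprime_dvd_right (orderOf_dvd_of_pow_eq_one (hψp φ w))
        (Nat.Coprime.symm ((hp.out.coprime_iff_not_dvd).2 (not_dvd_val k))))
    rw [← hl, h1, one_pow]
    rfl
  -- the orbit
  have horb : ∀ η ∈ D.Y.toFinset, ∃ k : (ZMod p)ˣ, ∀ g,
      (η : G → ℂ) g = σ k ((D.ζ ψ : G → ℂ) g) := by
    intro η hη
    obtain ⟨φ, hφ, rfl⟩ := Set.mem_toFinset.1 hη
    have hζ : IsPrimitiveRoot ((ψ u' : ℂˣ) : ℂ) p := by
      have h1 : ((ψ u' : ℂˣ) : ℂ) ≠ 1 := fun h => hψ (MonoidHom.ext fun w => by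
        obtain ⟨k, rfl⟩ := Subgroup.mem_zpowers_iff.1 (hgen w)
        rw [map_zpow, show ψ u' = 1 from Units.ext h, one_zpow, MonoidHom.one_apply])
      exact IsPrimitiveRoot.iff_orderOf.2 (orderOf_eq_prime (hψp ψ u') h1)
    obtain ⟨j, hj, hje⟩ := hζ.eq_pow_of_pow_eq_one (hψp φ u')
    have hφeq : φ = ψ ^ j := MonoidHom.ext fun w => by
      obtain ⟨k, rfl⟩ := Subgroup.mem_zpowers_iff.1 (hgen w)
      rw [map_zpow, map_zpow]
      congr 1
      exact Units.ext (by rw [← hje, MonoidHom.pow_apply, Units.val_pow_eq_pow_val])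
    have hj0 : (j : ZMod p) ≠ 0 := fun h0 => by
      rw [ZMod.natCast_eq_zero_iff] at h0
      obtain rfl : j = 0 := Nat.eq_zero_of_dvd_of_lt h0 hj
      exact hφ (hφeq.trans (MonoidHom.ext fun w => by simp))
    refine ⟨Units.mk0 _ hj0, hval _ ψ φ hψ hφ fun w => ?_⟩
    rw [hφeq, Units.val_mk0, ZMod.val_natCast_of_lt hj, MonoidHom.pow_apply, Units.val_pow_eq_pow_val]
  -- rationality
  have hYR' : ∀ η ∈ D.Y.toFinset, ∀ g, (η : G → ℂ) g ∈ R' p M m mOf_pos := by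
    intro η hη g
    obtain ⟨φ, hφ, rfl⟩ := Set.mem_toFinset.1 hη
    by_cases hg : p ∣ orderOf g
    · obtain ⟨y, hy, hy1, hv⟩ := exists_value_singular hP hM hg
      have hy1' : (⟨y, hy⟩ : (P : Subgroup G)) ≠ 1 := fun h => hy1 (congrArg Subtype.val h)
      rw [hv _ (D.ζ_mem φ hφ), show (D.ζ φ : G → ℂ) y = _ from D.apply_ζ hfree hφ hy1']
      refine add_mem (neg_mem (intCast_mem _ _)) (mul_mem (intCast_mem _ _) (sum_mem fun a _ => ?_))
      obtain ⟨i, -, hi⟩ := (isPrimitiveRoot_zeta (p := p)).eq_pow_of_pow_eq_one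
        (hψp (dualTw φ a) ⟨y, hy⟩)
      exact hi ▸ _root_.pow_mem zeta_mem i
    · exact R_le_R' (coe_mem_R_regular hP _ hg)
  have hrat : ∀ g, ∑ η ∈ D.Y.toFinset, (η : G → ℂ) g ∈ R M m mOf_pos := by
    intro g
    refine mem_R_of_fixed hM (hpm := not_dvd_mOf) (sum_mem fun η hη => hYR' η hη g) fun k => ?_
    rw [map_sum]
    have hmap : ∀ η ∈ D.Y.toFinset, ∃ η' ∈ D.Y.toFinset,
        ∀ g, (η' : G → ℂ) g = σ k ((η : G → ℂ) g) := by
      intro η hη
      obtain ⟨φ, hφ, rfl⟩ := Set.mem_toFinset.1 hη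
      obtain ⟨φ', hφ', hpow⟩ := hgal φ hφ k
      exact ⟨D.ζ φ', Set.mem_toFinset.2 ⟨φ', hφ', rfl⟩, hval k φ φ' hφ hφ' hpow⟩
    choose F hF hFv using hmap
    refine Finset.sum_bij F hF ?_ ?_ fun η hη => (hFv η hη g).symm
    · intro η₁ h₁ η₂ h₂ he
      exact Subtype.ext (funext fun g => (σ k).injective
        (by rw [← hFv η₁ h₁ g, ← hFv η₂ h₂ g, he]))
    · intro η hη
      have hinj : Function.Injective fun x : D.Y.toFinset =>
          (⟨F x x.2, hF x x.2⟩ : D.Y.toFinset) := fun x y he => Subtype.ext (Subtype.ext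
        (funext fun g => (σ k).injective (by
          rw [← hFv x x.2 g, ← hFv y y.2 g]
          exact congrArg (fun w : D.Y.toFinset => (w.1 : G → ℂ) g) he)))
      obtain ⟨⟨x, hx⟩, hxe⟩ := Finite.injective_iff_surjective.1 hinj ⟨η, hη⟩
      exact ⟨x, hx, congrArg Subtype.val hxe⟩
  -- the sum
  set e := Nat.card (autG (P : Subgroup G)) with he
  set t := Nat.card D.Y with ht
  have hsum : ∀ η ∈ D.Y.toFinset, ∑ i ∈ Finset.Ico 1 p, (η : G → ℂ) (ND.u ^ i) =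
      -(((p - 1 : ℕ) : ℂ) * (D.b (D.ζ ψ) : ℂ)) - (D.δ : ℂ) * (e : ℂ) := by
    intro η hη
    obtain ⟨φ, hφ, rfl⟩ := Set.mem_toFinset.1 hη
    have hui : ∀ i ∈ Finset.Ico 1 p, (D.ζ φ : G → ℂ) (ND.u ^ i) =
        -(D.b (D.ζ ψ) : ℂ) + (D.δ : ℂ) * ∑ a : autG (P : Subgroup G),
          ((dualTw φ a (u' ^ i) : ℂˣ) : ℂ) := by
      intro i hi
      have hne : u' ^ i ≠ 1 := fun h => ND.pow_ne_one hi (congrArg Subtype.val h)
      rw [← D.b_ζ φ ψ hφ hψ]
      exact D.apply_ζ hfree hφ hne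
    rw [Finset.sum_congr rfl hui, Finset.sum_add_distrib, Finset.sum_const, Nat.card_Ico,
      ← Finset.mul_sum, Finset.sum_comm, Finset.sum_congr rfl fun a _ =>
        sum_lin_pow hu' hgen (φ := dualTw φ a) (fun h => hφ (dualTw_eq_one_iff.1 h)),
      Finset.sum_const, Finset.card_univ, he, Nat.card_eq_fintype_card, nsmul_eq_mul, nsmul_eq_mul]
    ring
  have hp1 : ((p - 1 : ℕ) : ℤ) = (t : ℤ) * e := by
    have : p - 1 = t * e := by omega
    rw [this]; push_cast; ring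
  have hz := abs_le_of_orbit_principal hP hM hodd ND D.Y.toFinset
    (fun η hη => D.Y_subset (Set.mem_toFinset.1 hη)) (D.ζ ψ) (Set.mem_toFinset.2 ⟨ψ, hψ, rfl⟩)
    horb hrat (z := -((t : ℤ) * e * ((t : ℤ) * D.b (D.ζ ψ) + D.δ))) (by
      rw [Finset.sum_congr rfl hsum, Finset.sum_const, ← Nat.card_eq_card_toFinset, nsmul_eq_mul,
        show ((p - 1 : ℕ) : ℂ) = (((p - 1 : ℕ) : ℤ) : ℂ) from (Int.cast_natCast _).symm, hp1]
      push_cast
      ring)
  rw [abs_neg, abs_mul, abs_of_nonneg (by positivity : (0 : ℤ) ≤ (t : ℤ) * e)] at hz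
  have hte : (2 : ℤ) ≤ (t : ℤ) * e := by
    rw [← hp1]
    have := hp.out.two_le
    omega
  have hpte : (p : ℤ) = (t : ℤ) * e + 1 := by rw [← hp1]; have := hp.out.two_le; omega
  set c := (t : ℤ) * D.b (D.ζ ψ) + D.δ with hc
  have hc1 : |c| ≤ 1 := by
    by_contra h'
    have h3 : (2 : ℤ) ≤ |c| := by omega
    have h4 : (t : ℤ) * e * 2 ≤ (t : ℤ) * e * |c| := mul_le_mul_of_nonneg_left h3 (by omega)
    omega
  have ht2 : 2 ≤ t := by
    by_contra h'
    have : t * e ≤ e := by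
      calc t * e ≤ 1 * e := Nat.mul_le_mul_right e (by omega)
        _ = e := one_mul e
    omega
  obtain ⟨hc2, hc3⟩ := abs_le.1 hc1
  by_cases hb0 : D.b (D.ζ ψ) = 0
  · exact Or.inl hb0
  refine Or.inr ?_
  have hbabs : (t : ℤ) * |D.b (D.ζ ψ)| ≤ 2 := by
    rw [show (t : ℤ) * |D.b (D.ζ ψ)| = |(t : ℤ) * D.b (D.ζ ψ)| by
      rw [abs_mul, abs_of_nonneg (Int.natCast_nonneg t)]]
    rcases D.δ_eq with hd | hd <;> rw [abs_le] <;> constructor <;> omega
  have hb1 : (1 : ℤ) ≤ |D.b (D.ζ ψ)| := Int.one_le_abs hb0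
  have ht' : (t : ℤ) ≤ 2 := le_trans (le_mul_of_one_le_right (Int.natCast_nonneg t) hb1) hbabs
  have htt : t = 2 := by omega
  refine ⟨htt, ?_⟩
  rw [htt] at hc
  rcases D.δ_eq with hd | hd <;> omega

end H85.D1
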