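import Cfsg.Agent.H85.D1.Cyclo

/-!
Defect one (helper85): the totally ramified ring `R'`, its automorphisms, and the fact that they
act trivially modulo `M`.
-/

set_option autoImplicit false
set_option linter.style.haveILetI false
set_option linter.unusedSectionVars false

open Cfsg

namespace H85.D1

variable {p : ℕ} [hp : Fact p.Prime] {M : Ideal AlgInt} [hMp : M.IsPrime] {m : ℕ} {hm : 0 < m}

/-- The geometric sum modulo `p`. -/
theorem exists_sub_one_pow (p : ℕ) [hp : Fact p.Prime] : ∃ Q : Polynomial ℤ,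
    (Polynomial.X - 1) ^ (p - 1) =
      (∑ i ∈ Finset.range p, Polynomial.X ^ i) + Polynomial.C (p : ℤ) * Q := by
  obtain ⟨Q, hQ⟩ : Polynomial.C (p : ℤ) ∣
      (Polynomial.X - 1) ^ (p - 1) - ∑ i ∈ Finset.range p, Polynomial.X ^ i := by
    rw [Polynomial.C_dvd_iff_dvd_coeff]
    intro i
    rw [← ZMod.intCast_zmod_eq_zero_iff_dvd, ← eq_intCast (Int.castRingHom (ZMod p)),
      ← Polynomial.coeff_map]
    have key : ((Polynomial.X - 1) ^ (p - 1) : Polynomial (ZMod p)) =
        ∑ i ∈ Finset.range p, Polynomial.X ^ i := by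
      have h0 : (Polynomial.X - 1 : Polynomial (ZMod p)) ≠ 0 := by
        rw [← Polynomial.C_1]; exact Polynomial.X_sub_C_ne_zero 1
      refine mul_right_cancel₀ h0 ?_
      rw [← pow_succ, Nat.sub_add_cancel hp.out.one_le, geom_sum_mul, sub_pow_char, one_pow]
    simp [Polynomial.map_sum, key]
  exact ⟨Q, by linear_combination hQ⟩

theorem R'_rep {x : ℂ} (hx : x ∈ R' p M m hm) :
    ∃ f : Polynomial (R M m hm), f.eval₂ (R M m hm).subtype (zeta p) = x := by
  have h : R' p M m hm ≤ (Polynomial.eval₂RingHom (R M m hm).subtype (zeta p)).range := by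
    refine Subring.closure_le.2 ?_
    rintro z (hz | hz)
    · exact ⟨Polynomial.C ⟨z, hz⟩, by simp⟩
    · exact ⟨Polynomial.X, by simp [Set.mem_singleton_iff.1 hz]⟩
  exact h hx

theorem eval₂_mem_R' (f : Polynomial (R M m hm)) :
    f.eval₂ (R M m hm).subtype (zeta p) ∈ R' p M m hm := by
  induction f using Polynomial.induction_on' with
  | add f g hf hg => rw [Polynomial.eval₂_add]; exact add_mem hf hg
  | monomial n a =>
    rw [Polynomial.eval₂_monomial]
    exact mul_mem (R_le_R' a.2) (pow_mem zeta_mem n)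

theorem memRing_zeta : MemLocalRing M (zeta p) :=
  H20.memRing_of_pow_eq_one hp.out.pos isPrimitiveRoot_zeta.pow_eq_one

theorem memRing_R' {x : ℂ} (hx : x ∈ R' p M m hm) : MemLocalRing M x := by
  have h : R' p M m hm ≤ H20.O M := by
    refine Subring.closure_le.2 ?_
    rintro z (hz | hz)
    · exact H20.mem_O.2 (memRing_R hz)
    · exact H20.mem_O.2 (Set.mem_singleton_iff.1 hz ▸ memRing_zeta)
  exact h hx

theorem memIdeal_zeta_sub_one (hM : IsPModular p M) : MemLocalIdeal M (zeta p - 1) := by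
  have h1 : H20.red M (⟨zeta p, memRing_zeta⟩ : H20.O M) = 1 :=
    H20.red_eq_one_of_pow_p_pow hM (j := 1)
      (Subtype.ext (by simpa using isPrimitiveRoot_zeta.pow_eq_one))
  have h2 : H20.red M (⟨zeta p, memRing_zeta⟩ : H20.O M) = H20.red M (1 : H20.O M) := by
    rw [h1, map_one]
  simpa using (H20.red_eq_red_iff (M := M)).1 h2

/-- `(ζ - 1) ^ (p - 1)` is divisible by `p`. -/
theorem exists_pi_pow : ∃ w ∈ R' p M m hm, (zeta p - 1) ^ (p - 1) = (p : ℂ) * w := by
  obtain ⟨Q, hQ⟩ := exists_sub_one_pow p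
  refine ⟨Polynomial.aeval (zeta p) Q, ?_, ?_⟩
  · rw [Polynomial.aeval_eq_sum_range]
    exact sum_mem fun i _ => zsmul_mem (pow_mem zeta_mem i) _
  · have h := congrArg (Polynomial.aeval (zeta p)) hQ
    simpa [map_sum, isPrimitiveRoot_zeta.geom_sum_eq_zero hp.out.one_lt] using h

/-- The ideal of `R'` at `M` is generated by `ζ - 1`. -/
theorem exists_eq_pi_mul (hM : IsPModular p M) (hpm : ¬ p ∣ m) {x : ℂ} (hx : x ∈ R' p M m hm)
    (hxI : MemLocalIdeal M x) : ∃ y ∈ R' p M m hm, x = (zeta p - 1) * y := by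
  obtain ⟨f, rfl⟩ := R'_rep hx
  obtain ⟨g, hg⟩ : (Polynomial.X - Polynomial.C 1) ∣ f - Polynomial.C (f.eval 1) := by
    rw [Polynomial.dvd_iff_isRoot, Polynomial.IsRoot.def]; simp
  set e := Polynomial.eval₂RingHom (R M m hm).subtype (zeta p)
  have h1 : e f - ((f.eval 1 : R M m hm) : ℂ) = (zeta p - 1) * e g := by
    have := congrArg e hg
    simpa [e] using this
  have hI : MemLocalIdeal M ((f.eval 1 : R M m hm) : ℂ) := by
    have h4 : MemLocalIdeal M (e g * (zeta p - 1)) :=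
      H20.memIdeal_mul (memRing_R' (eval₂_mem_R' g)) (memIdeal_zeta_sub_one (p := p) hM)
    rw [mul_comm] at h4
    have h2 := H20.memIdeal_add hxI (H20.memIdeal_mul (H20.memRing_intCast (-1)) h4)
    rw [← h1] at h2
    convert h2 using 1
    push_cast
    show _ = e f + -1 * (e f - _)
    ring
  obtain ⟨y, hy, hye⟩ := exists_eq_mul_of_memIdeal hpm (f.eval 1).2 hI
  obtain ⟨u, hu⟩ : ∃ u : ℕ → ℂ, (∀ i, u i ∈ R' p M m hm) ∧
      ∀ i, zeta p ^ i - 1 = (zeta p - 1) * u i :=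
    ⟨fun i => ∑ j ∈ Finset.range i, zeta p ^ j,
      fun i => sum_mem fun j _ => pow_mem zeta_mem j,
      fun i => by rw [mul_geom_sum]⟩
  have hp' : (p : ℂ) = (zeta p - 1) * -(∑ i ∈ Finset.range p, u i) := by
    rw [mul_neg, Finset.mul_sum, ← Finset.sum_congr rfl fun i _ => hu.2 i,
      Finset.sum_sub_distrib, isPrimitiveRoot_zeta.geom_sum_eq_zero hp.out.one_lt]
    simp
  refine ⟨e g + -(∑ i ∈ Finset.range p, u i) * y,
    add_mem (eval₂_mem_R' g) (mul_mem (neg_mem (sum_mem fun i _ => hu.1 i)) (R_le_R' hy)), ?_⟩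
  have h3 : e f = (zeta p - 1) * e g + (p : ℂ) * y := by rw [← hye, ← h1]; ring
  show e f = _
  rw [h3]
  conv_lhs => rw [hp']
  ring

theorem not_dvd_val (k : (ZMod p)ˣ) : ¬ p ∣ (k : ZMod p).val := fun h => k.ne_zero (by
  rw [← ZMod.natCast_zmod_val (k : ZMod p)]
  exact (ZMod.natCast_eq_zero_iff _ _).2 h)

variable (M m hm) in
/-- The chosen automorphisms. -/
noncomputable def sig (hpm : ¬ p ∣ m) (k : (ZMod p)ˣ) : ℂ ≃+* ℂ :=
  (exists_sigma (M := M) hpm hm (k : ZMod p).val (not_dvd_val k)).choose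

variable {hpm : ¬ p ∣ m}

theorem sig_R (k : (ZMod p)ˣ) {z : ℂ} (hz : z ∈ R M m hm) : sig M m hm hpm k z = z :=
  (exists_sigma (M := M) hpm hm (k : ZMod p).val (not_dvd_val k)).choose_spec.1 z hz

theorem sig_zeta (k : (ZMod p)ˣ) : sig M m hm hpm k (zeta p) = zeta p ^ (k : ZMod p).val :=
  (exists_sigma (M := M) hpm hm (k : ZMod p).val (not_dvd_val k)).choose_spec.2.1

theorem sig_pow (k : (ZMod p)ˣ) {g : ℕ} (hg : g ∣ m * p) :
    ∃ l : ℕ, (∀ z : ℂ, z ^ g = 1 → sig M m hm hpm k z = z ^ l) ∧ Nat.Coprime l g ∧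
      l ≡ (k : ZMod p).val [MOD p] ∧ l ≡ 1 [MOD m] :=
  (exists_sigma (M := M) hpm hm (k : ZMod p).val (not_dvd_val k)).choose_spec.2.2 g hg

theorem sig_eval₂ (k : (ZMod p)ˣ) (f : Polynomial (R M m hm)) :
    sig M m hm hpm k (f.eval₂ (R M m hm).subtype (zeta p)) =
      f.eval₂ (R M m hm).subtype (zeta p ^ (k : ZMod p).val) := by
  rw [Polynomial.eval₂_eq_sum_range, Polynomial.eval₂_eq_sum_range, map_sum]
  refine Finset.sum_congr rfl fun i _ => ?_
  rw [map_mul, map_pow, sig_zeta]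
  exact congrArg (· * _) (sig_R k (f.coeff i).2)

theorem sig_mem_R' (k : (ZMod p)ˣ) {x : ℂ} (hx : x ∈ R' p M m hm) :
    sig M m hm hpm k x ∈ R' p M m hm := by
  obtain ⟨f, rfl⟩ := R'_rep hx
  rw [sig_eval₂, Polynomial.eval₂_eq_sum_range]
  exact sum_mem fun i _ => mul_mem (R_le_R' (f.coeff i).2) (pow_mem (pow_mem zeta_mem _) i)

theorem sig_comp (j k : (ZMod p)ˣ) {x : ℂ} (hx : x ∈ R' p M m hm) :
    sig M m hm hpm j (sig M m hm hpm k x) = sig M m hm hpm (j * k) x := by
  obtain ⟨f, rfl⟩ := R'_rep hx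
  rw [sig_eval₂, sig_eval₂, Polynomial.eval₂_eq_sum_range, Polynomial.eval₂_eq_sum_range, map_sum]
  refine Finset.sum_congr rfl fun i _ => ?_
  rw [map_mul, map_pow, map_pow, sig_zeta, ← pow_mul (zeta p) (j : ZMod p).val]
  congr 1
  · exact sig_R j (f.coeff i).2
  congr 1
  rw [pow_eq_pow_mod _ isPrimitiveRoot_zeta.pow_eq_one, Units.val_mul, ZMod.val_mul]

theorem sig_one {x : ℂ} (hx : x ∈ R' p M m hm) : sig M m hm hpm 1 x = x := by
  obtain ⟨f, rfl⟩ := R'_rep hx
  rw [sig_eval₂, Units.val_one, ZMod.val_one, pow_one]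

theorem sig_congr (hM : IsPModular p M) (k : (ZMod p)ˣ) {x : ℂ} (hx : x ∈ R' p M m hm) :
    MemLocalIdeal M (sig M m hm hpm k x - x) := by
  obtain ⟨f, rfl⟩ := R'_rep hx
  rw [sig_eval₂]
  set e := (zeta p : ℂ)
  let φ : Polynomial (R M m hm) → ℂ → ℂ := fun f z => f.eval₂ (R M m hm).subtype z
  have key : ∀ z : ℂ, MemLocalRing M z → MemLocalIdeal M (z - 1) →
      MemLocalIdeal M (φ f z - φ f 1) := by
    intro z hz hz1
    have hT : ∀ i : ℕ, MemLocalIdeal M (((f.coeff i : R M m hm) : ℂ) * z ^ i -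
        ((f.coeff i : R M m hm) : ℂ) * 1 ^ i) := by
      intro i
      rw [one_pow, ← mul_sub, ← geom_sum_mul z i]
      exact H20.memIdeal_mul (memRing_R (f.coeff i).2) (H20.memIdeal_mul
        (H20.mem_O.1 (sum_mem fun j _ => pow_mem (H20.mem_O.2 hz) j)) hz1)
    simp only [φ, Polynomial.eval₂_eq_sum_range, ← Finset.sum_sub_distrib]
    exact Finset.sum_induction _ (MemLocalIdeal M) (fun a b => H20.memIdeal_add)
      H20.memIdeal_zero fun i _ => hT i
  have hk : MemLocalIdeal M (e ^ (k : ZMod p).val - 1) := by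
    rw [← geom_sum_mul]
    exact H20.memIdeal_mul (H20.mem_O.1 (sum_mem fun j _ => pow_mem (H20.mem_O.2 memRing_zeta) j))
      (memIdeal_zeta_sub_one hM)
  have h1 := key _ (H20.mem_O.1 (pow_mem (H20.mem_O.2 memRing_zeta) _)) hk
  have h2 := key e memRing_zeta (memIdeal_zeta_sub_one hM)
  have h3 := H20.memIdeal_add h1 (H20.memIdeal_mul (H20.memRing_intCast (-1)) h2)
  convert h3 using 1
  push_cast
  show φ f _ - φ f _ = _
  ring

/-- An element of `R'` fixed by all automorphisms lies in `R`. -/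
theorem mem_R_of_fixed (hM : IsPModular p M) {x : ℂ} (hx : x ∈ R' p M m hm)
    (hfix : ∀ k, sig M m hm hpm k x = x) : x ∈ R M m hm := by
  classical
  obtain ⟨f, rfl⟩ := R'_rep hx
  have hsum : ∀ i : ℕ, (∑ k : (ZMod p)ˣ, (zeta p ^ (k : ZMod p).val) ^ i) ∈ R M m hm := by
    intro i
    let ψ : AddChar (ZMod p) ℂ := AddChar.zmodChar p isPrimitiveRoot_zeta.pow_eq_one
    have hterm : ∀ k : (ZMod p)ˣ, (zeta p ^ (k : ZMod p).val) ^ i =
        ψ ((k : ZMod p) * (i : ZMod p)) := by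
      intro k
      rw [AddChar.zmodChar_apply, ← pow_mul, ZMod.val_mul, ZMod.val_natCast,
        ← pow_eq_pow_mod _ isPrimitiveRoot_zeta.pow_eq_one, pow_mul, pow_mul,
        pow_eq_pow_mod i (show (zeta p ^ (k : ZMod p).val) ^ p = 1 by
          rw [← pow_mul, mul_comm, pow_mul, isPrimitiveRoot_zeta.pow_eq_one, one_pow])]
    rw [Finset.sum_congr rfl fun k _ => hterm k]
    have h1 : ∑ k : (ZMod p)ˣ, ψ ((k : ZMod p) * (i : ZMod p)) =
        ∑ a ∈ Finset.univ.erase (0 : ZMod p), ψ (a * (i : ZMod p)) := by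
      refine Finset.sum_bij (fun k _ => (k : ZMod p)) (fun k _ => by simp) (fun a _ b _ h => Units.ext h)
        (fun a ha => ⟨Units.mk0 a (Finset.ne_of_mem_erase ha), Finset.mem_univ _, rfl⟩) fun _ _ => rfl
    rw [h1, Finset.sum_erase_eq_sub (Finset.mem_univ _),
      AddChar.sum_mulShift _ (AddChar.zmodChar_primitive_of_primitive_root p isPrimitiveRoot_zeta),
      zero_mul, AddChar.map_zero_eq_one]
    refine sub_mem ?_ (one_mem _)
    exact natCast_mem _ _
  have h2 : ((p - 1 : ℕ) : ℂ) * f.eval₂ (R M m hm).subtype (zeta p) ∈ R M m hm := by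
    rw [show ((p - 1 : ℕ) : ℂ) * f.eval₂ (R M m hm).subtype (zeta p) =
      ∑ k : (ZMod p)ˣ, sig M m hm hpm k (f.eval₂ (R M m hm).subtype (zeta p)) by
        simp [hfix, Nat.totient_prime hp.out]]
    rw [Finset.sum_congr rfl fun k _ => (sig_eval₂ k f).trans (Polynomial.eval₂_eq_sum_range _ _),
      Finset.sum_comm]
    refine sum_mem fun i _ => ?_
    rw [← Finset.mul_sum]
    exact mul_mem (f.coeff i).2 (hsum i)
  have h3 := intCast_div_mem (hm := hm) (M := M) hM (n := p - 1) fun h => by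
    have := hp.out.two_le
    have := Nat.le_of_dvd (by omega) h
    omega
  have hne : ((p - 1 : ℕ) : ℂ) ≠ 0 := by
    have := hp.out.two_le
    exact_mod_cast (show p - 1 ≠ 0 by omega)
  have := mul_mem h3 h2
  rwa [← mul_assoc, inv_mul_cancel₀ hne, one_mul] at this

theorem prod_sig_mem (hM : IsPModular p M) {x : ℂ} (hx : x ∈ R' p M m hm) :
    ∏ k, sig M m hm hpm k x ∈ R M m hm := by
  refine mem_R_of_fixed hM (hpm := hpm) (prod_mem fun k _ => sig_mem_R' k hx) fun j => ?_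
  rw [map_prod, Finset.prod_congr rfl fun k _ => sig_comp j k hx]
  exact Equiv.prod_comp (Equiv.mulLeft j) fun k => sig M m hm hpm k x

/-- The cofactor of an element in its norm. -/
theorem exists_norm_eq (hM : IsPModular p M) (hpm : ¬ p ∣ m) {x : ℂ} (hx : x ∈ R' p M m hm) :
    ∃ c ∈ R' p M m hm, x * c ∈ R M m hm ∧ (x ≠ 0 → x * c ≠ 0) ∧
      (¬ MemLocalIdeal M x → ¬ MemLocalIdeal M (x * c)) := by
  classical
  refine ⟨∏ k ∈ Finset.univ.erase (1 : (ZMod p)ˣ), sig M m hm hpm k x,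
    prod_mem fun k _ => sig_mem_R' k hx, ?_⟩
  have e : x * ∏ k ∈ Finset.univ.erase (1 : (ZMod p)ˣ), sig M m hm hpm k x =
      ∏ k, sig M m hm hpm k x := by
    conv_lhs => arg 1; rw [← sig_one (hpm := hpm) hx]
    exact Finset.mul_prod_erase _ (fun k => sig M m hm hpm k x) (Finset.mem_univ 1)
  rw [e]
  refine ⟨prod_sig_mem hM hx, fun h0 => Finset.prod_ne_zero_iff.2 fun k _ => by simpa using h0,
    fun hI => ?_⟩
  refine (Finset.prod_induction (fun k => sig M m hm hpm k x)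
    (fun z => MemLocalRing M z ∧ ¬ MemLocalIdeal M z) ?_ ?_ ?_).2
  · rintro a b ⟨ha, ha'⟩ ⟨hb, hb'⟩
    exact ⟨H20.memRing_mul ha hb, not_memIdeal_mul ha ha' hb'⟩
  · exact ⟨by simpa using H20.memRing_natCast (M := M) 1, H20.not_memIdeal_one⟩
  · intro k _
    refine ⟨memRing_R' (sig_mem_R' k hx), fun h => hI ?_⟩
    have h2 := H20.memIdeal_add h
      (H20.memIdeal_mul (H20.memRing_intCast (-1)) (sig_congr (hpm := hpm) hM k hx))
    convert h2 using 1
    push_cast
    ring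

theorem inv_mem_R' (hM : IsPModular p M) (hpm : ¬ p ∣ m) {x : ℂ} (hx : x ∈ R' p M m hm)
    (hxI : ¬ MemLocalIdeal M x) : x⁻¹ ∈ R' p M m hm := by
  obtain ⟨c, hc, hR, hne, hI⟩ := exists_norm_eq hM hpm hx
  have hx0 : x ≠ 0 := fun h => hxI (h ▸ H20.memIdeal_zero)
  have h1 := mul_mem hc (R_le_R' (p := p) (inv_mem_R hR (hI hxI)))
  have hc0 : c ≠ 0 := fun h => hne hx0 (by rw [h, mul_zero])
  rwa [mul_inv, mul_comm x⁻¹, ← mul_assoc, mul_inv_cancel₀ hc0, one_mul] at h1

theorem pi_ne_zero : zeta p - 1 ≠ 0 :=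
  sub_ne_zero.2 (isPrimitiveRoot_zeta.ne_one hp.out.one_lt)

theorem exists_pi_pow_mul (hM : IsPModular p M) (hpm : ¬ p ∣ m) {x : ℂ} (hx : x ∈ R' p M m hm)
    (hx0 : x ≠ 0) :
    ∃ k : ℕ, ∃ u ∈ R' p M m hm, ¬ MemLocalIdeal M u ∧ x = (zeta p - 1) ^ k * u := by
  classical
  let P : ℕ → Prop := fun k => ∃ y ∈ R' p M m hm, x = (zeta p - 1) ^ k * y
  have h0 : P 0 := ⟨x, hx, by simp⟩
  obtain ⟨c, hc, hR, hne, -⟩ := exists_norm_eq hM hpm hx
  obtain ⟨j, u, hu, huI, hju⟩ := exists_pow_mul hM hpm hR (hne hx0)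
  obtain ⟨w, hw, hwp⟩ := exists_pi_pow (p := p) (M := M) (m := m) (hm := hm)
  have hfail : ∃ k, ¬ P (k + 1) := by
    refine ⟨(p - 1) * (j + 1), fun ⟨y, hy, hxy⟩ => huI ?_⟩
    rw [hxy, pow_succ, pow_mul, hwp, mul_pow, pow_succ] at hju
    have hpj : (p : ℂ) ^ j ≠ 0 := pow_ne_zero _ (Nat.cast_ne_zero.2 hp.out.ne_zero)
    have he : u = w ^ (j + 1) * (zeta p - 1) * y * c * (p : ℂ) := mul_left_cancel₀ hpj (by
      rw [← hju]; ring)
    rw [he]
    exact H20.memIdeal_mul (memRing_R' (mul_mem (mul_mem (mul_mem (pow_mem hw _)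
      (sub_mem zeta_mem (one_mem _))) hy) hc)) (H20.memIdeal_p hM)
  have hP : P (Nat.find hfail) := by
    rcases Nat.eq_zero_or_pos (Nat.find hfail) with h' | h'
    · rw [h']; exact h0
    · have := Nat.find_min hfail (show Nat.find hfail - 1 < Nat.find hfail by omega)
      rwa [not_not, Nat.sub_add_cancel h'] at this
  obtain ⟨y, hy, hxy⟩ := hP
  refine ⟨_, y, hy, fun hyI => Nat.find_spec hfail ?_, hxy⟩
  obtain ⟨z, hz, hyz⟩ := exists_eq_pi_mul hM hpm hy hyI
  exact ⟨z, hz, by rw [hxy, hyz, pow_succ, mul_assoc]⟩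

/-- An element of `K'` integral over `R` lies in `R'`. -/
theorem mem_R'_of_isIntegral (hM : IsPModular p M) (hpm : ¬ p ∣ m) {z : ℂ}
    (hz : z ∈ K' p M m hm) (hint : IsIntegral (R M m hm) z) : z ∈ R' p M m hm := by
  obtain ⟨a, ha, b, hb, rfl⟩ := Subfield.mem_closure_iff.1 hz
  rcases eq_or_ne b 0 with rfl | hb0
  · rw [div_zero]; exact zero_mem _
  obtain ⟨k, u, hu, huI, rfl⟩ := exists_pi_pow_mul hM hpm hb hb0
  have hw : a / u ∈ R' p M m hm := by
    rw [div_eq_mul_inv]; exact mul_mem ha (inv_mem_R' hM hpm hu huI)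
  suffices h : ∀ k : ℕ, ∀ w ∈ R' p M m hm, IsIntegral (R M m hm) (w / (zeta p - 1) ^ k) →
      w / (zeta p - 1) ^ k ∈ R' p M m hm by
    have e : a / ((zeta p - 1) ^ k * u) = a / u / (zeta p - 1) ^ k := by
      rw [div_div, mul_comm u]
    rw [e] at hint ⊢
    exact h k _ hw hint
  intro k
  induction k with
  | zero => intro w hw _; simpa using hw
  | succ k ih =>
    intro w hw hint
    have hwI : MemLocalIdeal M w := by
      by_contra hwI
      obtain ⟨f, hf, hf0⟩ := hint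
      set q := (zeta p - 1) ^ (k + 1) with hq
      have hq0 : q ≠ 0 := pow_ne_zero _ pi_ne_zero
      have hqI : MemLocalIdeal M q := by
        rw [hq, pow_succ]
        exact H20.memIdeal_mul (H20.mem_O.1 (pow_mem (H20.mem_O.2
          (memRing_R' (p := p) (m := m) (hm := hm) (sub_mem zeta_mem (one_mem _)))) k))
          (memIdeal_zeta_sub_one hM)
      rw [Polynomial.eval₂_eq_sum_range, Finset.sum_range_succ, hf.coeff_natDegree, map_one,
        one_mul] at hf0
      have h1 : w ^ f.natDegree = -∑ i ∈ Finset.range f.natDegree,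
          ((f.coeff i : R M m hm) : ℂ) * w ^ i * q ^ (f.natDegree - i) := by
        have h2 := congrArg (· * q ^ f.natDegree) hf0
        simp only [add_mul, zero_mul, Finset.sum_mul, div_pow, div_mul_cancel₀ _ (pow_ne_zero _ hq0)] at h2
        rw [eq_neg_iff_add_eq_zero, ← h2, add_comm]
        congr 1
        refine Finset.sum_congr rfl fun i hi => ?_
        rw [Finset.mem_range] at hi
        change _ = ((f.coeff i : R M m hm) : ℂ) * (w ^ i / q ^ i) * q ^ f.natDegree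
        rw [← Nat.sub_add_cancel hi.le, pow_add, Nat.sub_add_cancel hi.le]
        field_simp
      have h3 : MemLocalIdeal M (w ^ f.natDegree) := by
        rw [h1, ← neg_one_mul]
        refine H20.memIdeal_mul (by simpa using H20.memRing_intCast (M := M) (-1)) ?_
        refine Finset.sum_induction _ (MemLocalIdeal M) (fun a b => H20.memIdeal_add)
          H20.memIdeal_zero fun i hi => ?_
        obtain ⟨d, hd⟩ : ∃ d, f.natDegree - i = d + 1 :=
          ⟨f.natDegree - i - 1, by rw [Finset.mem_range] at hi; omega⟩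
        rw [hd, pow_succ, ← mul_assoc]
        exact H20.memIdeal_mul (H20.memRing_mul (H20.memRing_mul (memRing_R (f.coeff i).2)
          (H20.mem_O.1 (pow_mem (H20.mem_O.2 (memRing_R' hw)) i)))
          (H20.mem_O.1 (pow_mem (H20.mem_O.2 (H20.memRing_of_memIdeal hqI)) d))) hqI
      have h4 : ∀ n : ℕ, ¬ MemLocalIdeal M (w ^ n) := by
        intro n
        induction n with
        | zero => simpa using H20.not_memIdeal_one
        | succ n ihn =>
          rw [pow_succ]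
          exact not_memIdeal_mul (H20.mem_O.1 (pow_mem (H20.mem_O.2 (memRing_R' hw)) n)) ihn hwI
      exact h4 _ h3
    obtain ⟨y, hy, rfl⟩ := exists_eq_pi_mul hM hpm hw hwI
    have e : (zeta p - 1) * y / (zeta p - 1) ^ (k + 1) = y / (zeta p - 1) ^ k := by
      rw [pow_succ', mul_div_mul_left _ _ pi_ne_zero]
    rw [e] at hint ⊢
    exact ih y hy hint

/-- The automorphisms act trivially modulo `M` on integral elements of `K'`. -/
theorem sig_congr_of_isIntegral (hM : IsPModular p M) (k : (ZMod p)ˣ) {z : ℂ}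
    (hz : z ∈ K' p M m hm) (hint : IsIntegral (R M m hm) z) :
    MemLocalIdeal M (sig M m hm hpm k z - z) :=
  sig_congr hM k (mem_R'_of_isIntegral hM hpm hz hint)

end H85.D1
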