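import Cfsg.Agent.H85.D1.Inequality
import Cfsg.Agent.H20.PrincipalFreeThree

/-!
Defect one (helper85): the normalizer of a Sylow subgroup of order `p` and the form of the orbit
inequality for characters of the principal block.
-/

set_option autoImplicit false
set_option linter.style.haveILetI false
set_option linter.unusedSectionVars false

open Cfsg H20
open scoped ComplexConjugate

namespace H85.D1

universe u

variable {G : Type u} [Group G] [Fintype G] {p : ℕ} [hp : Fact p.Prime] {P : Sylow p G}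

/-- A Sylow subgroup of order `p` has free inertial action. -/
theorem freeSylow_of_card (hP : Nat.card P = p) : FreeSylow P := by
  haveI : IsCyclic (P : Subgroup G) := isCyclic_of_prime_card hP
  refine ⟨fun a ha b hb => ?_, fun y hy hy1 g hg => ?_⟩
  · letI := IsCyclic.commGroup (α := (P : Subgroup G))
    exact congrArg Subtype.val (mul_comm (⟨a, ha⟩ : (P : Subgroup G)) ⟨b, hb⟩)
  · intro w hw
    have hgen : (⟨w, hw⟩ : (P : Subgroup G)) ∈ Subgroup.zpowers (⟨y, hy⟩ : (P : Subgroup G)) :=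
      mem_zpowers_of_prime_card hP fun h => hy1 (congrArg Subtype.val h)
    obtain ⟨k, hk⟩ := Subgroup.mem_zpowers_iff.1 hgen
    have hk' : y ^ k = w := congrArg Subtype.val hk
    rw [← hk']
    exact ((show Commute y g from (Subgroup.mem_centralizer_singleton_iff.1 hg.1).symm).zpow_left k).eq

theorem exists_generator (hP : Nat.card P = p) :
    ∃ u : G, Subgroup.zpowers u = (P : Subgroup G) ∧ orderOf u = p := by
  haveI : IsCyclic (P : Subgroup G) := isCyclic_of_prime_card hP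
  obtain ⟨⟨u, hu⟩, hgen⟩ := IsCyclic.exists_generator (α := (P : Subgroup G))
  have hz : Subgroup.zpowers u = (P : Subgroup G) := by
    refine le_antisymm (Subgroup.zpowers_le.2 hu) fun w hw => ?_
    obtain ⟨k, hk⟩ := Subgroup.mem_zpowers_iff.1 (hgen ⟨w, hw⟩)
    exact ⟨k, congrArg Subtype.val hk⟩
  exact ⟨u, hz, by rw [← Nat.card_zpowers, hz]; exact hP⟩

/-- The data of the normalizer of a Sylow subgroup of order `p`. -/
structure NormData (P : Sylow p G) where
  u : G
  n0 : G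
  a : ℕ
  K : Subgroup G
  zpowers_u : Subgroup.zpowers u = (P : Subgroup G)
  orderOf_u : orderOf u = p
  not_dvd_a : ¬ p ∣ a
  conj_u : n0 * u = u ^ a * n0
  not_dvd_card : ¬ p ∣ Nat.card K
  comm : ∀ y ∈ K, y * u = u * y
  conj_mem : ∀ y ∈ K, n0 * y * n0⁻¹ ∈ K
  n0_pow : n0 ^ (p - 1) ∈ K
  gen : ∀ x ∈ Subgroup.normalizer ((P : Subgroup G) : Set G),
    ∃ i j : ℕ, ∃ y ∈ K, x = u ^ i * n0 ^ j * y

theorem pow_mod_iff {u : G} (hu : orderOf u = p) {i j : ℕ} :
    u ^ i = u ^ j ↔ (i : ZMod p) = (j : ZMod p) := by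
  rw [pow_eq_pow_iff_modEq, hu, ZMod.natCast_eq_natCast_iff]

theorem exists_normData (hP : Nat.card P = p) : Nonempty (NormData P) := by
  classical
  obtain ⟨u, hu, huord⟩ := exists_generator hP
  have hfree := freeSylow_of_card hP
  have huP : u ∈ (P : Subgroup G) := hu ▸ Subgroup.mem_zpowers u
  have hu1 : u ≠ 1 := fun h => by
    rw [h, orderOf_one] at huord
    exact hp.out.ne_one huord.symm
  set C := Subgroup.centralizer ({u} : Set G) with hC
  obtain ⟨T, K0, hK0n, hK0⟩ := hfree.centralizer_complement huP hu1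
  haveI := hK0n
  have hK0card : ¬ p ∣ Nat.card K0 := by
    have h1 := hK0.card_mul_card
    have h2 := (T : Subgroup C).card_mul_index
    rw [← h2, mul_comm (Nat.card T)] at h1
    rw [Nat.eq_of_mul_eq_mul_right Nat.card_pos h1]
    exact T.not_dvd_index
  have hmem : ∀ x : C, ¬ p ∣ orderOf x → x ∈ K0 := by
    intro x hx
    have hq : Nat.card (C ⧸ K0) = Nat.card T := by
      have h1 := hK0.card_mul_card
      have h2 := K0.card_mul_index
      rw [← h2] at h1
      exact (Nat.eq_of_mul_eq_mul_left Nat.card_pos h1).symm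
    obtain ⟨k, hk⟩ := T.2.exists_card_eq
    have h3 : orderOf (x : C ⧸ K0) ∣ p ^ k := by
      rw [← hk, ← hq]; exact orderOf_dvd_natCard _
    have h4 : orderOf (x : C ⧸ K0) ∣ orderOf x := orderOf_map_dvd (QuotientGroup.mk' K0) x
    have h5 : orderOf (x : C ⧸ K0) = 1 := Nat.eq_one_of_dvd_coprimes
      (Nat.Coprime.pow_left k ((hp.out.coprime_iff_not_dvd).2 hx)) h3 h4
    rwa [orderOf_eq_one_iff, QuotientGroup.eq_one_iff] at h5
  set K := K0.map C.subtype with hK
  have hKcard : ¬ p ∣ Nat.card K := by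
    rwa [hK, Subgroup.card_map_of_injective C.subtype_injective]
  have hKC : ∀ y ∈ K, y * u = u * y := by
    rintro _ ⟨y, -, rfl⟩
    exact Subgroup.mem_centralizer_singleton_iff.1 y.2
  have hCmem : ∀ x : G, x * u = u * x → ¬ p ∣ orderOf x → x ∈ K := fun x hx hxo =>
    ⟨⟨x, Subgroup.mem_centralizer_singleton_iff.2 hx⟩, hmem _ (by rwa [Subgroup.orderOf_mk]), rfl⟩
  have hKord : ∀ y ∈ K, ¬ p ∣ orderOf y := fun y hy h => hKcard (h.trans
    (by rw [← Subgroup.orderOf_mk y hy]; exact orderOf_dvd_natCard _))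
  -- the centralizer
  have hdec : ∀ x : G, x * u = u * x → ∃ i : ℕ, ∃ k ∈ K, x = u ^ i * k := by
    intro x hx
    have hxu : Commute x u := hx
    obtain ⟨n, hn⟩ := mem_powers_iff_mem_zpowers.2 (H20.mem_zpowers_pPart (p := p) x)
    have hcp : Commute (H20.pPart p x) u := by
      rw [← show x ^ n = H20.pPart p x from hn]; exact hxu.pow_left n
    have hcq : Commute (H20.qPart p x) u := by
      have h : H20.qPart p x = (H20.pPart p x)⁻¹ * x := by
        conv_rhs => arg 2; rw [← H20.pPart_mul_qPart (p := p) x]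
        rw [inv_mul_cancel_left]
      rw [h]
      exact hcp.inv_left.mul_left hxu
    have hzc : H20.pPart p x ∈ (P : Subgroup G) := by
      have h1 : H20.pPart p x ∈ Subgroup.normalizer ((P : Subgroup G) : Set G) := by
        refine Subgroup.centralizer_le_normalizer _ fun w hw => ?_
        rw [← hu] at hw
        obtain ⟨k, rfl⟩ := Subgroup.mem_zpowers_iff.1 hw
        exact (hcp.symm.zpow_left k).eq
      obtain ⟨j, hj⟩ := H20.exists_orderOf_pPart (p := p) x
      have h2 : IsPGroup p (Subgroup.zpowers (H20.pPart p x)) :=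
        IsPGroup.of_card (n := j) (by rw [Nat.card_zpowers, hj])
      exact ((SetLike.ext_iff.1 (h2.inf_normalizer_sylow P) _).1
        (Subgroup.mem_inf.2 ⟨Subgroup.mem_zpowers _, h1⟩)).2
    rw [← hu, ← mem_powers_iff_mem_zpowers] at hzc
    obtain ⟨i, hi⟩ := hzc
    obtain ⟨w, hw1, hw2, -, hw4⟩ := H20.isPPart_pPart (p := p) x
    have hwq : w = H20.qPart p x := by
      have := hw1.trans (H20.pPart_mul_qPart (p := p) x).symm
      exact mul_left_cancel this
    exact ⟨i, H20.qPart p x, hCmem _ hcq (hwq ▸ hw4),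
      by rw [show u ^ i = H20.pPart p x from hi, H20.pPart_mul_qPart]⟩
  -- the exponent homomorphism
  set N := Subgroup.normalizer ((P : Subgroup G) : Set G) with hN
  have hexp : ∀ x : N, ∃ a : ℕ, (x : G) * u * (x : G)⁻¹ = u ^ a := fun x => by
    have h1 : (x : G) * u * (x : G)⁻¹ ∈ (P : Subgroup G) := (Subgroup.mem_normalizer_iff.1 x.2 u).1 huP
    rw [← hu, ← mem_powers_iff_mem_zpowers] at h1
    obtain ⟨a, ha⟩ := h1
    exact ⟨a, ha.symm⟩
  choose a ha using hexp
  have hcpow : ∀ (x : G) (a n : ℕ), x * u * x⁻¹ = u ^ a → x * u ^ n * x⁻¹ = u ^ (a * n) :=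
    fun x a n h => by rw [← conj_pow, h, pow_mul]
  let ψ0 : N →* ZMod p :=
    { toFun := fun x => (a x : ZMod p)
      map_one' := by
        rw [← Nat.cast_one, ← pow_mod_iff huord, ← ha]; simp
      map_mul' := fun x y => by
        rw [← Nat.cast_mul, ← pow_mod_iff huord, ← ha (x * y)]
        calc (↑(x * y) : G) * u * (↑(x * y) : G)⁻¹
            = (x : G) * ((y : G) * u * (y : G)⁻¹) * (x : G)⁻¹ := by push_cast; group
          _ = u ^ (a x * a y) := by rw [ha y, hcpow _ _ _ (ha x)] }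
  let ψ : N →* (ZMod p)ˣ := ψ0.toHomUnits
  have hψ : ∀ x : N, (ψ x : ZMod p) = (a x : ZMod p) := fun x => rfl
  haveI : IsCyclic ψ.range := inferInstance
  obtain ⟨⟨g, n, hn⟩, hgen⟩ := IsCyclic.exists_generator (α := ψ.range)
  set n0 : N := n ^ p with hn0
  have hψn0 : ψ n0 = g := by
    rw [hn0, map_pow, hn]
    exact (congrArg (g ^ ·) (Nat.sub_add_cancel hp.out.one_le).symm).trans
      (by rw [pow_succ, ZMod.units_pow_card_sub_one_eq_one, one_mul])
  have hker : ∀ x : N, ψ x = 1 → (x : G) * u = u * x := fun x hx => by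
    have h1 : (a x : ZMod p) = ((1 : ℕ) : ZMod p) := by rw [← hψ, hx, Units.val_one, Nat.cast_one]
    have h2 := ha x
    rw [(pow_mod_iff huord).2 h1, pow_one] at h2
    exact mul_inv_eq_iff_eq_mul.1 h2
  have hnK : ∀ y ∈ K, (n0 : G) * y * (n0 : G)⁻¹ ∈ K := fun y hy => by
    refine hCmem _ ?_ (by rw [H20.orderOf_conj']; exact hKord y hy)
    have h3 : Commute y (u ^ a n0⁻¹) := Commute.pow_right (hKC y hy) _
    have h4 : (n0 : G)⁻¹ * u * (n0 : G) = u ^ a n0⁻¹ := by simpa using ha n0⁻¹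
    rw [← h4] at h3
    calc (n0 : G) * y * (n0 : G)⁻¹ * u
        = (n0 : G) * (y * ((n0 : G)⁻¹ * u * (n0 : G))) * (n0 : G)⁻¹ := by group
      _ = (n0 : G) * (((n0 : G)⁻¹ * u * (n0 : G)) * y) * (n0 : G)⁻¹ := by rw [h3.eq]
      _ = u * ((n0 : G) * y * (n0 : G)⁻¹) := by group
  refine ⟨⟨u, n0, a n0, K, hu, huord, fun h => ?_, mul_inv_eq_iff_eq_mul.1 (ha n0), hKcard, hKC,
    hnK, ?_, fun x hx => ?_⟩⟩
  · have := (ψ n0).ne_zero
    rw [hψ, ne_eq, ZMod.natCast_eq_zero_iff] at this
    exact this h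
  · have h1 : ψ (n ^ (p - 1)) = 1 := by rw [map_pow, ZMod.units_pow_card_sub_one_eq_one]
    obtain ⟨i, k, hk, hik⟩ := hdec _ (hker _ h1)
    rw [hn0, SubgroupClass.coe_pow, ← pow_mul, mul_comm, pow_mul, ← SubgroupClass.coe_pow, hik,
      (show Commute (u ^ i) k from ((show Commute k u from hKC k hk).pow_right i).symm).mul_pow,
      ← pow_mul, mul_comm, pow_mul, ← huord, pow_orderOf_eq_one, one_pow, one_mul]
    exact pow_mem hk _
  · obtain ⟨j, hj⟩ : ∃ j : ℕ, g ^ j = ψ ⟨x, hx⟩ := by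
      have h1 := hgen ⟨ψ ⟨x, hx⟩, ⟨_, rfl⟩⟩
      rw [← mem_powers_iff_mem_zpowers] at h1
      obtain ⟨j, hj⟩ := h1
      exact ⟨j, congrArg Subtype.val hj⟩
    have h1 : ψ ((n0 ^ j)⁻¹ * ⟨x, hx⟩) = 1 := by
      rw [map_mul, map_inv, map_pow, hψn0, hj, inv_mul_cancel]
    obtain ⟨i, k, hk, hik⟩ := hdec _ (hker _ h1)
    refine ⟨a (n0 ^ j) * i, j, k, hk, ?_⟩
    have h2 : x = ((n0 ^ j : N) : G) * (u ^ i * k) := by rw [← hik]; push_cast; group
    calc x = ((n0 ^ j : N) : G) * (u ^ i * k) := h2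
      _ = (((n0 ^ j : N) : G) * u ^ i * ((n0 ^ j : N) : G)⁻¹) * ((n0 ^ j : N) : G) * k := by group
      _ = _ := by rw [hcpow _ _ _ (ha (n0 ^ j)), SubgroupClass.coe_pow]

/-- The order of the roots of unity used. -/
noncomputable def mOf (G : Type u) [Group G] (p : ℕ) : ℕ :=
  Nat.card G / p ^ (Nat.card G).factorization p * (p ^ Nat.card G - 1)

theorem mOf_pos : 0 < mOf G p := Nat.mul_pos
  (Nat.div_pos (Nat.le_of_dvd Nat.card_pos (Nat.ordProj_dvd _ _)) (pow_pos hp.out.pos _))
  (Nat.sub_pos_of_lt (Nat.one_lt_pow Nat.card_pos.ne' hp.out.one_lt))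

theorem not_dvd_mOf : ¬ p ∣ mOf G p := by
  intro h
  rcases hp.out.dvd_mul.1 h with h | h
  · exact Nat.not_dvd_ordCompl hp.out Nat.card_pos.ne' h
  · have h1 : p ∣ p ^ Nat.card G := dvd_pow_self p Nat.card_pos.ne'
    have h2 : 1 ≤ p ^ Nat.card G := Nat.one_le_pow _ _ hp.out.pos
    have h3 := Nat.dvd_sub h1 h
    rw [show p ^ Nat.card G - (p ^ Nat.card G - 1) = 1 by omega] at h3
    exact hp.out.not_dvd_one h3

theorem factorization_card (hP : Nat.card P = p) : (Nat.card G).factorization p = 1 := by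
  have h := P.card_eq_multiplicity
  rw [hP] at h
  exact (Nat.pow_right_injective hp.out.two_le ((pow_one p).trans h)).symm

theorem card_dvd_mOf (hP : Nat.card P = p) : Nat.card G ∣ mOf G p * p := by
  refine Dvd.intro (p ^ Nat.card G - 1) ?_
  conv_lhs => arg 1; rw [← Nat.ordProj_mul_ordCompl_eq_self (Nat.card G) p]
  rw [mOf, factorization_card hP, pow_one]
  ring

theorem sub_one_dvd_mOf : p - 1 ∣ mOf G p :=
  (by simpa using Nat.sub_dvd_pow_sub_pow p 1 (Nat.card G) : p - 1 ∣ p ^ Nat.card G - 1).mul_left _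

theorem card_lt_mOf (hP : Nat.card P = p) (hodd : p ≠ 2) : Nat.card G < mOf G p := by
  have h3 : 3 ≤ p := by have := hp.out.two_le; omega
  have hn := Nat.card_pos (α := G)
  have h1 : Nat.card G < 3 ^ Nat.card G - 1 := by
    have : ∀ n : ℕ, 1 ≤ n → n + 1 < 3 ^ n := fun n hn => by
      induction n, hn using Nat.le_induction with
      | base => norm_num
      | succ n hn ih => rw [pow_succ]; omega
    have := this _ hn
    omega
  refine h1.trans_le ((Nat.sub_le_sub_right (Nat.pow_le_pow_left h3 _) 1).trans ?_)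
  exact Nat.le_mul_of_pos_left _ (Nat.div_pos (Nat.le_of_dvd hn (Nat.ordProj_dvd _ _))
    (pow_pos hp.out.pos _))

end H85.D1
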