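import Cfsg.Agent.H85.D1.Lattice

/-!
Defect one (helper85): the shift of a lattice for a group of order `p`; it gives the frame for
`ker (nrm σ) / range (σ - 1)`.
-/

set_option autoImplicit false
set_option linter.style.haveILetI false
set_option linter.unusedSectionVars false

open Module

namespace H85.D1

universe u v

variable {R : Type u} [CommRing R] [IsDomain R] [IsPrincipalIdealRing R]
variable {M : Type v} [AddCommGroup M] [Module R M] [Module.Free R M] [Module.Finite R M]
variable {p : ℕ} [hp : Fact p.Prime]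

/-- The translation of functions on `ZMod p`. -/
def transl (R : Type u) [CommRing R] (M : Type v) [AddCommGroup M] [Module R M] {p : ℕ}
    (u : ZMod p) : End R (ZMod p → M) :=
  LinearMap.pi fun v => LinearMap.proj (v - u)

@[simp] theorem transl_apply (u : ZMod p) (φ : ZMod p → M) (v : ZMod p) :
    transl R M u φ v = φ (v - u) := rfl

theorem transl_mul (u v : ZMod p) : transl R M u * transl R M v = transl R M (u + v) :=
  LinearMap.ext fun φ => funext fun w => congrArg φ (show w - u - v = w - (u + v) by ring)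

theorem transl_zero : transl R M (0 : ZMod p) = 1 :=
  LinearMap.ext fun φ => funext fun w => congrArg φ (sub_zero w)

theorem transl_pow (u : ZMod p) (n : ℕ) : transl R M u ^ n = transl R M ((n : ZMod p) * u) := by
  induction n with
  | zero => rw [pow_zero, Nat.cast_zero, zero_mul, transl_zero]
  | succ n ih => rw [pow_succ, ih, transl_mul, Nat.cast_succ, add_one_mul]

/-- The action of the powers of `σ` indexed by `ZMod p`. -/
def pw (σ : End R M) (u : ZMod p) : End R M := σ ^ u.val

theorem pw_add {σ : End R M} (hσ : σ ^ p = 1) (u v : ZMod p) : pw σ (u + v) = pw σ u * pw σ v := by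
  rw [pw, pw, pw, ← pow_add, ZMod.val_add, ← pow_eq_pow_mod _ hσ]

theorem pw_zero {σ : End R M} : pw σ (0 : ZMod p) = 1 := by rw [pw, ZMod.val_zero, pow_zero]

theorem pw_one {σ : End R M} : pw σ (1 : ZMod p) = σ := by rw [pw, ZMod.val_one, pow_one]

theorem sum_pw {σ : End R M} : ∑ u : ZMod p, pw σ u = nrm p σ := by
  rw [nrm]
  refine Finset.sum_bij (fun u _ => u.val) (fun u _ => Finset.mem_range.2 (ZMod.val_lt u))
    (fun u _ v _ h => ZMod.val_injective p h)
    (fun i hi => ⟨(i : ZMod p), Finset.mem_univ _,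
      ZMod.val_natCast_of_lt (Finset.mem_range.1 hi)⟩) fun u _ => rfl

section Coframe

variable [CharZero R] (hirr : Irreducible (p : R))
variable {ω : R} (hω : IsPrimitiveRoot ω (p - 1)) {cinv : R}
  (hcinv : cinv * ((p - 1 : ℕ) : R) = 1)
variable (σ ν : End R M) (hσ : σ ^ p = 1) (hν : ν ^ (p - 1) = 1) {a : ℕ} (ha : ¬ p ∣ a)
  (hνσ : ν * σ = σ ^ a * ν)

include hirr hω hcinv hσ hν ha hνσ in
/-- A frame for `ker (nrm σ) / range (σ - 1)`. -/
theorem exists_coframe {S : ℤ}
    (hS : ∑ i ∈ Finset.Ico 1 p, LinearMap.trace R M (σ ^ i) = (S : R)) :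
    ∃ (s : ℕ) (v : Fin s → M), -S ≤ (p : ℤ) * s ∧ (∀ j, nrm p σ (v j) = 0) ∧
      (∀ j (c : R), c • v j ∈ LinearMap.range (σ - 1) → (p : R) ∣ c) ∧
      ∀ c : Fin s → R, ∃ f : End R M, f * σ = σ * f ∧ f * ν = ν * f ∧
        ∀ j, f (v j) - c j • v j ∈ LinearMap.range (σ - 1) := by
  classical
  haveI : NeZero p := ⟨hp.out.ne_zero⟩
  set π : (ZMod p → M) →ₗ[R] M := ∑ u : ZMod p, (pw σ u).comp (LinearMap.proj u) with hπ
  have hπa : ∀ φ, π φ = ∑ u : ZMod p, pw σ u (φ u) := fun φ => by simp [hπ, LinearMap.sum_apply]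
  have hπT : ∀ (w : ZMod p) φ, π (transl R M w φ) = pw σ w (π φ) := fun w φ => by
    rw [hπa, hπa, map_sum]
    refine Fintype.sum_equiv (Equiv.subRight w) _ _ fun u => ?_
    rw [Equiv.subRight_apply, ← End.mul_apply, ← pw_add hσ, add_sub_cancel]
    rfl
  let δ : M →ₗ[R] (ZMod p → M) := LinearMap.single R (fun _ => M) 0
  have hδ : ∀ y u, δ y u = if u = 0 then y else 0 := fun y u => by
    simp [δ, Pi.single_apply]
  have hπδ : ∀ y, π (δ y) = y := fun y => by
    rw [hπa, Finset.sum_eq_single 0 (fun u _ hu => by rw [hδ, if_neg hu, map_zero]) (by simp),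
      hδ, if_pos rfl, pw_zero, End.one_apply]
  set L1 : Submodule R (ZMod p → M) := LinearMap.ker π with hL1
  have hL1mem : ∀ φ, φ ∈ L1 ↔ π φ = 0 := fun φ => LinearMap.mem_ker
  let r : (ZMod p → M) →ₗ[R] L1 := (LinearMap.id - δ.comp π).codRestrict L1 fun φ => by
    rw [hL1mem, LinearMap.sub_apply, LinearMap.comp_apply, LinearMap.id_apply, map_sub, hπδ,
      sub_self]
  have hr : ∀ φ : L1, r φ.1 = φ := fun φ => Subtype.ext (by
    show φ.1 - δ (π φ.1) = φ.1
    rw [(hL1mem _).1 φ.2, map_zero, sub_zero])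
  -- the operators on the shift
  have hTmem : ∀ (w : ZMod p), ∀ φ ∈ L1, transl R M w φ ∈ L1 := fun w φ hφ => by
    rw [hL1mem] at hφ ⊢
    rw [hπT, hφ, map_zero]
  let σ1 : End R L1 := (transl R M (1 : ZMod p)).restrict (hTmem 1)
  have hσ1pow : ∀ (i : ℕ) (φ : L1), ((σ1 ^ i) φ).1 = transl R M (i : ZMod p) φ.1 := fun i => by
    induction i with
    | zero => intro φ; rw [pow_zero, Nat.cast_zero, transl_zero]; rfl
    | succ i ih =>
      intro φ
      rw [pow_succ', End.mul_apply, Nat.cast_succ, add_comm, ← transl_mul, End.mul_apply, ← ih φ]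
      rfl
  have hσ1 : σ1 ^ p = 1 := LinearMap.ext fun φ => Subtype.ext (by
    rw [hσ1pow, ZMod.natCast_self, transl_zero]; rfl)
  have hacast : (a : ZMod p) ≠ 0 := fun h0 => ha ((ZMod.natCast_eq_zero_iff _ _).1 h0)
  set b : ZMod p := (a : ZMod p)⁻¹ with hb
  let νP : End R (ZMod p → M) := LinearMap.pi fun u => ν.comp (LinearMap.proj (b * u))
  have hνP : ∀ φ u, νP φ u = ν (φ (b * u)) := fun φ u => rfl
  have hνpw : ∀ (w : ZMod p) x, ν (pw σ w x) = pw σ ((a : ZMod p) * w) (ν x) := fun w x => by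
    have h : ∀ i : ℕ, ν * σ ^ i = σ ^ (a * i) * ν := fun i => by
      induction i with
      | zero => simp
      | succ i ih =>
        rw [pow_succ, ← mul_assoc, ih, mul_assoc, hνσ, ← mul_assoc, ← pow_add, mul_add_one]
    rw [pw, pw, ← End.mul_apply, h, End.mul_apply]
    refine LinearMap.congr_fun (pow_modEq hσ ?_) _
    rw [← ZMod.natCast_eq_natCast_iff, Nat.cast_mul, ZMod.natCast_zmod_val, ZMod.natCast_zmod_val]
  have hπν : ∀ φ, π (νP φ) = ν (π φ) := fun φ => by
    rw [hπa, hπa, map_sum]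
    refine Fintype.sum_equiv (Equiv.mulLeft₀ b (inv_ne_zero hacast)) _ _ fun u => ?_
    show pw σ u (ν (φ (b * u))) = ν (pw σ (b * u) (φ (b * u)))
    rw [hνpw, hb, mul_inv_cancel_left₀ hacast]
  have hνmem : ∀ φ ∈ L1, νP φ ∈ L1 := fun φ hφ => by
    rw [hL1mem] at hφ ⊢
    rw [hπν, hφ, map_zero]
  let ν1 : End R L1 := νP.restrict hνmem
  have hνPpow : ∀ (i : ℕ) (φ : L1) u, ((ν1 ^ i) φ).1 u = (ν ^ i) (φ.1 (b ^ i * u)) := fun i => by
    induction i with
    | zero => intro φ u; simp
    | succ i ih =>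
      intro φ u
      rw [pow_succ', End.mul_apply, pow_succ' ν, End.mul_apply]
      show νP ((ν1 ^ i) φ).1 u = _
      rw [hνP, ih, ← mul_assoc, ← pow_succ]
  have hν1 : ν1 ^ (p - 1) = 1 := LinearMap.ext fun φ => Subtype.ext (funext fun u => by
    rw [hνPpow, hν, ZMod.pow_card_sub_one_eq_one (inv_ne_zero hacast), one_mul]; rfl)
  have hν1σ1 : ν1 * σ1 = σ1 ^ a * ν1 := LinearMap.ext fun φ => Subtype.ext (funext fun u => by
    rw [End.mul_apply, End.mul_apply, hσ1pow]
    show νP (transl R M 1 φ.1) u = transl R M (a : ZMod p) (νP φ.1) u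
    rw [hνP, transl_apply, transl_apply, hνP, mul_sub, hb, inv_mul_cancel₀ hacast])
  -- the trace on the shift
  have hS1 : ∑ i ∈ Finset.Ico 1 p, LinearMap.trace R L1 (σ1 ^ i) = ((-S : ℤ) : R) := by
    rw [Int.cast_neg, ← hS, ← Finset.sum_neg_distrib]
    refine Finset.sum_congr rfl fun i hi => ?_
    rw [eq_neg_iff_add_eq_zero]
    set T := transl R M (i : ZMod p) with hT
    have hi0 : (i : ZMod p) ≠ 0 := by
      rw [Ne, ZMod.natCast_eq_zero_iff]
      intro hdvd
      rw [Finset.mem_Ico] at hi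
      exact absurd (Nat.le_of_dvd (by omega) hdvd) (not_le.2 hi.2)
    have hsplit : T = T ∘ₗ (L1.subtype ∘ₗ r) + T ∘ₗ (δ ∘ₗ π) := by
      rw [← LinearMap.comp_add]
      refine LinearMap.ext fun φ => ?_
      simp [r]
    have h0 : LinearMap.trace R (ZMod p → M) T = 0 := by
      have hdec : T = ∑ u : ZMod p, (LinearMap.single R (fun _ => M) (u + (i : ZMod p))) ∘ₗ
          LinearMap.proj u := by
        refine LinearMap.ext fun φ => funext fun v => ?_
        rw [LinearMap.sum_apply, Finset.sum_apply, Finset.sum_eq_single (v - (i : ZMod p))]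
        · simp [hT]
        · intro u _ hu
          simp only [LinearMap.comp_apply, LinearMap.proj_apply, LinearMap.single_apply,
            Pi.single_apply]
          rw [if_neg]
          intro h
          exact hu (by rw [h, add_sub_cancel_right])
        · simp
      rw [hdec, map_sum]
      refine Finset.sum_eq_zero fun u _ => ?_
      rw [LinearMap.trace_comp_comm']
      convert map_zero (LinearMap.trace R M) using 2
      refine LinearMap.ext fun y => ?_
      simp [hi0]
    have hA : LinearMap.trace R (ZMod p → M) (T ∘ₗ (L1.subtype ∘ₗ r)) =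
        LinearMap.trace R L1 (σ1 ^ i) := by
      have hTι : T ∘ₗ L1.subtype = L1.subtype ∘ₗ (σ1 ^ i) :=
        LinearMap.ext fun φ => (hσ1pow i φ).symm
      rw [← LinearMap.comp_assoc, hTι, LinearMap.comp_assoc, ← LinearMap.trace_comp_comm',
        LinearMap.comp_assoc]
      congr 1
      refine LinearMap.ext fun φ => ?_
      show (σ1 ^ i) (r φ.1) = _
      rw [hr]
    have hB : LinearMap.trace R (ZMod p → M) (T ∘ₗ (δ ∘ₗ π)) = LinearMap.trace R M (σ ^ i) := by
      rw [← LinearMap.comp_assoc, ← LinearMap.trace_comp_comm', ← LinearMap.comp_assoc]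
      congr 1
      refine LinearMap.ext fun y => ?_
      show π (T (δ y)) = _
      rw [hT, hπT, hπδ, pw]
      exact LinearMap.congr_fun (pow_modEq hσ (by
        rw [← ZMod.natCast_eq_natCast_iff, ZMod.natCast_zmod_val])) y
    rw [← hA, ← hB, ← map_add, ← hsplit, h0]
  obtain ⟨s, v, hbound, hfix, hdvd, hf⟩ := exists_frame hirr hω hcinv σ1 ν1 hσ1 hν1 ha hν1σ1 hS1
  -- fixed elements are constant
  have hconst : ∀ j w, (v j).1 w = (v j).1 0 := by
    intro j w
    have h : ∀ i : ℕ, (σ1 ^ i) (v j) = v j := fun i => by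
      induction i with
      | zero => rfl
      | succ i ih => rw [pow_succ, End.mul_apply, hfix, ih]
    have h1 := congrFun (congrArg Subtype.val (h w.val)) w
    rw [hσ1pow, transl_apply, ZMod.natCast_zmod_val, sub_self] at h1
    exact h1.symm
  refine ⟨s, fun j => (v j).1 0, hbound, fun j => ?_, fun j c hc => ?_, fun c => ?_⟩
  · have h := (hL1mem _).1 (v j).2
    rw [hπa, Finset.sum_congr rfl fun u _ => by rw [hconst j u], ← LinearMap.sum_apply, sum_pw] at h
    exact h
  · obtain ⟨y, hy⟩ := hc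
    rw [LinearMap.sub_apply, End.one_apply] at hy
    refine hdvd j c ?_
    let ψ : ZMod p → M := δ (σ y) - transl R M (1 : ZMod p) (δ y)
    have hψ : ψ ∈ L1 := by
      rw [hL1mem]
      simp only [ψ, map_sub, hπδ, hπT, pw_one, sub_self]
    refine ⟨⟨ψ, hψ⟩, Subtype.ext (funext fun w => ?_)⟩
    rw [nrm, LinearMap.sum_apply, Submodule.coe_sum, Finset.sum_apply]
    have hterm : ∀ i : ℕ, ((σ1 ^ i) ⟨ψ, hψ⟩).1 w = ψ (w - (i : ZMod p)) := fun i => by
      rw [hσ1pow, transl_apply]
    rw [Finset.sum_congr rfl fun i _ => hterm i]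
    show _ = c • (v j).1 w
    rw [hconst j w, ← hy]
    have hbij : ∑ i ∈ Finset.range p, ψ (w - (i : ZMod p)) = ∑ u : ZMod p, ψ u := by
      symm
      refine Finset.sum_bij (fun u _ => (w - u).val)
        (fun u _ => Finset.mem_range.2 (ZMod.val_lt _))
        (fun u _ u' _ h => by simpa using ZMod.val_injective p h)
        (fun i hi => ⟨w - (i : ZMod p), Finset.mem_univ _, by
          rw [sub_sub_cancel, ZMod.val_natCast_of_lt (Finset.mem_range.1 hi)]⟩)
        fun u _ => by rw [ZMod.natCast_zmod_val, sub_sub_cancel]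
    rw [hbij]
    simp only [ψ, Pi.sub_apply, Finset.sum_sub_distrib, transl_apply]
    rw [Fintype.sum_equiv (Equiv.subRight (1 : ZMod p)) (fun u => δ y (u - 1)) (fun u => δ y u)
      fun u => rfl]
    simp [hδ]
  · obtain ⟨f1, hf1σ, hf1ν, hf1v⟩ := hf c
    have hf1T : ∀ (w : ZMod p) (φ : L1),
        (f1 ⟨_, hTmem w φ.1 φ.2⟩).1 = transl R M w (f1 φ).1 := by
      intro w φ
      have h : (σ1 ^ w.val) φ = ⟨_, hTmem w φ.1 φ.2⟩ :=
        Subtype.ext (by rw [hσ1pow, ZMod.natCast_zmod_val])
      have hc' : Commute f1 (σ1 ^ w.val) := Commute.pow_right hf1σ w.val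
      have h' := congrArg Subtype.val (LinearMap.congr_fun hc'.eq φ)
      rw [End.mul_apply, End.mul_apply, h, hσ1pow, ZMod.natCast_zmod_val] at h'
      exact h'
    let Φ : End R (ZMod p → M) :=
      LinearMap.pi fun u => (LinearMap.proj 0).comp
        (L1.subtype.comp (f1.comp (r.comp (transl R M (-u)))))
    have hΦ : ∀ φ u, Φ φ u = (f1 (r (transl R M (-u) φ))).1 0 := fun φ u => rfl
    have hΦT : ∀ w φ, Φ (transl R M w φ) = transl R M w (Φ φ) := fun w φ => funext fun u => by
      rw [hΦ, transl_apply, hΦ, ← End.mul_apply, transl_mul, show -u + w = -(u - w) by ring]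
    have hΦL : ∀ φ : L1, Φ φ.1 = (f1 φ).1 := fun φ => funext fun u => by
      rw [hΦ, show transl R M (-u) φ.1 = (⟨_, hTmem (-u) φ.1 φ.2⟩ : L1).1 from rfl, hr, hf1T,
        transl_apply, sub_neg_eq_add, zero_add]
    let f : End R M := π.comp (Φ.comp δ)
    have hfσ : f * σ = σ * f := LinearMap.ext fun y => by
      show π (Φ (δ (σ y))) = σ (π (Φ (δ y)))
      have he : δ (σ y) - transl R M (1 : ZMod p) (δ y) ∈ L1 := by
        rw [hL1mem, map_sub, hπT, hπδ, hπδ, pw_one, sub_self]
      have h2 : π (Φ (δ (σ y))) = π (Φ (transl R M (1 : ZMod p) (δ y))) := by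
        rw [← sub_eq_zero, ← map_sub, ← map_sub, hΦL ⟨_, he⟩]
        exact (hL1mem _).1 (f1 _).2
      rw [h2, hΦT, hπT, pw_one]
    have hfν : f * ν = ν * f := LinearMap.ext fun y => by
      show π (Φ (δ (ν y))) = ν (π (Φ (δ y)))
      have hδν : δ (ν y) = νP (δ y) := funext fun u => by
        rw [hνP, hδ, hδ]
        simp [hb, hacast, apply_ite ν]
      have hrν : ∀ φ, r (νP φ) = ν1 (r φ) := fun φ => Subtype.ext (by
        show νP φ - δ (π (νP φ)) = νP (φ - δ (π φ))
        rw [hπν, map_sub]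
        congr 1
        funext u
        rw [hνP, hδ, hδ]
        simp [hb, hacast, apply_ite ν])
      have hΦν : ∀ φ, Φ (νP φ) = νP (Φ φ) := fun φ => funext fun u => by
        rw [hΦ, hνP, hΦ]
        have hcomm : transl R M (-u) (νP φ) = νP (transl R M (-(b * u)) φ) := funext fun w => by
          rw [transl_apply, hνP, hνP, transl_apply]
          congr 2
          ring
        rw [hcomm, hrν, ← End.mul_apply f1, hf1ν, End.mul_apply]
        show νP _ 0 = _
        rw [hνP, mul_zero]
        rfl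
      rw [hδν, hΦν, hπν]
    refine ⟨f, hfσ, hfν, fun j => ?_⟩
    set x := (v j).1 0 with hx
    have hsum : ∑ u : ZMod p, Φ (δ x) u = c j • x := by
      have hvc : (v j).1 = ∑ u : ZMod p, transl R M u (δ x) := funext fun w => by
        rw [hconst j w, Finset.sum_apply, Finset.sum_eq_single w (fun u _ hu => by
          rw [transl_apply, hδ, if_neg (sub_ne_zero.2 (Ne.symm hu))]) (by simp),
          transl_apply, hδ, if_pos (sub_self w)]
      have h1 : Φ (v j).1 0 = c j • x := by rw [hΦL, hf1v]; rfl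
      rw [hvc, map_sum, Finset.sum_congr rfl fun u _ => hΦT u (δ x), Finset.sum_apply] at h1
      rw [← h1]
      exact Fintype.sum_equiv (Equiv.neg (ZMod p)) _ _ fun u => by simp
    show π (Φ (δ x)) - c j • x ∈ _
    rw [← hsum, hπa, ← Finset.sum_sub_distrib]
    refine sum_mem fun u _ => ⟨(∑ i ∈ Finset.range u.val, σ ^ i) (Φ (δ x) u), ?_⟩
    rw [← End.mul_apply, mul_geom_sum, LinearMap.sub_apply, End.one_apply]
    rfl

end Coframe

end H85.D1
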