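import Cfsg.Agent.H85.D1.Shift

/-!
Defect one (helper85): transfer of endomorphisms from the normalizer of a subgroup of order `p`
to the group; endomorphisms of a lattice realize prescribed eigenvalues on a Tate group.
-/

set_option autoImplicit false
set_option linter.style.haveILetI false
set_option linter.unusedSectionVars false

open Module

namespace H85.D1

universe u v w

/-- Congruences propagate to polynomials. -/
theorem aeval_congr_mem {R : Type u} [CommRing R] {M : Type v} [AddCommGroup M] [Module R M]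
    {N : Submodule R M} {g : End R M} (hN : ∀ x ∈ N, g x ∈ N) {v : M} {c : R}
    (h : g v - c • v ∈ N) (q : Polynomial R) : Polynomial.aeval g q v - q.eval c • v ∈ N := by
  induction q using Polynomial.induction_on with
  | C a => simp
  | add f₁ f₂ h₁ h₂ =>
    have := add_mem h₁ h₂
    rw [map_add, LinearMap.add_apply, Polynomial.eval_add, add_smul]
    convert this using 1
    abel
  | monomial n a ih =>
    have h1 := add_mem (hN _ ih) (N.smul_mem ((Polynomial.C a * Polynomial.X ^ n).eval c) h)
    rw [map_sub, map_smul] at h1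
    rw [pow_succ, ← mul_assoc, map_mul _ (Polynomial.C a * Polynomial.X ^ n) Polynomial.X,
      Polynomial.aeval_X, End.mul_apply, Polynomial.eval_mul, Polynomial.eval_X, mul_smul]
    have hc : Polynomial.aeval g (Polynomial.C a * Polynomial.X ^ n) (g v) =
        g (Polynomial.aeval g (Polynomial.C a * Polynomial.X ^ n) v) := by
      have hc := ((Commute.all (Polynomial.C a * Polynomial.X ^ n) Polynomial.X).map
        (Polynomial.aeval (R := R) g)).eq
      rw [Polynomial.aeval_X] at hc
      exact LinearMap.congr_fun hc v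
    rw [hc]
    rw [smul_sub] at h1
    convert h1 using 1
    abel

variable {R : Type u} [CommRing R] [IsDomain R] [IsPrincipalIdealRing R] [CharZero R]
variable {L : Type v} [AddCommGroup L] [Module R L] [Module.Free R L] [Module.Finite R L]
variable {G : Type w} [Group G] [Finite G] {p : ℕ} [hp : Fact p.Prime]

/-- An element of a subgroup of order `p` fixing a coset of the normalizer fixes only the trivial
one. -/
theorem mem_normalizer_of_fixed (P : Sylow p G) {u : G} (hu : Subgroup.zpowers u = (P : Subgroup G))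
    {x : G} (h : x⁻¹ * u * x ∈ Subgroup.normalizer ((P : Subgroup G) : Set G)) :
    x ∈ Subgroup.normalizer ((P : Subgroup G) : Set G) := by
  set v := x⁻¹ * u * x with hv
  have hvconj : v = MulAut.conj x⁻¹ u := by rw [hv]; simp [mul_assoc]
  have hvp : IsPGroup p (Subgroup.zpowers v) := by
    rw [hvconj, show MulAut.conj x⁻¹ u = (MulAut.conj x⁻¹).toMonoidHom u from rfl,
      ← MonoidHom.map_zpowers]
    exact IsPGroup.map (hu ▸ P.2) _
  have hvP : v ∈ (P : Subgroup G) := by
    have h1 : v ∈ Subgroup.zpowers v ⊓ Subgroup.normalizer ((P : Subgroup G) : Set G) :=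
      ⟨Subgroup.mem_zpowers v, h⟩
    exact ((SetLike.ext_iff.1 (hvp.inf_normalizer_sylow P) v).1 h1).2
  have hle : (P : Subgroup G).map (MulAut.conj x⁻¹).toMonoidHom ≤ (P : Subgroup G) := by
    conv_lhs => rw [← hu, MonoidHom.map_zpowers]
    rw [Subgroup.zpowers_le, MulEquiv.coe_toMonoidHom, ← hvconj]
    exact hvP
  have hcard : Nat.card ((P : Subgroup G).map (MulAut.conj x⁻¹).toMonoidHom) =
      Nat.card (P : Subgroup G) :=
    Subgroup.card_map_of_injective (MulAut.conj x⁻¹).injective
  have heq := Subgroup.eq_of_le_of_card_ge hle hcard.ge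
  rw [← inv_mem_iff, Subgroup.mem_normalizer_iff]
  intro y
  constructor
  · intro hy
    rw [← heq]
    exact ⟨y, hy, rfl⟩
  · intro hy
    rw [← heq] at hy
    obtain ⟨z, hz, hzy⟩ := hy
    have : z = y := (MulAut.conj x⁻¹).injective (by simpa using hzy)
    rwa [← this]

variable (ρ : Representation R G L)

/-- Endomorphisms commuting with `G` realize prescribed eigenvalues on one of the two Tate groups
of the `K`-fixed points. -/
theorem exists_transfer (hirr : Irreducible (p : R)) {ω : R} (hω : IsPrimitiveRoot ω (p - 1))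
    {cinv : R} (hcinv : cinv * ((p - 1 : ℕ) : R) = 1)
    (P : Sylow p G) {u n0 : G} (hu : Subgroup.zpowers u = (P : Subgroup G)) (huord : orderOf u = p)
    {a : ℕ} (ha : ¬ p ∣ a) (hn0 : n0 * u = u ^ a * n0)
    (K : Subgroup G) [Fintype K] (hKc : ∀ y ∈ K, y * u = u * y) (hKn : ∀ y ∈ K, n0 * y * n0⁻¹ ∈ K)
    (hn0K : n0 ^ (p - 1) ∈ K)
    (hgen : ∀ x ∈ Subgroup.normalizer ((P : Subgroup G) : Set G),
      ∃ i j : ℕ, ∃ y ∈ K, x = u ^ i * n0 ^ j * y)
    {kinv : R} (hkinv : kinv * (Fintype.card K : R) = 1) {S : ℤ}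
    (hS : ∑ i ∈ Finset.Ico 1 p, ∑ y : K, LinearMap.trace R L (ρ (u ^ i * y)) =
      (Fintype.card K : R) * (S : R)) :
    ∃ s : ℕ, |S| ≤ (p : ℤ) * s ∧ ∀ c : Fin s → R, ∃ g : End R L,
      (∀ x, g * ρ x = ρ x * g) ∧
        ∀ q : Polynomial R, Polynomial.aeval g q = 0 → ∀ j, (p : R) ∣ q.eval (c j) := by
  classical
  set N := Subgroup.normalizer ((P : Subgroup G) : Set G) with hN
  have hup : u ^ p = 1 := huord ▸ pow_orderOf_eq_one u
  let Q0 : End R L := kinv • ∑ y : K, ρ (y : G)
  have hρQ : ∀ y : K, ρ (y : G) * Q0 = Q0 := fun y => by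
    simp only [Q0, mul_smul_comm, Finset.mul_sum, ← map_mul]
    congr 1
    exact Fintype.sum_equiv (Equiv.mulLeft y) _ _ fun z => rfl
  have hQρ : ∀ y : K, Q0 * ρ (y : G) = Q0 := fun y => by
    simp only [Q0, smul_mul_assoc, Finset.sum_mul, ← map_mul]
    congr 1
    exact Fintype.sum_equiv (Equiv.mulRight y) _ _ fun z => rfl
  have hQQ : Q0 * Q0 = Q0 := by
    conv_lhs => arg 1; simp only [Q0]
    rw [smul_mul_assoc, Finset.sum_mul, Finset.sum_congr rfl fun y _ => hρQ y, Finset.sum_const,
      Finset.card_univ, ← Nat.cast_smul_eq_nsmul R, smul_smul, hkinv, one_smul]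
  have hQu : Q0 * ρ u = ρ u * Q0 := by
    simp only [Q0, mul_smul_comm, smul_mul_assoc, Finset.mul_sum, Finset.sum_mul, ← map_mul]
    congr 1
    exact Finset.sum_congr rfl fun y _ => by rw [hKc y y.2]
  have hQn : Q0 * ρ n0 = ρ n0 * Q0 := by
    simp only [Q0, mul_smul_comm, smul_mul_assoc, Finset.mul_sum, Finset.sum_mul, ← map_mul]
    congr 1
    let e : K → K := fun y => ⟨n0 * y * n0⁻¹, hKn y y.2⟩
    have he : Function.Bijective e := Finite.injective_iff_bijective.1 fun y z h => by
      have h' := congrArg Subtype.val h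
      simpa [e] using h'
    refine (Fintype.sum_bijective e he _ _ fun y => ?_).symm
    simp [e, mul_assoc]
  set M := LinearMap.range Q0 with hM
  have hMfix : ∀ x ∈ M, Q0 x = x := by
    rintro _ ⟨z, rfl⟩
    rw [← End.mul_apply, hQQ]
  have hMem : ∀ x, Q0 x ∈ M := fun x => ⟨x, rfl⟩
  have hcommM : ∀ {T : End R L}, Q0 * T = T * Q0 → ∀ x ∈ M, T x ∈ M := fun {T} hT x hx =>
    ⟨T x, by rw [← End.mul_apply, hT, End.mul_apply, hMfix x hx]⟩
  let σ : End R M := (ρ u).restrict (hcommM hQu)
  let ν : End R M := (ρ n0).restrict (hcommM hQn)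
  have hσpow : ∀ (i : ℕ) (x : M), ((σ ^ i) x : L) = ρ (u ^ i) (x : L) := fun i => by
    induction i with
    | zero => simp
    | succ i ih =>
      intro x
      rw [pow_succ', End.mul_apply, pow_succ', map_mul, End.mul_apply, ← ih]
      rfl
  have hνpow : ∀ (i : ℕ) (x : M), ((ν ^ i) x : L) = ρ (n0 ^ i) (x : L) := fun i => by
    induction i with
    | zero => simp
    | succ i ih =>
      intro x
      rw [pow_succ', End.mul_apply, pow_succ', map_mul, End.mul_apply, ← ih]
      rfl
  have hσ : σ ^ p = 1 := LinearMap.ext fun x => Subtype.ext (by rw [hσpow, hup]; simp)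
  have hν : ν ^ (p - 1) = 1 := LinearMap.ext fun x => Subtype.ext (by
    rw [hνpow, ← hMfix _ x.2, ← End.mul_apply, hρQ ⟨_, hn0K⟩]
    simp [hMfix _ x.2])
  have hνσ : ν * σ = σ ^ a * ν := LinearMap.ext fun x => Subtype.ext (by
    rw [End.mul_apply, End.mul_apply, hσpow]
    show ρ n0 (ρ u (x : L)) = ρ (u ^ a) (ρ n0 (x : L))
    rw [← End.mul_apply, ← map_mul, ← End.mul_apply, ← map_mul, hn0])
  have hStr : ∑ i ∈ Finset.Ico 1 p, LinearMap.trace R M (σ ^ i) = (S : R) := by
    have htr : ∀ i : ℕ, LinearMap.trace R M (σ ^ i) =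
        kinv * ∑ y : K, LinearMap.trace R L (ρ (u ^ i * y)) := fun i => by
      have h1 : LinearMap.trace R L (ρ (u ^ i) * Q0) = LinearMap.trace R M (σ ^ i) := by
        let π' : L →ₗ[R] M := Q0.codRestrict M hMem
        have e : ρ (u ^ i) * Q0 = (M.subtype ∘ₗ (σ ^ i)) ∘ₗ π' :=
          LinearMap.ext fun z => (hσpow i ⟨Q0 z, hMem z⟩).symm
        rw [e, ← LinearMap.trace_comp_comm']
        congr 1
        refine LinearMap.ext fun x => Subtype.ext ?_
        show Q0 (((σ ^ i) x : M) : L) = _
        exact hMfix _ ((σ ^ i) x).2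
      rw [← h1, show ρ (u ^ i) * Q0 = kinv • ∑ y : K, ρ (u ^ i * y) by
          simp only [Q0, mul_smul_comm, Finset.mul_sum, ← map_mul],
        map_smul, map_sum, smul_eq_mul]
    rw [Finset.sum_congr rfl fun i _ => htr i, ← Finset.mul_sum, hS, ← mul_assoc, hkinv, one_mul]
  -- the transfer
  haveI : Fintype (G ⧸ N) := Fintype.ofFinite _
  have transfer : ∀ f : End R M, f * σ = σ * f → f * ν = ν * f →
      ∃ g : End R L, (∀ x, g * ρ x = ρ x * g) ∧ ∃ h0 : End R L,
        g = M.subtype ∘ₗ f ∘ₗ Q0.codRestrict M hMem +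
          ∑ i ∈ Finset.range p, ρ (u ^ i) * h0 * ρ ((u ^ i)⁻¹) := by
    intro f hfσ hfν
    set F : End R L := M.subtype ∘ₗ f ∘ₗ Q0.codRestrict M hMem with hF
    have hFapp : ∀ z, F z = (f ⟨Q0 z, hMem z⟩ : L) := fun z => rfl
    have hFu : Commute F (ρ u) := LinearMap.ext fun z => by
      rw [End.mul_apply, End.mul_apply, hFapp, hFapp]
      have h1 : (⟨Q0 (ρ u z), hMem _⟩ : M) = σ ⟨Q0 z, hMem z⟩ :=
        Subtype.ext (LinearMap.congr_fun hQu z)
      rw [h1, ← End.mul_apply, hfσ]
      rfl
    have hFn : Commute F (ρ n0) := LinearMap.ext fun z => by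
      rw [End.mul_apply, End.mul_apply, hFapp, hFapp]
      have h1 : (⟨Q0 (ρ n0 z), hMem _⟩ : M) = ν ⟨Q0 z, hMem z⟩ :=
        Subtype.ext (LinearMap.congr_fun hQn z)
      rw [h1, ← End.mul_apply, hfν]
      rfl
    have hFK : ∀ y : K, Commute F (ρ (y : G)) := fun y => LinearMap.ext fun z => by
      rw [End.mul_apply, End.mul_apply, hFapp, hFapp]
      have h1 : (⟨Q0 (ρ (y : G) z), hMem _⟩ : M) = ⟨Q0 z, hMem z⟩ :=
        Subtype.ext (LinearMap.congr_fun (hQρ y) z)
      rw [h1]
      conv_rhs => rw [← hMfix _ (f ⟨Q0 z, hMem z⟩).2, ← End.mul_apply, hρQ y,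
        hMfix _ (f ⟨Q0 z, hMem z⟩).2]
    have hFN : ∀ x ∈ N, ρ x * F * ρ x⁻¹ = F := fun x hx => by
      obtain ⟨i, j, y, hy, rfl⟩ := hgen x hx
      have hc : Commute F (ρ (u ^ i * n0 ^ j * y)) := by
        rw [map_mul, map_mul, map_pow, map_pow]
        exact ((hFu.pow_right i).mul_right (hFn.pow_right j)).mul_right (hFK ⟨y, hy⟩)
      rw [← hc.eq, mul_assoc, ← map_mul, mul_inv_cancel, map_one, mul_one]
    let Φ : G ⧸ N → End R L := fun q => ρ q.out * F * ρ q.out⁻¹
    have hΦ : ∀ x : G, Φ (x : G ⧸ N) = ρ x * F * ρ x⁻¹ := fun x => by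
      obtain ⟨n, hn⟩ := QuotientGroup.mk_out_eq_mul N x
      show ρ _ * F * ρ _ = _
      rw [hn, map_mul, mul_inv_rev, map_mul]
      calc ρ x * ρ (n : G) * F * (ρ (n : G)⁻¹ * ρ x⁻¹)
          = ρ x * (ρ (n : G) * F * ρ (n : G)⁻¹) * ρ x⁻¹ := by simp only [mul_assoc]
        _ = ρ x * F * ρ x⁻¹ := by rw [hFN _ n.2]
    have hΦsmul : ∀ (x : G) (q : G ⧸ N), Φ (x • q) = ρ x * Φ q * ρ x⁻¹ := fun x q => by
      induction q using QuotientGroup.induction_on with
      | H y =>
        show Φ ((x * y : G) : G ⧸ N) = _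
        rw [hΦ, hΦ, map_mul, mul_inv_rev, map_mul]
        simp only [mul_assoc]
    refine ⟨∑ q, Φ q, fun x => ?_, ?_⟩
    · have h1 : ∑ q, Φ q = ρ x * (∑ q, Φ q) * ρ x⁻¹ := by
        rw [Finset.mul_sum, Finset.sum_mul, ← Finset.sum_congr rfl fun q _ => hΦsmul x q]
        exact (Equiv.sum_comp (MulAction.toPerm x) Φ).symm
      conv_lhs => rw [h1, mul_assoc, ← map_mul, inv_mul_cancel, map_one, mul_one]
    -- orbits of `u`
    set base : G ⧸ N := ((1 : G) : G ⧸ N) with hbase
    let rel : Setoid (G ⧸ N) := MulAction.orbitRel (Subgroup.zpowers u) (G ⧸ N)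
    have hfix : ∀ q : G ⧸ N, u • q = q → q = base := fun q hq => by
      induction q using QuotientGroup.induction_on with
      | H y =>
        have h1 : ((u * y : G) : G ⧸ N) = (y : G ⧸ N) := hq
        rw [QuotientGroup.eq] at h1
        have h2 : y⁻¹ * u * y ∈ N := by
          have := N.inv_mem h1
          simpa [mul_assoc] using this
        rw [hbase, QuotientGroup.eq]
        simpa [hN] using mem_normalizer_of_fixed P hu h2
    have hbasefix : ∀ i : ℕ, u ^ i • base = base := fun i => by
      have hmem : u ^ i ∈ N :=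
        Subgroup.le_normalizer (hu ▸ Subgroup.npow_mem_zpowers u i)
      show ((u ^ i * 1 : G) : G ⧸ N) = ((1 : G) : G ⧸ N)
      rw [QuotientGroup.eq, mul_one, mul_one]
      exact N.inv_mem hmem
    set T : Finset (G ⧸ N) := Finset.univ.filter fun q =>
      q ≠ base ∧ (Quotient.mk rel q).out = q with hT
    refine ⟨∑ q ∈ T, Φ q, ?_⟩
    rw [← Finset.add_sum_erase _ _ (Finset.mem_univ base), hbase, hΦ, map_one, inv_one, map_one,
      one_mul, mul_one]
    congr 1
    have hinj : ∀ q, q ≠ base → ∀ i < p, ∀ j < p, u ^ i • q = u ^ j • q → i = j := by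
      intro q hq i hi j hj hij
      by_contra hne
      wlog hlt : i < j generalizing i j
      · exact this j hj i hi hij.symm (Ne.symm hne) (by omega)
      have h1 : u ^ (j - i) • q = q := by
        refine smul_left_cancel (u ^ i) ?_
        rw [smul_smul, ← pow_add, Nat.add_sub_cancel' hlt.le, hij]
      have hcop : Nat.Coprime (j - i) (orderOf u) := by
        rw [huord]
        exact (Nat.Coprime.symm ((hp.out.coprime_iff_not_dvd).2 fun h =>
          absurd (Nat.le_of_dvd (by omega) h) (by omega)))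
      obtain ⟨m, hm⟩ := exists_pow_eq_self_of_coprime hcop
      have h2 : ∀ m : ℕ, (u ^ (j - i)) ^ m • q = q := fun m => by
        induction m with
        | zero => rw [pow_zero, one_smul]
        | succ m ih => rw [pow_succ, mul_smul, h1, ih]
      exact hq (hfix q (by conv_lhs => rw [← hm, h2 m]))
    have horb : ∀ (q : G ⧸ N) (i : ℕ), Quotient.mk rel (u ^ i • q) = Quotient.mk rel q := fun q i =>
      Quotient.sound (⟨⟨u ^ i, Subgroup.npow_mem_zpowers u i⟩, rfl⟩ :
        u ^ i • q ∈ MulAction.orbit (Subgroup.zpowers u) q)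
    have hmemT : ∀ {q : G ⧸ N}, q ∈ T ↔ q ≠ base ∧ (Quotient.mk rel q).out = q := fun {q} => by
      simp [hT]
    calc ∑ q ∈ Finset.univ.erase base, Φ q
        = ∑ x ∈ T ×ˢ Finset.range p, Φ (u ^ x.2 • x.1) := by
          symm
          refine Finset.sum_bij (fun x _ => u ^ x.2 • x.1) ?_ ?_ ?_ fun _ _ => rfl
          · rintro ⟨q, i⟩ hx
            rw [Finset.mem_product, hmemT] at hx
            refine Finset.mem_erase.2 ⟨fun h => hx.1.1 ?_, Finset.mem_univ _⟩
            have h' := congrArg ((u ^ i)⁻¹ • ·) h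
            simp only [inv_smul_smul] at h'
            rw [h', inv_smul_eq_iff, hbasefix]
          · rintro ⟨q, i⟩ hx ⟨q', j⟩ hy h
            simp only [Finset.mem_product, hmemT, Finset.mem_range] at hx hy
            have hqq : q = q' := by
              rw [← hx.1.2, ← hy.1.2, ← horb q i, ← horb q' j]
              exact congrArg Quotient.out (congrArg (Quotient.mk rel) h)
            subst hqq
            rw [hinj q hx.1.1 i hx.2 j hy.2 h]
          · intro q hq
            have hqb := Finset.ne_of_mem_erase hq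
            have h1 : rel.r (Quotient.mk rel q).out q := Quotient.mk_out (s := rel) q
            obtain ⟨⟨v, hv⟩, hvq⟩ := (h1 : (Quotient.mk rel q).out ∈
              MulAction.orbit (Subgroup.zpowers u) q)
            change v • q = _ at hvq
            have hvinv : v⁻¹ ∈ Subgroup.zpowers u := inv_mem hv
            obtain ⟨k, hk⟩ : ∃ k : ℕ, u ^ k = v⁻¹ := by
              rwa [← mem_powers_iff_mem_zpowers] at hvinv
            refine ⟨((Quotient.mk rel q).out, k % p), Finset.mem_product.2 ⟨hmemT.2 ⟨?_, ?_⟩,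
              Finset.mem_range.2 (Nat.mod_lt _ hp.out.pos)⟩, ?_⟩
            · intro hb
              change (Quotient.mk rel q).out = base at hb
              refine hqb ?_
              rw [← inv_smul_smul v q, hvq, hb, ← hk, hbasefix]
            · rw [Quotient.out_eq]
            · show u ^ (k % p) • _ = q
              rw [← pow_eq_pow_mod k hup, hk, ← hvq, inv_smul_smul]
      _ = _ := by
          rw [Finset.sum_product, Finset.sum_comm]
          refine Finset.sum_congr rfl fun i _ => ?_
          rw [Finset.mul_sum, Finset.sum_mul]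
          exact Finset.sum_congr rfl fun q _ => hΦsmul _ q
  -- evaluate on the frame
  have finish : ∀ (T : End R M) (s : ℕ) (v : Fin s → M),
      (∀ j (c : R), c • v j ∈ LinearMap.range T → (p : R) ∣ c) → ∀ (c : Fin s → R) (g : End R L),
      (∀ x, g * ρ x = ρ x * g) → ∀ hgM : ∀ x ∈ M, g x ∈ M,
      (g.restrict hgM) * T = T * (g.restrict hgM) →
      (∀ j, g.restrict hgM (v j) - c j • v j ∈ LinearMap.range T) →
      ∀ q : Polynomial R, Polynomial.aeval g q = 0 → ∀ j, (p : R) ∣ q.eval (c j) := by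
    intro T s v hdvd c g _ hgM hgT hgv q hq j
    set gM : End R M := g.restrict hgM
    have hQ : ∀ x ∈ LinearMap.range T, gM x ∈ LinearMap.range T := by
      rintro _ ⟨z, rfl⟩
      exact ⟨gM z, (LinearMap.congr_fun hgT z).symm⟩
    have hzero : Polynomial.aeval gM q = 0 := by
      have h : ∀ (f : Polynomial R) (x : M),
          ((Polynomial.aeval gM f x : M) : L) = Polynomial.aeval g f (x : L) := fun f => by
        induction f using Polynomial.induction_on with
        | C a => intro x; simp
        | add f₁ f₂ h₁ h₂ => intro x; simp [h₁, h₂]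
        | monomial n a ih =>
          intro x
          rw [pow_succ, ← mul_assoc, map_mul _ (Polynomial.C a * Polynomial.X ^ n) Polynomial.X,
            map_mul _ (Polynomial.C a * Polynomial.X ^ n) Polynomial.X, Polynomial.aeval_X,
            Polynomial.aeval_X, End.mul_apply, End.mul_apply, ih]
          simp [gM]
      refine LinearMap.ext fun x => Subtype.ext ?_
      rw [h, hq]; rfl
    have h1 := aeval_congr_mem hQ (hgv j) q
    rw [hzero, LinearMap.zero_apply, zero_sub] at h1
    exact hdvd j _ (by simpa using neg_mem h1)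
  have hgM' : ∀ g : End R L, (∀ x, g * ρ x = ρ x * g) → ∀ x ∈ M, g x ∈ M := fun g hg =>
    hcommM (by
      simp only [Q0, mul_smul_comm, smul_mul_assoc, Finset.mul_sum, Finset.sum_mul, hg])
  have hgσ : ∀ (g : End R L) (hg : ∀ x, g * ρ x = ρ x * g),
      g.restrict (hgM' g hg) * σ = σ * g.restrict (hgM' g hg) := fun g hg =>
    LinearMap.ext fun x => Subtype.ext (LinearMap.congr_fun (hg u) (x : L))
  rcases le_total 0 S with hS0 | hS0
  · obtain ⟨s, v, hbound, hfix, hdvd, hf⟩ := exists_frame hirr hω hcinv σ ν hσ hν ha hνσ hStr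
    refine ⟨s, by rw [abs_of_nonneg hS0]; exact hbound, fun c => ?_⟩
    obtain ⟨f, hfσ, hfν, hfv⟩ := hf c
    obtain ⟨g, hg, h0, hgeq⟩ := transfer f hfσ hfν
    refine ⟨g, hg, finish (nrm p σ) s v hdvd c g hg (hgM' g hg) ?_ fun j => ?_⟩
    · have hc : Commute (g.restrict (hgM' g hg)) (nrm p σ) :=
        Commute.sum_right _ _ _ fun i _ => Commute.pow_right (hgσ g hg) i
      exact hc.eq
    · refine ⟨⟨Q0 (h0 (v j : L)), hMem _⟩, Subtype.ext ?_⟩
      set x := (v j : L) with hx
      have hxM : Q0 x = x := hMfix _ (v j).2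
      have hxfix : ∀ i : ℕ, ρ ((u ^ i)⁻¹) x = x := fun i => by
        have h1 : ∀ k : ℕ, (σ ^ k) (v j) = v j := fun k => by
          induction k with
          | zero => rfl
          | succ k ih => rw [pow_succ, End.mul_apply, hfix, ih]
        have h2 := congrArg Subtype.val (h1 i)
        rw [hσpow, ← hx] at h2
        conv_lhs => rw [← h2, ← End.mul_apply, ← map_mul, inv_mul_cancel, map_one]
        rfl
      have hgx : g x = (f (v j) : L) + ∑ i ∈ Finset.range p, ρ (u ^ i) (h0 x) := by
        rw [hgeq, LinearMap.add_apply, LinearMap.sum_apply]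
        congr 1
        · show ((f ⟨Q0 x, hMem x⟩ : M) : L) = _
          congr 2
          exact Subtype.ext hxM
        · exact Finset.sum_congr rfl fun i _ => by rw [End.mul_apply, End.mul_apply, hxfix]
      have hgxM : Q0 (g x) = g x := hMfix _ (hgM' g hg x (v j).2)
      show _ = g x - c j • x
      rw [← hgxM, hgx, map_add, map_sum, hMfix _ (f (v j)).2, hfv j, nrm, LinearMap.sum_apply,
        Submodule.coe_sum, Submodule.coe_smul, add_sub_cancel_left]
      refine Finset.sum_congr rfl fun i _ => ?_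
      rw [hσpow]
      show ρ (u ^ i) (Q0 (h0 x)) = Q0 (ρ (u ^ i) (h0 x))
      have hc : Commute Q0 (ρ (u ^ i)) := by rw [map_pow]; exact Commute.pow_right hQu i
      exact (LinearMap.congr_fun hc.eq (h0 x)).symm
  · obtain ⟨s, v, hbound, hA, hdvd, hf⟩ := exists_coframe hirr hω hcinv σ ν hσ hν ha hνσ hStr
    refine ⟨s, by rw [abs_of_nonpos hS0]; exact hbound, fun c => ?_⟩
    obtain ⟨f, hfσ, hfν, hfv⟩ := hf c
    obtain ⟨g, hg, h0, hgeq⟩ := transfer f hfσ hfν
    refine ⟨g, hg, finish (σ - 1) s v hdvd c g hg (hgM' g hg) ?_ fun j => ?_⟩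
    · rw [mul_sub, sub_mul, mul_one, one_mul, hgσ g hg]
    · set gM := g.restrict (hgM' g hg)
      let hM0 : End R M := (Q0 * h0).restrict fun x _ => hMem (h0 x)
      have hgx : gM (v j) = f (v j) +
          ∑ i ∈ Finset.range p, (σ ^ i) (hM0 ((σ ^ (p - i)) (v j))) := by
        apply Subtype.ext
        rw [Submodule.coe_add, Submodule.coe_sum]
        show g (v j : L) = _
        rw [← hMfix _ (hgM' g hg _ (v j).2), hgeq, LinearMap.add_apply, LinearMap.sum_apply,
          map_add, map_sum]
        congr 1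
        · show Q0 ((f ⟨Q0 (v j : L), hMem _⟩ : M) : L) = _
          rw [hMfix _ (f _).2]
          congr 2
          exact Subtype.ext (hMfix _ (v j).2)
        · refine Finset.sum_congr rfl fun i hi => ?_
          rw [hσpow]
          show _ = ρ (u ^ i) (Q0 (h0 ((σ ^ (p - i)) (v j) : L)))
          rw [hσpow, End.mul_apply, End.mul_apply]
          have hinv : (u ^ i)⁻¹ = u ^ (p - i) := inv_eq_of_mul_eq_one_right (by
            rw [← pow_add, Nat.add_sub_cancel' (Finset.mem_range.1 hi).le, hup])
          have hc : Commute Q0 (ρ (u ^ i)) := by rw [map_pow]; exact Commute.pow_right hQu i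
          rw [hinv, ← End.mul_apply Q0, hc.eq, End.mul_apply]
      rw [hgx]
      have hsum : ∑ i ∈ Finset.range p, (σ ^ i) (hM0 ((σ ^ (p - i)) (v j))) ∈
          LinearMap.range (σ - 1) := by
        have h1 : ∑ i ∈ Finset.range p, hM0 ((σ ^ (p - i)) (v j)) = 0 := by
          rw [← map_sum]
          have h2 : ∑ i ∈ Finset.range p, (σ ^ (p - i)) (v j) = nrm p σ (σ (v j)) := by
            rw [nrm, LinearMap.sum_apply, ← Finset.sum_range_reflect]
            refine Finset.sum_congr rfl fun i hi => ?_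
            have := Finset.mem_range.1 hi
            rw [← End.mul_apply, ← pow_succ]
            congr 2
            omega
          rw [h2, ← End.mul_apply (nrm p σ), nrm_sigma hσ, hA, map_zero]
        rw [← sub_zero (∑ i ∈ Finset.range p, _), ← h1, ← Finset.sum_sub_distrib]
        refine sum_mem fun i _ => ⟨(∑ k ∈ Finset.range i, σ ^ k)
          (hM0 ((σ ^ (p - i)) (v j))), ?_⟩
        rw [← End.mul_apply, mul_geom_sum, LinearMap.sub_apply, End.one_apply]
      have := add_mem (hfv j) hsum
      convert this using 1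
      abel

end H85.D1
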